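import Mathlib
import Cfsg.Agent.H48.CrossB
import Cfsg.Agent.H61.SUCross
import Cfsg.Agent.H62.FrameSL
import Cfsg.Agent.H60.CrossA
import Cfsg.Agent.TitsThree.KSideO
import Cfsg.Agent.Nodes.WittInst
import Cfsg.Agent.ClassicalGeometry.CartanDieudonne
import Cfsg.Agent.H51.Mult
import Cfsg.Agent.LieClassical.OrthCenter
import Cfsg.Agent.LieClassical.OmegaReindex
set_option linter.all false

-- part: H48/OCross
section
/-!
# Cross characteristic: the odd dimensional orthogonal groups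

* `linO`, `phiO`: `SL(2, F)` acting on a quadratic space containing `⟨e, f⟩ ⟂ ⟨d⟩` (`e`, `f` hyperbolic, `Q d = 1`);
  the kernel has order dividing `2`;
* `card_ker_dvd_two`: a perfect central extension of `Ω_{2m+1}(q)`, `q` odd, `m ≥ 2`, with kernel of order prime to `q`
  has kernel of order dividing `2`.
-/

set_option autoImplicit false
set_option linter.unusedSectionVars false
set_option linter.style.haveILetI false

namespace Cfsg.Agent.H48.OCross

open QuadraticMap
open CoxeterSystem Cfsg.Agent.ChevalleyStructure.CoxeterGeom Cfsg.Agent.Tits.Roots Cfsg.Agent.Nodes.TypeC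
open Cfsg.Agent.Nodes.Comb Cfsg.Agent.Nodes.Reps Cfsg.Agent.Nodes.WittRoot Cfsg.Agent.Nodes.BNOf
open Cfsg.Agent.Nodes.WittRGD Cfsg.Agent.Nodes.RGDLib Cfsg.Agent.Nodes.WittAll Cfsg.Agent.Nodes
open Cfsg.Agent.LieClassical Cfsg.Agent.LieClassical.OrthCore Cfsg.Agent.LieClassical.OrthTrans
open Cfsg.Agent.LieClassical.OrthSimple Cfsg.Agent.LieClassical.OrthFinite
open Cfsg.Agent.TitsThree Cfsg.Agent.TitsThree.Siegel Cfsg.Agent.TitsThree.SiegelGen Cfsg.Agent.TitsThree.WittFrame
open Cfsg.Agent.TitsThree.WBridge Cfsg.Agent.TitsThree.FrameCN Cfsg.Agent.TitsThree.KSideO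
open Cfsg.Agent.H51.Mult Cfsg.Agent.H67 Cfsg.Agent.H67.Cross Cfsg.Agent.KFacts.MulOdd.Inst Cfsg.Agent.H48.CrossB
open Cfsg.Agent.ChevalleyStructure.SL2Hom (up lo mem_closure_SL2)
open scoped MatrixGroups

universe u

section Lin

variable {F : Type*} [Field F] {V : Type*} [AddCommGroup V] [Module F V] (Q : QuadraticForm F V) (e f d : V)

/-- `e`, `f` is a hyperbolic pair orthogonal to `d`, `Q d = 1`. -/
structure Triple : Prop where
  two : (2 : F) ≠ 0
  ee : polar Q e e = 0
  ff : polar Q f f = 0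
  ef : polar Q e f = 1
  ed : polar Q e d = 0
  fd : polar Q f d = 0
  dd : polar Q d d = 2

/-- The action of a matrix by conjugation on traceless matrices. -/
def linO (g : Matrix (Fin 2) (Fin 2) F) : V →ₗ[F] V where
  toFun v := v
    + ((g 0 0 * g 1 1 + g 0 1 * g 1 0 - 1) * (2⁻¹ * polar Q v d) + g 0 1 * g 1 1 * polar Q v e
        - g 0 0 * g 1 0 * polar Q v f) • d
    + ((g 0 0 ^ 2 - 1) * polar Q v f - 2 * g 0 0 * g 0 1 * (2⁻¹ * polar Q v d) - g 0 1 ^ 2 * polar Q v e) • e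
    + ((g 1 1 ^ 2 - 1) * polar Q v e + 2 * g 1 0 * g 1 1 * (2⁻¹ * polar Q v d) - g 1 0 ^ 2 * polar Q v f) • f
  map_add' v v' := by
    simp only [polar_add_left]; module
  map_smul' a v := by
    simp only [polar_smul_left, smul_eq_mul, RingHom.id_apply]; module

theorem linO_apply (g : Matrix (Fin 2) (Fin 2) F) (v : V) : linO Q e f d g v = v
    + ((g 0 0 * g 1 1 + g 0 1 * g 1 0 - 1) * (2⁻¹ * polar Q v d) + g 0 1 * g 1 1 * polar Q v e
        - g 0 0 * g 1 0 * polar Q v f) • d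
    + ((g 0 0 ^ 2 - 1) * polar Q v f - 2 * g 0 0 * g 0 1 * (2⁻¹ * polar Q v d) - g 0 1 ^ 2 * polar Q v e) • e
    + ((g 1 1 ^ 2 - 1) * polar Q v e + 2 * g 1 0 * g 1 1 * (2⁻¹ * polar Q v d) - g 1 0 ^ 2 * polar Q v f) • f := rfl

theorem linO_one (v : V) : linO Q e f d 1 v = v := by
  simp [linO_apply]

variable {Q e f d} (hT : Triple Q e f d)

include hT

theorem Triple.fe : polar Q f e = 1 := by rw [polar_comm]; exact hT.ef
theorem Triple.de : polar Q d e = 0 := by rw [polar_comm]; exact hT.ed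
theorem Triple.df : polar Q d f = 0 := by rw [polar_comm]; exact hT.fd

theorem linO_mul (g k : Matrix (Fin 2) (Fin 2) F) (v : V) :
    linO Q e f d g (linO Q e f d k v) = linO Q e f d (g * k) v := by
  have h2 := hT.two
  rw [linO_apply Q e f d k v]
  simp only [linO_apply, polar_add_left, polar_smul_left, hT.ee, hT.ff, hT.ef, hT.ed, hT.fd, hT.dd, hT.fe, hT.de,
    hT.df, smul_eq_mul, mul_zero, mul_one, add_zero, Matrix.mul_apply, Fin.sum_univ_two]
  match_scalars <;> field_simp <;> ring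

/-- **`SL(2, F)` on the triple.** -/
def phiO : SL(2, F) →* (V ≃ₗ[F] V) where
  toFun g := LinearEquiv.ofLinearMap (linO Q e f d g.1) (linO Q e f d (g⁻¹).1)
    (by
      ext v
      show linO Q e f d g.1 (linO Q e f d (g⁻¹).1 v) = v
      rw [linO_mul hT, ← Matrix.SpecialLinearGroup.coe_mul, mul_inv_cancel]
      exact linO_one Q e f d v)
    (by
      ext v
      show linO Q e f d (g⁻¹).1 (linO Q e f d g.1 v) = v
      rw [linO_mul hT, ← Matrix.SpecialLinearGroup.coe_mul, inv_mul_cancel]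
      exact linO_one Q e f d v)
  map_one' := by
    ext v
    exact linO_one Q e f d v
  map_mul' g k := by
    ext v
    exact (linO_mul hT g.1 k.1 v).symm

theorem phiO_apply (g : SL(2, F)) (v : V) : phiO hT g v = linO Q e f d g.1 v := rfl

theorem phiO_e (g : SL(2, F)) : phiO hT g e = (-(g.1 0 0 * g.1 1 0)) • d + (g.1 0 0 ^ 2) • e
    + (-(g.1 1 0 ^ 2)) • f := by
  rw [phiO_apply, linO_apply, hT.ee, hT.ef, hT.ed]
  module

theorem phiO_f (g : SL(2, F)) : phiO hT g f = (g.1 0 1 * g.1 1 1) • d + (-(g.1 0 1 ^ 2)) • e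
    + (g.1 1 1 ^ 2) • f := by
  rw [phiO_apply, linO_apply, hT.ff, hT.fe, hT.fd]
  module

theorem indep {a b c a' b' c' : F} (h : a • d + b • e + c • f = a' • d + b' • e + c' • f) :
    a = a' ∧ b = b' ∧ c = c' := by
  have h2 := hT.two
  refine ⟨?_, ?_, ?_⟩
  · have h1 := congrArg (fun v => polar Q v d) h
    simp only [polar_add_left, polar_smul_left, hT.ed, hT.fd, hT.dd, smul_eq_mul, mul_zero, add_zero] at h1
    exact mul_right_cancel₀ h2 h1
  · have h1 := congrArg (fun v => polar Q v f) h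
    simpa only [polar_add_left, polar_smul_left, hT.ef, hT.ff, hT.df, smul_eq_mul, mul_zero, add_zero, zero_add,
      mul_one] using h1
  · have h1 := congrArg (fun v => polar Q v e) h
    simpa only [polar_add_left, polar_smul_left, hT.ee, hT.fe, hT.de, smul_eq_mul, mul_zero, add_zero, zero_add,
      mul_one] using h1

/-- Matrices acting diagonally on `e`, `f` and trivially on `e`. -/
theorem phiO_eq_one {g : SL(2, F)} (he : phiO hT g e = e) {l : F} (hf : phiO hT g f = l • f) :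
    g = 1 ∨ g = -1 := by
  rw [phiO_e] at he
  rw [phiO_f] at hf
  have h1 := indep hT (a' := 0) (b' := 1) (c' := 0) (by rw [he]; module)
  have h2 := indep hT (a' := 0) (b' := 0) (c' := l) (by rw [hf]; module)
  have h10 : g.1 1 0 = 0 := by
    have := h1.2.2
    rw [neg_eq_zero] at this
    exact pow_eq_zero_iff (two_ne_zero) |>.1 this
  have h01 : g.1 0 1 = 0 := by
    have := h2.2.1
    rw [neg_eq_zero] at this
    exact pow_eq_zero_iff (two_ne_zero) |>.1 this
  have hdet := g.det_coe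
  rw [Matrix.det_fin_two, h10, h01, zero_mul, sub_zero] at hdet
  rcases mul_self_eq_one_iff.1 ((pow_two _).symm.trans h1.2.1) with h00 | h00
  · left
    rw [h00, one_mul] at hdet
    apply Subtype.ext
    ext u v
    fin_cases u <;> fin_cases v
    · exact h00
    · exact h01
    · exact h10
    · exact hdet
  · right
    rw [h00, neg_one_mul] at hdet
    have h11 : g.1 1 1 = -1 := by linear_combination (-1 : F) * hdet
    apply Subtype.ext
    ext u v
    fin_cases u <;> fin_cases v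
    · simpa using h00
    · simpa using h01
    · simpa using h10
    · simpa using h11

theorem phiO_neg_one : phiO hT (-1) = 1 := by
  ext v
  rw [phiO_apply, linO_apply]
  simp

theorem ker_phiO_le {g : SL(2, F)} (h : g ∈ (phiO hT).ker) : g = 1 ∨ g = -1 := by
  have h1 : phiO hT g = 1 := h
  refine phiO_eq_one hT (l := 1) ?_ ?_
  · rw [h1]; rfl
  · rw [h1, one_smul]; rfl

theorem card_ker_phiO : Nat.card (phiO hT).ker ∣ 2 := by
  have h1 : (phiO hT).ker ≤ Subgroup.zpowers (-1 : SL(2, F)) := by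
    intro g hg
    rcases ker_phiO_le hT hg with rfl | rfl
    · exact one_mem _
    · exact Subgroup.mem_zpowers _
  refine (Subgroup.card_dvd_of_le h1).trans ?_
  rw [Nat.card_zpowers]
  exact orderOf_dvd_of_pow_eq_one (by rw [neg_one_sq])

/-- The group is a quotient of `SL(2, F)` by a central subgroup of order dividing `2`. -/
theorem rkB_phiO [Finite F] {p : ℕ} [Fact p.Prime] [CharP F p] : RkB p 2 (phiO hT).range := by
  have hp : p.Prime := Fact.out
  have hp2 : p ≠ 2 := by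
    rintro rfl
    have h := CharP.cast_eq_zero F 2
    exact hT.two (by exact_mod_cast h)
  haveI : Finite SL(2, F) := inferInstance
  have hk : (phiO hT).rangeRestrict.ker = (phiO hT).ker := MonoidHom.ker_rangeRestrict _
  have h1 : RkB p 1 SL(2, F) := RkB.of_noCE fun r hr hne => Cfsg.Agent.H60.CrossA.noCE_SL (F := F) hp hr hne
  have h2 := h1.of_surj (phiO hT).rangeRestrict (MonoidHom.rangeRestrict_surjective _) ?_ ?_ ?_
  · rw [hk] at h2
    exact h2.mono (card_ker_phiO hT)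
  · rw [hk]
    intro g hg
    rcases ker_phiO_le hT hg with rfl | rfl
    · exact one_mem _
    · rw [Subgroup.mem_center_iff]
      intro k
      rw [mul_neg, neg_mul, mul_one, one_mul]
  · rw [hk]
    exact Nat.Coprime.coprime_dvd_left (card_ker_phiO hT) ((Nat.coprime_primes Nat.prime_two hp).2 (Ne.symm hp2))
  · rw [eq_top_iff]
    intro g _
    have h3 := mem_closure_SL2 g
    refine (Subgroup.closure_mono ?_) h3
    have key : ∀ t : F, (up t) ^ p = 1 ∧ (lo t) ^ p = 1 := by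
      intro t
      have hu : ∀ n : ℕ, (up t) ^ n = up ((n : F) * t) := by
        intro n
        induction n with
        | zero =>
          apply Subtype.ext
          rw [pow_zero]
          ext u v
          fin_cases u <;> fin_cases v <;> simp [up]
        | succ n ih =>
          rw [pow_succ, ih]
          apply Subtype.ext
          show (up ((n : F) * t)).1 * (up t).1 = (up (((n + 1 : ℕ) : F) * t)).1
          ext u v
          fin_cases u <;> fin_cases v <;> simp [up, Matrix.mul_apply, Fin.sum_univ_two]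
          ring
      have hl : ∀ n : ℕ, (lo t) ^ n = lo ((n : F) * t) := by
        intro n
        induction n with
        | zero =>
          apply Subtype.ext
          rw [pow_zero]
          ext u v
          fin_cases u <;> fin_cases v <;> simp [lo]
        | succ n ih =>
          rw [pow_succ, ih]
          apply Subtype.ext
          show (lo ((n : F) * t)).1 * (lo t).1 = (lo (((n + 1 : ℕ) : F) * t)).1
          ext u v
          fin_cases u <;> fin_cases v <;> simp [lo, Matrix.mul_apply, Fin.sum_univ_two]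
          ring
      have h0 : ((p : ℕ) : F) = 0 := CharP.cast_eq_zero F p
      have hu0 := hu p
      have hl0 := hl p
      rw [h0, zero_mul] at hu0 hl0
      have hu1 := hu 0
      have hl1 := hl 0
      rw [Nat.cast_zero, zero_mul, pow_zero] at hu1 hl1
      exact ⟨hu0.trans hu1.symm, hl0.trans hl1.symm⟩
    rintro _ (⟨a, rfl⟩ | ⟨a, rfl⟩)
    · exact ⟨1, by rw [pow_one]; exact (key a).1⟩
    · exact ⟨1, by rw [pow_one]; exact (key a).2⟩

end Lin

section Frame

variable {ι : Type} [Fintype ι] [DecidableEq ι] {F : Type u} [Field F] {Q : QuadraticForm F (ι → F)} {m : ℕ}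
  (W : WFrame (PO Q) m)

/-- The model of `E Q` over the Witt frame. -/
noncomputable def model (hp : ∃ p : (toFrame W).Adm, p.c ≠ 0) : Model (toFrame W) (E Q) where
  I := E Q
  φ := MonoidHom.id _
  hX := X_mem W
  hZ := Z_mem W
  ker := fun v g hg => by
    have : g = 1 := hg
    rw [this]
    exact one_mem _
  gen l K h1 h2 := by
    set L : Subgroup ((ι → F) ≃ₗ[F] (ι → F)) := K.map (E Q).subtype with hL
    have hmem : ∀ g : E Q, g ∈ K → g.1 ∈ L := fun g hg => ⟨g, hg, rfl⟩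
    have hC : W.Contains L := contains_C W l
      (fun i j hij t => ⟨hmem ⟨_, X_mem W _ _ t⟩ (h1 i j hij t).1,
        hmem ⟨_, X_mem W _ _ t⟩ (h1 i j hij t).2⟩)
      (fun p => ⟨hmem ⟨_, Z_mem W _ p⟩ (h2 p).1, hmem ⟨_, Z_mem W _ p⟩ (h2 p).2⟩) hp
    have htop : E Q ≤ L := by
      rw [E, Subgroup.closure_le]
      rintro _ ⟨u, w, hu, hw, rfl⟩
      have huu : (HO Q).h u u = 0 := polar_self_of_sing hu
      have := hC.all W ((sing_iff Q).2 hu) huu (w := w) (c := -Q w) hw rfl
      rwa [sie_eq Q huu hw hu hw rfl] at this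
    rw [eq_top_iff]
    intro k _
    obtain ⟨g', hg', he⟩ := htop k.2
    have : g' = k := Subtype.ext he
    exact this ▸ hg'

variable {W} {hp : ∃ p : (toFrame W).Adm, p.c ≠ 0}

theorem T_eq : WittModel.T (model W hp) = (Tor (toFrame W) (E Q)).subgroupOf (E Q) := by
  unfold WittModel.T
  exact Subgroup.map_id _

theorem X_eq (x : Fin m → ℤ) : WittModel.X (model W hp) x = (rg (toFrame W) x).subgroupOf (E Q) := by
  unfold WittModel.X
  exact Subgroup.map_id _

theorem rg_le (h2 : (2 : F) ≠ 0) (x : Fin m → ℤ) : rg (toFrame W) x ≤ E Q :=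
  (WittInst.amb_O_of_two W h2).rg_le x

theorem Nv_le (h2 : (2 : F) ≠ 0) (i : Fin m) : Cfsg.Agent.H61.SUNode.Nv (toFrame W) i ≤ E Q :=
  sup_le (rg_le h2 _) (rg_le h2 _)

theorem Lv_eq (h2 : (2 : F) ≠ 0) (i : Fin m) :
    Lv (WittModel.X (model W hp)) i = (Cfsg.Agent.H61.SUNode.Nv (toFrame W) i).subgroupOf (E Q) := by
  unfold Lv Cfsg.Agent.H61.SUNode.Nv
  rw [X_eq, X_eq, Subgroup.subgroupOf_sup (rg_le h2 _) (rg_le h2 _)]

/-- the rank one subgroups -/
noncomputable def nodeEquiv (h2 : (2 : F) ≠ 0) (i : Fin m) :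
    ↥(Lv (WittModel.X (model W hp)) i) ≃* ↥(Cfsg.Agent.H61.SUNode.Nv (toFrame W) i) :=
  (MulEquiv.subgroupCongr (Lv_eq h2 i)).trans (Subgroup.subgroupOfEquivOfLe (Nv_le h2 i))

/-- the characters of the torus -/
noncomputable def chi (i : Fin m) : ↥(WittModel.T (model W hp)) →* Fˣ :=
  MonoidHom.toHomUnits
    { toFun := fun t => (HO Q).h (t.1.1 (W.e i)) (W.f i)
      map_one' := by
        show (HO Q).h (W.e i) (W.f i) = 1
        rw [W.ef, if_pos rfl]
      map_mul' := by
        rintro ⟨s, hs⟩ ⟨t, ht⟩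
        show (HO Q).h (s.1 (t.1 (W.e i))) (W.f i) = (HO Q).h (s.1 (W.e i)) (W.f i) * (HO Q).h (t.1 (W.e i)) (W.f i)
        rw [T_eq] at hs ht
        obtain ⟨l, -, hl⟩ := hs.2 (i, true)
        obtain ⟨l', -, hl'⟩ := ht.2 (i, true)
        have e1 : s.1 (W.e i) = l • W.e i := hl
        have e2 : t.1 (W.e i) = l' • W.e i := hl'
        rw [e2, map_smul, e1, HForm.smul_left, HForm.smul_left, HForm.smul_left, W.ef, if_pos rfl]
        ring }

theorem chi_val (i : Fin m) (t : ↥(WittModel.T (model W hp))) :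
    ((chi i t : Fˣ) : F) = (HO Q).h (t.1.1 (W.e i)) (W.f i) := rfl

theorem apply_e (i : Fin m) (t : ↥(WittModel.T (model W hp))) :
    t.1.1 (W.e i) = ((chi i t : Fˣ) : F) • W.e i := by
  obtain ⟨t, ht⟩ := t
  have ht' := ht
  rw [T_eq] at ht'
  obtain ⟨l, -, hl⟩ := ht'.2 (i, true)
  have e1 : t.1 (W.e i) = l • W.e i := hl
  rw [chi_val]
  show t.1 (W.e i) = ((HO Q).h (t.1 (W.e i)) (W.f i)) • W.e i
  rw [e1, HForm.smul_left, W.ef, if_pos rfl, mul_one]

/-! ### The last node -/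

variable {d : ι → F}

/-- The anisotropic part is spanned by a vector of norm `1`. -/
structure Span (W : WFrame (PO Q) m) (d : ι → F) : Prop where
  mem : d ∈ W.V0
  norm : Q d = 1
  span : ∀ w ∈ W.V0, ∃ t : F, w = t • d

theorem Span.triple (h2 : (2 : F) ≠ 0) (hd : Span W d) (i : Fin m) : Triple Q (W.e i) (W.f i) d where
  two := h2
  ee := W.ee i i
  ff := W.ff i i
  ef := (W.ef i i).trans (if_pos rfl)
  ed := W.eV0 i hd.mem
  fd := W.fV0 i hd.mem
  dd := by rw [polar_self', hd.norm, mul_one]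

theorem phiO_up (h2 : (2 : F) ≠ 0) (hd : Span W d) (i : Fin m) (t : F) (p : (toFrame W).Adm) (hpw : p.w = t • d) :
    phiO (hd.triple h2 i) (up t) = (toFrame W).Z (i, true) p := by
  have hc : p.c = -Q p.w := p.ok.2
  ext1 v
  rw [phiO_apply, linO_apply, Frame.Z, HForm.sie_apply]
  show _ = v + polar Q v (W.e i) • p.w - ((1 : F)⁻¹ * polar Q v p.w) • W.e i + (p.c * polar Q v (W.e i)) • W.e i
  rw [hc, hpw, QuadraticMap.map_smul, hd.norm, polar_smul_right]
  simp only [up, Matrix.of_apply, Matrix.cons_val', Matrix.cons_val_zero, Matrix.cons_val_one,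
    Matrix.cons_val_fin_one, smul_eq_mul]
  match_scalars <;> field_simp <;> ring

theorem phiO_lo (h2 : (2 : F) ≠ 0) (hd : Span W d) (i : Fin m) (t : F) (p : (toFrame W).Adm)
    (hpw : p.w = (-t) • d) : phiO (hd.triple h2 i) (lo t) = (toFrame W).Z (i, false) p := by
  have hc : p.c = -Q p.w := p.ok.2
  ext1 v
  rw [phiO_apply, linO_apply, Frame.Z, HForm.sie_apply]
  show _ = v + polar Q v (W.f i) • p.w - ((1 : F)⁻¹ * polar Q v p.w) • W.f i + (p.c * polar Q v (W.f i)) • W.f i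
  rw [hc, hpw, QuadraticMap.map_smul, hd.norm, polar_smul_right]
  simp only [lo, Matrix.of_apply, Matrix.cons_val', Matrix.cons_val_zero, Matrix.cons_val_one,
    Matrix.cons_val_fin_one, smul_eq_mul]
  match_scalars <;> field_simp <;> ring

theorem phiO_range (h2 : (2 : F) ≠ 0) (hd : Span W d) (i : Fin m) :
    (phiO (hd.triple h2 i)).range = ZG (toFrame W) (i, true) ⊔ ZG (toFrame W) (i, false) := by
  have hadm : ∀ t : F, ∃ p : (toFrame W).Adm, p.w = t • d := fun t =>
    ⟨⟨t • d, -Q (t • d), W.V0.smul_mem t hd.mem, rfl⟩, rfl⟩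
  apply le_antisymm
  · rintro _ ⟨g, rfl⟩
    have h1 : Subgroup.closure (Set.range (up (F := F)) ∪ Set.range (lo (F := F))) ≤
        (ZG (toFrame W) (i, true) ⊔ ZG (toFrame W) (i, false)).comap (phiO (hd.triple h2 i)) := by
      rw [Subgroup.closure_le]
      rintro _ (⟨a, rfl⟩ | ⟨a, rfl⟩)
      · obtain ⟨p, hp⟩ := hadm a
        exact (le_sup_left : ZG (toFrame W) (i, true) ≤ _) ⟨p, phiO_up h2 hd i a p hp⟩
      · obtain ⟨p, hp⟩ := hadm (-a)
        exact (le_sup_right : ZG (toFrame W) (i, false) ≤ _) ⟨p, phiO_lo h2 hd i a p hp⟩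
    exact h1 (mem_closure_SL2 g)
  · refine sup_le ?_ ?_
    · rintro _ ⟨p, rfl⟩
      obtain ⟨t, ht⟩ := hd.span p.w p.ok.1
      exact ⟨up t, phiO_up h2 hd i t p ht⟩
    · rintro _ ⟨p, rfl⟩
      obtain ⟨t, ht⟩ := hd.span p.w p.ok.1
      exact ⟨lo (-t), phiO_lo h2 hd i (-t) p (by rw [_root_.neg_neg]; exact ht)⟩

/-- A torus element of a rank one subgroup fixing `e` is trivial. -/
theorem eq_one_of (h2 : (2 : F) ≠ 0) (hd : Span W d) (i : Fin m) {g : (ι → F) ≃ₗ[F] (ι → F)}
    (hg : g ∈ Cfsg.Agent.H61.SUNode.Nv (toFrame W) i) (hm : Mono (toFrame W) g id) (he : g (W.e i) = W.e i) :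
    g = 1 := by
  by_cases h : (i : ℕ) + 1 < m
  · exact Cfsg.Agent.H61.SUNode.eq_one_typeI h hg hm he
  · rw [Cfsg.Agent.H61.SUNode.Nv_eq_ZG h, ← phiO_range h2 hd] at hg
    obtain ⟨A, rfl⟩ := hg
    obtain ⟨l, -, hl⟩ := hm (i, false)
    rcases phiO_eq_one (hd.triple h2 i) he (l := l) hl with rfl | rfl
    · exact map_one _
    · exact phiO_neg_one _

theorem torus_card [Finite F] (h2 : (2 : F) ≠ 0) (hd : Span W d) : ∏ i, Nat.card ↥(WittModel.T (model W hp) ⊓
    Lv (WittModel.X (model W hp)) i) ≤ Nat.card (WittModel.T (model W hp)) := by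
  haveI : Finite ((ι → F) ≃ₗ[F] (ι → F)) :=
    Finite.of_injective (fun g : (ι → F) ≃ₗ[F] (ι → F) => (g : _ → _)) DFunLike.coe_injective
  refine Cfsg.Agent.H61.SUCross.card_prod_le (WittModel.T (model W hp)) _ (fun i => inf_le_left) chi ?_ ?_
  · intro i j hij t ht
    have h1 := (Subgroup.mem_inf.1 ht).2
    rw [Lv_eq h2] at h1
    have h3 : t.1.1 (W.e i) = W.e i := Cfsg.Agent.H61.SUNode.fix_of_mem (Fr := toFrame W) hij h1
    refine Units.ext ?_
    rw [chi_val, h3, W.ef, if_pos rfl, Units.val_one]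
  · intro i t ht h0
    have h1 := (Subgroup.mem_inf.1 ht).2
    rw [Lv_eq h2] at h1
    have h3 := apply_e i t
    rw [h0, Units.val_one, one_smul] at h3
    have h4 : t.1 ∈ (Tor (toFrame W) (E Q)).subgroupOf (E Q) := by
      rw [← T_eq (hp := hp)]; exact t.2
    have h5 := eq_one_of h2 hd i h1 h4.2 h3
    exact Subtype.ext (Subtype.ext h5)

theorem rkB_node [Finite F] (h2 : (2 : F) ≠ 0) (hd : Span W d) {p : ℕ} [Fact p.Prime] [CharP F p] (i : Fin m) :
    RkB p (if (i : ℕ) + 1 < m then 1 else 2) ↥(Cfsg.Agent.H61.SUNode.Nv (toFrame W) i) := by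
  by_cases h : (i : ℕ) + 1 < m
  · rw [if_pos h]
    obtain ⟨e, -⟩ := Cfsg.Agent.H61.RankOne.exists_equiv (Fr := toFrame W) (Cfsg.Agent.H61.SUNode.ne_nx h)
    have h1 : RkB p 1 SL(2, F) :=
      RkB.of_noCE fun r hr hne => Cfsg.Agent.H60.CrossA.noCE_SL (F := F) Fact.out hr hne
    exact h1.congr (e.symm.trans (MulEquiv.subgroupCongr (Cfsg.Agent.H61.SUNode.Nv_eq_P1 h).symm))
  · rw [if_neg h]
    have h1 := rkB_phiO (hd.triple h2 i) (p := p)
    rw [phiO_range h2 hd, ← Cfsg.Agent.H61.SUNode.Nv_eq_ZG h] at h1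
    exact h1

/-- **The bound.** -/
theorem card_ker_dvd_two_frame [Finite F] (h2 : (2 : F) ≠ 0) (W : WFrame (PO Q) m) (hd : Span W d) (hm : 0 < m)
    {p : ℕ} [Fact p.Prime] [CharP F p] {L : Type} [Group L] [Finite L] {π : L →* E Q} (hπ : PCE π)
    (hcop : (Nat.card π.ker).Coprime p) : Nat.card π.ker ∣ 2 := by
  classical
  have hadm : ∃ p : (toFrame W).Adm, p.c ≠ 0 :=
    ⟨⟨d, -Q d, hd.mem, rfl⟩, by show -Q d ≠ 0; rw [hd.norm]; exact neg_ne_zero.2 one_ne_zero⟩
  obtain ⟨p0, hp0⟩ := hadm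
  have R := rgdC_model (model W ⟨p0, hp0⟩) (AmbT.of_amb (WittInst.amb_O_of_two W h2) p) hp0
    (CoxeterMatrix.B m).toCoxeterSystem
  have : Finite (CoxeterMatrix.B m).Group := finite_W (CoxeterMatrix.B m).toCoxeterSystem
  have h1 := card_ker_mul_dvd (b := fun i : Fin m => if (i : ℕ) + 1 < m then 1 else 2) Fact.out hπ hcop R
    (WittModel.G1_eq_top _ hm _) (fun i => (rkB_node h2 hd i).congr (nodeEquiv h2 i).symm)
  rw [Finset.prod_mul_distrib] at h1
  have h3 : (∏ i : Fin m, if (i : ℕ) + 1 < m then 1 else 2) = 2 := by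
    obtain ⟨k, rfl⟩ : ∃ k, m = k + 1 := ⟨m - 1, by omega⟩
    rw [Fin.prod_univ_castSucc]
    rw [Finset.prod_eq_one]
    · simp
    · intro i _
      rw [if_pos]
      simp
  rw [h3] at h1
  have h4 := torus_card (hp := ⟨p0, hp0⟩) h2 hd
  haveI : Finite ((ι → F) ≃ₗ[F] (ι → F)) :=
    Finite.of_injective (fun g : (ι → F) ≃ₗ[F] (ι → F) => (g : _ → _)) DFunLike.coe_injective
  have hTpos : 0 < Nat.card (WittModel.T (model W ⟨p0, hp0⟩)) := Nat.card_pos
  have h5 := Nat.le_of_dvd (mul_pos two_pos (Finset.prod_pos fun i _ => Nat.card_pos)) h1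
  have h6 : Nat.card π.ker ≤ 2 := by
    have h7 : Nat.card π.ker * Nat.card (WittModel.T (model W ⟨p0, hp0⟩)) ≤
        2 * Nat.card (WittModel.T (model W ⟨p0, hp0⟩)) := h5.trans (Nat.mul_le_mul_left 2 h4)
    exact Nat.le_of_mul_le_mul_right h7 hTpos
  have h8 : 0 < Nat.card π.ker := Nat.card_pos
  interval_cases Nat.card π.ker
  · exact one_dvd 2
  · exact dvd_rfl

end Frame

end Cfsg.Agent.H48.OCross
end

-- part: H48/Spin
section
/-!
# The spin cover of `Ω(Q)` in odd characteristic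

* `pce_commutator`: if `f : K → X` is surjective with central kernel and `X` is finite and perfect, then
  `[K, K] → X` is a finite perfect central extension.
* `Lifts Q s ε g`: the unit `s` of the Clifford algebra satisfies `s v s⁻¹ = ε (g v)` for all vectors `v`.
* `Sp Q`: the group of pairs `(s, g)`, `g ∈ Ω(Q)`, `Lifts Q s 1 g`; `proj : Sp Q → Ω(Q)`; `proj_surj`, `ker_proj`.
* `mem_commutator`: `(-1, 1)` is in `[Sp Q, Sp Q]`, if there are three orthogonal vectors of the same norm.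
* `exists_spin`: the resulting perfect central extension of `Ω(Q)`.
-/

set_option autoImplicit false
set_option linter.unusedSectionVars false

namespace Cfsg.Agent.H48.Spin

open Subgroup QuadraticMap
open Cfsg.Agent.ClassicalGeometry.Reflection Cfsg.Agent.ClassicalGeometry.CartanDieudonne
open Cfsg.Agent.H51.Mult
open scoped commutatorElement

universe u v

/-! ### Perfect central extensions from central ones -/

section pce

variable {K : Type u} {X : Type v} [Group K] [Group X] {f : K →* X}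

theorem comm_congr (hc : f.ker ≤ center K) {a b a' b' : K} (ha : f a = f a') (hb : f b = f b') :
    ⁅a, b⁆ = ⁅a', b'⁆ := by
  have h1 : ∀ z, f z = 1 → ∀ y, z * y = y * z := fun z hz y =>
    (mem_center_iff.1 (hc (MonoidHom.mem_ker.2 hz)) y).symm
  obtain ⟨z, rfl⟩ : ∃ z, a = a' * z := ⟨a'⁻¹ * a, by group⟩
  obtain ⟨w, rfl⟩ : ∃ w, b = b' * w := ⟨b'⁻¹ * b, by group⟩
  have hz : f z = 1 := by
    rw [map_mul] at ha
    exact mul_eq_left.1 ha
  have hw : f w = 1 := by
    rw [map_mul] at hb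
    exact mul_eq_left.1 hb
  have cz := h1 z hz
  have cw := h1 w hw
  rw [commutatorElement_def, commutatorElement_def]
  calc a' * z * (b' * w) * (a' * z)⁻¹ * (b' * w)⁻¹
      = a' * (z * (b' * w)) * (z⁻¹ * a'⁻¹) * (w⁻¹ * b'⁻¹) := by group
    _ = a' * ((b' * w) * z) * (z⁻¹ * a'⁻¹) * (w⁻¹ * b'⁻¹) := by rw [cz]
    _ = a' * b' * (w * a'⁻¹) * (w⁻¹ * b'⁻¹) := by group
    _ = a' * b' * (a'⁻¹ * w) * (w⁻¹ * b'⁻¹) := by rw [cw]
    _ = a' * b' * a'⁻¹ * b'⁻¹ := by group

theorem finite_commutator [Finite X] (hc : f.ker ≤ center K) : Finite (commutator K) := by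
  classical
  have h1 : (commutatorSet K).Finite := by
    let g : X → K := fun x => if h : ∃ y, f y = x then h.choose else 1
    have hg : ∀ y, f (g (f y)) = f y := fun y => by
      have h : ∃ z, f z = f y := ⟨y, rfl⟩
      show f (if h : ∃ z, f z = f y then h.choose else 1) = f y
      rw [dif_pos h]
      exact h.choose_spec
    refine (Set.finite_range fun p : X × X => ⁅g p.1, g p.2⁆).subset ?_
    rintro _ ⟨a, b, rfl⟩
    exact ⟨(f a, f b), comm_congr hc (hg a) (hg b)⟩
  have : Finite (commutatorSet K) := h1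
  infer_instance

/-- **Perfect central extensions from central ones.** -/
theorem pce_commutator (hX : commutator X = ⊤) (hs : Function.Surjective f) (hc : f.ker ≤ center K) :
    PCE (f.comp (commutator K).subtype) := by
  have hsurj : Function.Surjective (f.comp (commutator K).subtype) := by
    intro x
    have h1 : x ∈ (commutator K).map f := by
      rw [commutator_def, Subgroup.map_commutator, Subgroup.map_top_of_surjective f hs, ← commutator_def, hX]
      exact mem_top _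
    obtain ⟨y, hy, rfl⟩ := h1
    exact ⟨⟨y, hy⟩, rfl⟩
  refine ⟨hsurj, ?_, ?_⟩
  · intro x hx
    rw [mem_center_iff]
    intro y
    exact Subtype.ext (mem_center_iff.1 (hc (show f x.1 = 1 from hx)) y.1)
  · have h2 : commutator K ≤ (commutator (commutator K)).map (commutator K).subtype := by
      conv_lhs => rw [commutator_eq_closure]
      rw [closure_le]
      rintro _ ⟨a, b, rfl⟩
      obtain ⟨a', ha⟩ := hsurj (f a)
      obtain ⟨b', hb⟩ := hsurj (f b)
      refine ⟨⁅a', b'⁆, commutator_mem_commutator (mem_top _) (mem_top _), ?_⟩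
      rw [map_commutatorElement]
      exact comm_congr hc ha hb
    rw [eq_top_iff]
    intro x _
    obtain ⟨y, hy, hyx⟩ := h2 x.2
    have : y = x := Subtype.ext hyx
    rwa [← this]

end pce

/-! ### The Clifford algebra -/

variable {ι : Type} [Fintype ι] [DecidableEq ι] {F : Type u} [Field F] (Q : QuadraticForm F (ι → F))

/-- an anisotropic vector as a unit -/
def iu (v : ι → F) (hv : Q v ≠ 0) : (CliffordAlgebra Q)ˣ where
  val := CliffordAlgebra.ι Q v
  inv := (Q v)⁻¹ • CliffordAlgebra.ι Q v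
  val_inv := by
    rw [mul_smul_comm, CliffordAlgebra.ι_sq_scalar, Algebra.smul_def, ← map_mul, inv_mul_cancel₀ hv, map_one]
  inv_val := by
    rw [smul_mul_assoc, CliffordAlgebra.ι_sq_scalar, Algebra.smul_def, ← map_mul, inv_mul_cancel₀ hv, map_one]

theorem iu_val (v : ι → F) (hv : Q v ≠ 0) : (iu Q v hv : CliffordAlgebra Q) = CliffordAlgebra.ι Q v := rfl

/-- `s` induces `ε g` -/
def Lifts (s : (CliffordAlgebra Q)ˣ) (ε : Fˣ) (g : Cfsg.isometryGroup F (⇑Q)) : Prop :=
  ∀ v, (s : CliffordAlgebra Q) * CliffordAlgebra.ι Q v =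
    (ε : F) • (CliffordAlgebra.ι Q (((g : Matrix.GeneralLinearGroup ι F) : Matrix ι ι F).mulVec v) * (s : CliffordAlgebra Q))

variable {Q}

theorem Lifts.one : Lifts Q 1 1 1 := by
  intro v
  simp

theorem Lifts.mul {s t : (CliffordAlgebra Q)ˣ} {ε δ : Fˣ} {g h : Cfsg.isometryGroup F (⇑Q)} (hs : Lifts Q s ε g)
    (ht : Lifts Q t δ h) : Lifts Q (s * t) (ε * δ) (g * h) := by
  intro v
  have h1 := ht v
  have h2 := hs (((h : Matrix.GeneralLinearGroup ι F) : Matrix ι ι F).mulVec v)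
  rw [Units.val_mul, mul_assoc, h1, mul_smul_comm, ← mul_assoc, h2, smul_mul_assoc, smul_smul, mul_assoc]
  congr 1
  · rw [Units.val_mul, mul_comm]
  · rw [Subgroup.coe_mul, Units.val_mul, Matrix.mulVec_mulVec]

theorem Lifts.inv {s : (CliffordAlgebra Q)ˣ} {ε : Fˣ} {g : Cfsg.isometryGroup F (⇑Q)} (hs : Lifts Q s ε g) :
    Lifts Q s⁻¹ ε⁻¹ g⁻¹ := by
  intro v
  have h2 := hs ((((g⁻¹ : Cfsg.isometryGroup F (⇑Q)) : Matrix.GeneralLinearGroup ι F) : Matrix ι ι F).mulVec v)
  have h3 : ((g : Matrix.GeneralLinearGroup ι F) : Matrix ι ι F).mulVec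
      ((((g⁻¹ : Cfsg.isometryGroup F (⇑Q)) : Matrix.GeneralLinearGroup ι F) : Matrix ι ι F).mulVec v) = v := by
    rw [Matrix.mulVec_mulVec, ← Units.val_mul, ← Subgroup.coe_mul, mul_inv_cancel, Subgroup.coe_one, Units.val_one,
      Matrix.one_mulVec]
  rw [h3] at h2
  have h4 : (CliffordAlgebra.ι Q v) = (ε : F)⁻¹ • ((s : CliffordAlgebra Q) *
      CliffordAlgebra.ι Q ((((g⁻¹ : Cfsg.isometryGroup F (⇑Q)) : Matrix.GeneralLinearGroup ι F) : Matrix ι ι F).mulVec v) * (s⁻¹ : (CliffordAlgebra Q)ˣ)) := by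
    rw [h2, smul_mul_assoc, smul_smul, inv_mul_cancel₀ ε.ne_zero, one_smul, mul_assoc, Units.mul_inv, mul_one]
  rw [h4, mul_smul_comm, ← mul_assoc, ← mul_assoc, Units.inv_mul, one_mul, Units.val_inv_eq_inv_val]

/-- a reflection -/
theorem lifts_refl (v : ι → F) (hv : Q v ≠ 0) : Lifts Q (iu Q v hv) (-1) (reflIso Q v hv) := by
  intro w
  rw [coe_reflIso, reflectionMatrix_mulVec, iu_val, map_sub, map_smul, sub_mul, smul_mul_assoc,
    CliffordAlgebra.ι_sq_scalar]
  have h1 := CliffordAlgebra.ι_mul_ι_add_swap (Q := Q) v w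
  have h2 : CliffordAlgebra.ι Q v * CliffordAlgebra.ι Q w =
      algebraMap F (CliffordAlgebra Q) (polar (⇑Q) v w) - CliffordAlgebra.ι Q w * CliffordAlgebra.ι Q v := by
    rw [← h1]; abel
  have h3 : (Q v)⁻¹ * polar (⇑Q) v w * Q v = polar (⇑Q) v w := by field_simp
  rw [h2, Algebra.smul_def ((Q v)⁻¹ * polar (⇑Q) v w), ← map_mul (algebraMap F (CliffordAlgebra Q)), h3, Units.val_neg, Units.val_one, neg_smul, one_smul]
  abel

/-- every isometry lifts up to sign -/
theorem exists_lift (h2 : (2 : F) ≠ 0) (hQ : (polarBilin Q).Nondegenerate) (g : Cfsg.isometryGroup F (⇑Q)) :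
    ∃ (s : (CliffordAlgebra Q)ˣ) (ε : Fˣ), Lifts Q s ε g := by
  refine isometry_induction h2 Q hQ (fun g => ∃ (s : (CliffordAlgebra Q)ˣ) (ε : Fˣ), Lifts Q s ε g) ?_ ?_ g
  · exact ⟨1, 1, Lifts.one⟩
  · rintro v hv g ⟨s, ε, hs⟩
    exact ⟨_, _, (lifts_refl v hv).mul hs⟩

/-- elements commuting with the vectors are central -/
theorem commute_all {s : CliffordAlgebra Q} (h : ∀ v, s * CliffordAlgebra.ι Q v = CliffordAlgebra.ι Q v * s)
    (a : CliffordAlgebra Q) : s * a = a * s := by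
  induction a using CliffordAlgebra.induction with
  | algebraMap r => exact (Algebra.commutes r s).symm
  | ι x => exact h x
  | mul a b ha hb => rw [← mul_assoc, ha, mul_assoc, hb, mul_assoc]
  | add a b ha hb => rw [mul_add, ha, hb, add_mul]

variable (Q)

/-- the group of pairs -/
def Sp : Subgroup ((CliffordAlgebra Q)ˣ × Cfsg.Omega F (⇑Q)) where
  carrier := {x | Lifts Q x.1 1 x.2.1}
  one_mem' := Lifts.one
  mul_mem' := by
    intro x y hx hy
    have := Lifts.mul (s := x.1) (t := y.1) (g := x.2.1) (h := y.2.1) hx hy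
    rwa [mul_one] at this
  inv_mem' := by
    intro x hx
    have := Lifts.inv (s := x.1) (g := x.2.1) hx
    rwa [inv_one] at this

theorem mem_Sp (x : (CliffordAlgebra Q)ˣ × Cfsg.Omega F (⇑Q)) : x ∈ Sp Q ↔ Lifts Q x.1 1 x.2.1 := Iff.rfl

/-- the projection -/
def proj : Sp Q →* Cfsg.Omega F (⇑Q) := (MonoidHom.snd _ _).comp (Sp Q).subtype

theorem proj_apply (x : Sp Q) : proj Q x = x.1.2 := rfl

theorem ker_proj : (proj Q).ker ≤ center (Sp Q) := by
  intro x hx
  rw [MonoidHom.mem_ker, proj_apply] at hx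
  have h1 : Lifts Q x.1.1 1 x.1.2.1 := x.2
  rw [hx] at h1
  have h2 := commute_all (Q := Q) (s := (x.1.1 : CliffordAlgebra Q)) (fun v => by
    have := h1 v
    simpa using this)
  rw [mem_center_iff]
  intro y
  apply Subtype.ext
  apply Prod.ext
  · exact (Units.ext (h2 (y.1.1 : CliffordAlgebra Q))).symm
  · show y.1.2 * x.1.2 = x.1.2 * y.1.2
    rw [hx, mul_one, one_mul]

theorem proj_surj (h2 : (2 : F) ≠ 0) (hQ : (polarBilin Q).Nondegenerate) : Function.Surjective (proj Q) := by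
  let T : Subgroup (Cfsg.isometryGroup F (⇑Q)) :=
    { carrier := {g | ∃ s, Lifts Q s 1 g}
      one_mem' := ⟨1, Lifts.one⟩
      mul_mem' := by
        rintro g h ⟨s, hs⟩ ⟨t, ht⟩
        exact ⟨s * t, by have := hs.mul ht; rwa [mul_one] at this⟩
      inv_mem' := by
        rintro g ⟨s, hs⟩
        exact ⟨s⁻¹, by have := hs.inv; rwa [inv_one] at this⟩ }
  have hT : commutator (Cfsg.isometryGroup F (⇑Q)) ≤ T := by
    rw [commutator_def, Subgroup.commutator_le]
    intro g _ h _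
    obtain ⟨s, ε, hs⟩ := exists_lift h2 hQ g
    obtain ⟨t, δ, ht⟩ := exists_lift h2 hQ h
    refine ⟨⁅s, t⁆, ?_⟩
    have h1 := ((hs.mul ht).mul hs.inv).mul ht.inv
    have h3 : ε * δ * ε⁻¹ * δ⁻¹ = 1 := by
      rw [mul_comm ε δ, mul_inv_cancel_right, mul_inv_cancel]
    rwa [h3] at h1
  intro g
  obtain ⟨s, hs⟩ := hT g.2
  exact ⟨⟨(s, g), hs⟩, rfl⟩

/-- the element `(-1, 1)` -/
def negOne : Sp Q := ⟨(-1, 1), by
  rw [mem_Sp]
  intro v
  simp⟩

theorem proj_negOne : proj Q (negOne Q) = 1 := rfl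

theorem negOne_ne (h2 : (2 : F) ≠ 0) : negOne Q ≠ 1 := by
  intro h
  have h1 : (((negOne Q).1.1 : (CliffordAlgebra Q)ˣ) : CliffordAlgebra Q) = 1 := by rw [h]; rfl
  have h3 : (-1 : CliffordAlgebra Q) = 1 := h1
  have : Invertible (2 : F) := invertibleOfNonzero h2
  have h4 : algebraMap F (CliffordAlgebra Q) 2 = 0 := by
    rw [map_ofNat]
    have : (2 : CliffordAlgebra Q) = 1 - (-1) := by norm_num
    rw [this, h3, sub_self]
  exact h2 ((map_eq_zero_iff _ (algebraMap F (CliffordAlgebra Q)).injective).1 h4)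

theorem negOne_sq : negOne Q * negOne Q = 1 := by
  apply Subtype.ext
  apply Prod.ext
  · show (-1 : (CliffordAlgebra Q)ˣ) * -1 = 1
    rw [neg_mul_neg, one_mul]
  · show (1 : Cfsg.Omega F (⇑Q)) * 1 = 1
    rw [one_mul]

/-! ### Three orthogonal vectors of the same norm -/

variable {Q}

section three

variable {u₁ u₂ u₃ : ι → F} {c : F} (h2 : (2 : F) ≠ 0) (hc : c ≠ 0)
include h2 hc

theorem refl_mul_mem (q1 : Q u₁ = c) (q2 : Q u₂ = c) (h12 : polar (⇑Q) u₁ u₂ = 0) (h1 : Q u₁ ≠ 0) (h2' : Q u₂ ≠ 0) :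
    reflIso Q u₁ h1 * reflIso Q u₂ h2' ∈ commutator (Cfsg.isometryGroup F (⇑Q)) := by
  have hne : Q (u₁ - u₂) ≠ 0 := by
    rw [sub_eq_add_neg, map_add', QuadraticMap.map_neg, QuadraticMap.polar_neg_right, h12, q1, q2, neg_zero, add_zero,
      ← two_mul]
    exact mul_ne_zero h2 hc
  have h5 : ((reflIso Q (u₁ - u₂) hne : Matrix.GeneralLinearGroup ι F) : Matrix ι ι F).mulVec u₁ = u₂ := by
    rw [coe_reflIso]
    exact reflectionMatrix_sub_mulVec Q u₁ u₂ (q1.trans q2.symm) hne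
  have h3 : reflIso Q u₂ h2' = reflIso Q (u₁ - u₂) hne * reflIso Q u₁ h1 * (reflIso Q (u₁ - u₂) hne)⁻¹ := by
    rw [conj_reflIso Q u₁ h1 (reflIso Q (u₁ - u₂) hne) (by rw [h5]; exact h2')]
    congr 1
    exact h5.symm
  rw [h3]
  have h4 : reflIso Q u₁ h1 * (reflIso Q (u₁ - u₂) hne * reflIso Q u₁ h1 * (reflIso Q (u₁ - u₂) hne)⁻¹) =
      ⁅reflIso Q u₁ h1, reflIso Q (u₁ - u₂) hne⁆ := by
    have hinv : (reflIso Q u₁ h1)⁻¹ = reflIso Q u₁ h1 := inv_eq_of_mul_eq_one_left (reflIso_mul_self _ _ _)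
    rw [commutatorElement_def, hinv]
    group
  rw [h4]
  exact commutator_mem_commutator (mem_top _) (mem_top _)

/-- **`(-1, 1)` is a commutator** -/
theorem negOne_mem (q1 : Q u₁ = c) (q2 : Q u₂ = c) (q3 : Q u₃ = c) (h12 : polar (⇑Q) u₁ u₂ = 0)
    (h13 : polar (⇑Q) u₁ u₃ = 0) (h23 : polar (⇑Q) u₂ u₃ = 0) : negOne Q ∈ commutator (Sp Q) := by
  have n1 : Q u₁ ≠ 0 := by rw [q1]; exact hc
  have n2 : Q u₂ ≠ 0 := by rw [q2]; exact hc
  have n3 : Q u₃ ≠ 0 := by rw [q3]; exact hc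
  -- the two elements
  let a : Sp Q := ⟨(iu Q u₁ n1 * iu Q u₂ n2, ⟨_, refl_mul_mem h2 hc q1 q2 h12 n1 n2⟩), by
    have := (lifts_refl u₁ n1).mul (lifts_refl u₂ n2)
    rwa [neg_mul_neg, one_mul] at this⟩
  let b : Sp Q := ⟨(iu Q u₂ n2 * iu Q u₃ n3, ⟨_, refl_mul_mem h2 hc q2 q3 h23 n2 n3⟩), by
    have := (lifts_refl u₂ n2).mul (lifts_refl u₃ n3)
    rwa [neg_mul_neg, one_mul] at this⟩
  have swap : ∀ x y : ι → F, polar (⇑Q) x y = 0 →
      CliffordAlgebra.ι Q x * CliffordAlgebra.ι Q y = - (CliffordAlgebra.ι Q y * CliffordAlgebra.ι Q x) := by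
    intro x y h
    have h1 := CliffordAlgebra.ι_mul_ι_add_swap (Q := Q) x y
    rw [h, map_zero] at h1
    exact eq_neg_of_add_eq_zero_left h1
  have rswap : ∀ (x y : ι → F) (hx : Q x ≠ 0) (hy : Q y ≠ 0), polar (⇑Q) x y = 0 →
      reflIso Q x hx * reflIso Q y hy = reflIso Q y hy * reflIso Q x hx := by
    intro x y hx hy h
    have h6 : ((reflIso Q x hx : Matrix.GeneralLinearGroup ι F) : Matrix ι ι F).mulVec y = y := by
      rw [coe_reflIso]
      exact reflectionMatrix_mulVec_of_polar_eq_zero Q x y h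
    have h7 := conj_reflIso Q y hy (reflIso Q x hx) (by rw [h6]; exact hy)
    have h8 : reflIso Q x hx * reflIso Q y hy * (reflIso Q x hx)⁻¹ = reflIso Q y hy := by
      rw [h7]
      congr 1
    rw [mul_inv_eq_iff_eq_mul] at h8
    exact h8
  have key : a * b = negOne Q * (b * a) := by
    apply Subtype.ext
    apply Prod.ext
    · apply Units.ext
      show CliffordAlgebra.ι Q u₁ * CliffordAlgebra.ι Q u₂ * (CliffordAlgebra.ι Q u₂ * CliffordAlgebra.ι Q u₃) =
        -1 * (CliffordAlgebra.ι Q u₂ * CliffordAlgebra.ι Q u₃ * (CliffordAlgebra.ι Q u₁ * CliffordAlgebra.ι Q u₂))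
      generalize hx : CliffordAlgebra.ι Q u₁ = x
      generalize hy : CliffordAlgebra.ι Q u₂ = y
      generalize hz : CliffordAlgebra.ι Q u₃ = z
      have e1 : x * y = -(y * x) := by rw [← hx, ← hy]; exact swap _ _ h12
      have e2 : x * z = -(z * x) := by rw [← hx, ← hz]; exact swap _ _ h13
      have e3 : y * z = -(z * y) := by rw [← hy, ← hz]; exact swap _ _ h23
      have e4 : y * z * (x * y) = y * (z * x) * y := by simp only [mul_assoc]
      have e5 : z * x = -(x * z) := by rw [e2, neg_neg]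
      rw [e4, e5, mul_neg, neg_mul, neg_mul, one_mul, neg_neg]
      have e6 : y * (x * z) * y = (y * x) * (z * y) := by simp only [mul_assoc]
      have e7 : z * y = -(y * z) := by rw [e3, neg_neg]
      have e8 : y * x = -(x * y) := by rw [e1, neg_neg]
      rw [e6, e7, e8, neg_mul_neg]
    · apply Subtype.ext
      show reflIso Q u₁ n1 * reflIso Q u₂ n2 * (reflIso Q u₂ n2 * reflIso Q u₃ n3) =
        1 * (reflIso Q u₂ n2 * reflIso Q u₃ n3 * (reflIso Q u₁ n1 * reflIso Q u₂ n2))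
      have e1 := rswap u₁ u₂ n1 n2 h12
      have e2 := rswap u₁ u₃ n1 n3 h13
      have e3 := rswap u₂ u₃ n2 n3 h23
      generalize reflIso Q u₁ n1 = x at *
      generalize reflIso Q u₂ n2 = y at *
      generalize reflIso Q u₃ n3 = z at *
      rw [one_mul]
      calc x * y * (y * z) = (y * x) * (y * z) := by rw [e1]
        _ = y * (x * y) * z := by simp only [mul_assoc]
        _ = y * (y * x) * z := by rw [e1]
        _ = y * y * (x * z) := by simp only [mul_assoc]
        _ = y * y * (z * x) := by rw [e2]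
        _ = y * (y * z) * x := by simp only [mul_assoc]
        _ = y * (z * y) * x := by rw [e3]
        _ = y * z * (y * x) := by simp only [mul_assoc]
        _ = y * z * (x * y) := by rw [e1]
  have h9 : ⁅a, b⁆ = negOne Q := by
    rw [commutatorElement_def, key]
    group
  rw [← h9]
  exact commutator_mem_commutator (mem_top _) (mem_top _)

/-- **The spin cover of `Ω(Q)`.** -/
theorem exists_spin [Finite F] (hQ : (polarBilin Q).Nondegenerate) (hp : commutator (Cfsg.Omega F (⇑Q)) = ⊤)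
    (q1 : Q u₁ = c) (q2 : Q u₂ = c) (q3 : Q u₃ = c) (h12 : polar (⇑Q) u₁ u₂ = 0)
    (h13 : polar (⇑Q) u₁ u₃ = 0) (h23 : polar (⇑Q) u₂ u₃ = 0) :
    ∃ (L : Type u) (_ : Group L) (_ : Finite L) (π : L →* Cfsg.Omega F (⇑Q)) (z : L),
      PCE π ∧ π z = 1 ∧ z ≠ 1 ∧ z * z = 1 := by
  have h1 := finite_commutator (f := proj Q) (ker_proj Q)
  refine ⟨commutator (Sp Q), inferInstance, h1, _, ⟨negOne Q, negOne_mem h2 hc q1 q2 q3 h12 h13 h23⟩,
    pce_commutator hp (proj_surj Q h2 hQ) (ker_proj Q), rfl, ?_, ?_⟩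
  · intro h
    exact negOne_ne Q h2 (congrArg Subtype.val h)
  · exact Subtype.ext (negOne_sq Q)

end three

end Cfsg.Agent.H48.Spin
end

-- part: H48/OMult
section
/-!
# The Schur multiplier of `PΩ_{2m+1}(q)`, `q` odd, outside the defining characteristic

* `eqv`: `E (oddForm m F) ≃* POmega F (quadFormOdd m F)`, `perfect`: `PΩ_{2m+1}(q)` is perfect;
* `card_ker_dvd_two`: perfect central extensions with kernel of order prime to `q` have kernel of order `1` or `2`
  (`2 ≤ m`, `(m, q) = (3, 3)` included);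
* `bd_two`, `noCov_cross`;
* `exists_double`: the spin cover (`3 ≤ m`).
-/

set_option autoImplicit false
set_option linter.style.haveILetI false

namespace Cfsg.Agent.H48.OMult

open QuadraticMap
open Cfsg.Agent.LieClassical Cfsg.Agent.LieClassical.OrthCore Cfsg.Agent.LieClassical.OrthTrans
open Cfsg.Agent.LieClassical.OrthSimple Cfsg.Agent.LieClassical.OrthFinite Cfsg.Agent.LieClassical.OrthForms
open Cfsg.Agent.TitsThree Cfsg.Agent.TitsThree.SiegelGen Cfsg.Agent.TitsThree.KSideO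
open Cfsg.Agent.H51.Mult Cfsg.Agent.H48.OCross

universe u

variable {F : Type u} [Field F]

section Gen

variable {V : Type*} [AddCommGroup V] [Module F V] {Q : QuadraticForm F V}

theorem perfect_E (hG : Good Q) : commutator (E Q) = ⊤ := by
  rw [eq_top_iff, ← Subgroup.map_le_map_iff_of_injective (Subgroup.subtype_injective (E Q)),
    commutator_def, Subgroup.map_commutator, ← MonoidHom.range_eq_map, Subgroup.range_subtype,
    hG.E_perfect]

end Gen

theorem good_odd [Finite F] (h2 : (2 : F) ≠ 0) {m : ℕ} (hm : 2 ≤ m) : Good (oddForm m F) := by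
  apply good_of_finite (nondeg_oddForm m F h2)
  rw [Module.finrank_fintype_fun_eq_card, Fintype.card_sum, Fintype.card_sum, Fintype.card_fin,
    Fintype.card_unit]
  omega

theorem nd_odd (h2 : (2 : F) ≠ 0) (m : ℕ) : (polarBilin (oddForm m F)).Nondegenerate := by
  refine ⟨fun x hx => nondeg_oddForm m F h2 x fun y => ?_, fun x hx => nondeg_oddForm m F h2 x fun y => ?_⟩
  · have := hx y; rwa [polarBilin_apply_apply] at this
  · have := hx y
    rw [polarBilin_apply_apply, polar_comm] at this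
    exact this

theorem center_eq_bot [Finite F] (h2 : (2 : F) ≠ 0) {m : ℕ} (hm : 2 ≤ m) :
    Subgroup.center (Cfsg.Omega F ⇑(oddForm m F)) = ⊥ := by
  refine OrthCenter.center_omega_eq_bot_of_odd h2 (nd_odd h2 m) ?_ ?_ ?_
  · rw [Fintype.card_sum, Fintype.card_sum, Fintype.card_fin, Fintype.card_unit]; omega
  · rw [Fintype.card_sum, Fintype.card_sum, Fintype.card_fin, Fintype.card_unit]
    exact ⟨m, by omega⟩
  · refine ⟨(wodd m F).e ⟨0, by omega⟩, ?_, (sing_iff _).1 ((wodd m F).e_sing _)⟩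
    intro h
    have h1 := congrFun h (Sum.inr (Sum.inl ⟨0, by omega⟩))
    have h3 : (Pi.single (Sum.inr (Sum.inl ⟨0, by omega⟩)) 1 : Unit ⊕ (Fin m ⊕ Fin m) → F)
      (Sum.inr (Sum.inl ⟨0, by omega⟩)) = 0 := h1
    rw [Pi.single_eq_same] at h3
    exact one_ne_zero h3

/-- `Ω_{2m+1}(q)` is `PΩ_{2m+1}(q)`. -/
noncomputable def omegaEqv [Finite F] (h2 : (2 : F) ≠ 0) {m : ℕ} (hm : 2 ≤ m) :
    Cfsg.Omega F ⇑(oddForm m F) ≃* Cfsg.POmega F (Cfsg.quadFormOdd m F) :=
  ((QuotientGroup.quotientBot (G := Cfsg.Omega F ⇑(oddForm m F))).symm.trans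
    (QuotientGroup.quotientMulEquivOfEq (center_eq_bot h2 hm).symm)).trans
    (by rw [← coe_oddForm])

/-- `E` is `PΩ_{2m+1}(q)`. -/
noncomputable def eqv [Finite F] (h2 : (2 : F) ≠ 0) {m : ℕ} (hm : 2 ≤ m) :
    E (oddForm m F) ≃* Cfsg.POmega F (Cfsg.quadFormOdd m F) :=
  (toOmega (good_odd h2 hm)).trans (omegaEqv h2 hm)

theorem perfect [Finite F] (h2 : (2 : F) ≠ 0) {m : ℕ} (hm : 2 ≤ m) :
    commutator (Cfsg.POmega F (Cfsg.quadFormOdd m F)) = ⊤ :=
  Cfsg.Agent.KFacts.MulDef.commutator_top_of_surj (eqv h2 hm).toMonoidHom (eqv h2 hm).surjective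
    (perfect_E (good_odd h2 hm))

theorem perfect_omega [Finite F] (h2 : (2 : F) ≠ 0) {m : ℕ} (hm : 2 ≤ m) :
    commutator (Cfsg.Omega F ⇑(oddForm m F)) = ⊤ :=
  Cfsg.Agent.KFacts.MulDef.commutator_top_of_surj (toOmega (good_odd h2 hm)).toMonoidHom
    (toOmega (good_odd h2 hm)).surjective (perfect_E (good_odd h2 hm))

theorem span_odd (F : Type u) [Field F] (m : ℕ) : Span (wodd m F) (Pi.single (Sum.inl ()) 1) where
  mem j := by simp
  norm := by rw [coe_oddForm, quadFormOdd_apply]; simp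
  span w hw := by
    have hw' : ∀ j, w (Sum.inr j) = 0 := hw
    refine ⟨w (Sum.inl ()), ?_⟩
    funext j
    rcases j with j | j
    · simp
    · simp [hw']

/-- **Perfect central extensions of `PΩ_{2m+1}(q)` with kernel of order prime to `q`.** -/
theorem card_ker_dvd_two [Finite F] (h2 : (2 : F) ≠ 0) {m : ℕ} (hm : 2 ≤ m) {p : ℕ} [Fact p.Prime] [CharP F p]
    {L : Type} [Group L] [Finite L] {π : L →* Cfsg.POmega F (Cfsg.quadFormOdd m F)} (hπ : PCE π)
    (hcop : (Nat.card π.ker).Coprime p) : Nat.card π.ker ∣ 2 := by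
  have h1 := hπ.congr (eqv h2 hm).symm
  have h3 := ker_congr π (eqv h2 hm).symm
  rw [← h3] at hcop ⊢
  exact card_ker_dvd_two_frame h2 (wodd m F) (span_odd F m) (by omega) h1 hcop

/-- The `2`-part of the multiplier. -/
theorem bd_two [Finite F] (h2 : (2 : F) ≠ 0) {m : ℕ} (hm : 2 ≤ m) :
    Bd 2 1 (Cfsg.POmega F (Cfsg.quadFormOdd m F)) := by
  obtain ⟨p, hp'⟩ := CharP.exists F
  haveI : Fact p.Prime := ⟨(CharP.char_is_prime_or_zero F p).resolve_right (CharP.char_ne_zero_of_finite F p)⟩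
  have hp2 : p ≠ 2 := by
    rintro rfl
    have h := CharP.cast_eq_zero F 2
    exact h2 (by exact_mod_cast h)
  intro L _ _ π hπ hP
  haveI : Fact (Nat.Prime 2) := ⟨Nat.prime_two⟩
  obtain ⟨n, hn⟩ := hP.exists_card_eq
  have h1 : Nat.card π.ker ∣ 2 := by
    refine card_ker_dvd_two (p := p) h2 hm hπ ?_
    rw [hn]
    exact Nat.Coprime.pow_left n ((Nat.coprime_primes Nat.prime_two Fact.out).2 (Ne.symm hp2))
  refine ⟨?_, by rw [pow_one]; exact h1⟩
  rcases (Nat.dvd_prime Nat.prime_two).1 h1 with h | h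
  · haveI : Subsingleton π.ker := (Nat.card_eq_one_iff_unique.1 h).1
    infer_instance
  · exact isCyclic_of_prime_card h

/-- The other primes. -/
theorem noCov_cross [Finite F] (h2 : (2 : F) ≠ 0) {m : ℕ} (hm : 2 ≤ m) {p : ℕ} [Fact p.Prime] [CharP F p] {r : ℕ}
    (hr : r.Prime) (hne : r ≠ p) (hr2 : r ≠ 2) : NoCov r (Cfsg.POmega F (Cfsg.quadFormOdd m F)) := by
  intro L _ _ π hπ hc
  have h1 : Nat.card π.ker ∣ 2 := by
    refine card_ker_dvd_two (p := p) h2 hm hπ ?_
    rw [hc]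
    exact (Nat.coprime_primes hr Fact.out).2 hne
  rw [hc] at h1
  exact hr2 ((Nat.prime_dvd_prime_iff_eq hr Nat.prime_two).1 h1)

/-- **The spin cover.** -/
theorem exists_double [Finite F] (h2 : (2 : F) ≠ 0) {m : ℕ} (hm : 3 ≤ m) :
    ∃ (L : Type u) (_ : Group L) (_ : Finite L) (π : L →* Cfsg.POmega F (Cfsg.quadFormOdd m F)),
      PCE π ∧ 2 ∣ Nat.card π.ker := by
  have key : ∀ i : Fin m, oddForm m F ((wodd m F).e i + (wodd m F).f i) = 1 := by
    intro i
    have h1 : polar (oddForm m F) ((wodd m F).e i) ((wodd m F).f i) = 1 := ((wodd m F).ef i i).trans (if_pos rfl)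
    rw [Q_add, (sing_iff _).1 ((wodd m F).e_sing i), (sing_iff _).1 ((wodd m F).f_sing i), h1]
    ring
  have key2 : ∀ i j : Fin m, i ≠ j → polar (oddForm m F) ((wodd m F).e i + (wodd m F).f i)
      ((wodd m F).e j + (wodd m F).f j) = 0 := by
    intro i j hij
    have h1 : polar (oddForm m F) ((wodd m F).e i) ((wodd m F).f j) = 0 := ((wodd m F).ef i j).trans (if_neg hij)
    have h3 : polar (oddForm m F) ((wodd m F).f i) ((wodd m F).e j) = 0 := ((wodd m F).fe i j).trans (if_neg hij)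
    have h4 : polar (oddForm m F) ((wodd m F).e i) ((wodd m F).e j) = 0 := (wodd m F).ee i j
    have h5 : polar (oddForm m F) ((wodd m F).f i) ((wodd m F).f j) = 0 := (wodd m F).ff i j
    rw [polar_add_left, polar_add_right, polar_add_right, h1, h3, h4, h5]
    ring
  have n01 : (⟨0, by omega⟩ : Fin m) ≠ ⟨1, by omega⟩ := by simp [Fin.ext_iff]
  have n02 : (⟨0, by omega⟩ : Fin m) ≠ ⟨2, by omega⟩ := by simp [Fin.ext_iff]
  have n12 : (⟨1, by omega⟩ : Fin m) ≠ ⟨2, by omega⟩ := by simp [Fin.ext_iff]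
  obtain ⟨L, _, _, π, z, hπ, hz1, hz2, hz3⟩ := Cfsg.Agent.H48.Spin.exists_spin h2 (one_ne_zero (α := F))
    (nd_odd h2 m) (perfect_omega h2 (by omega)) (key ⟨0, by omega⟩) (key ⟨1, by omega⟩) (key ⟨2, by omega⟩)
    (key2 _ _ n01) (key2 _ _ n02) (key2 _ _ n12)
  refine ⟨L, inferInstance, inferInstance, (omegaEqv h2 (by omega)).toMonoidHom.comp π,
    hπ.congr (omegaEqv h2 (by omega)), ?_⟩
  rw [ker_congr]
  have h1 : orderOf (⟨z, hz1⟩ : π.ker) = 2 := by
    apply orderOf_eq_prime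
    · exact Subtype.ext (by rw [pow_two]; exact hz3)
    · intro h
      exact hz2 (congrArg Subtype.val h)
  rw [← h1]
  exact orderOf_dvd_natCard _

end Cfsg.Agent.H48.OMult
end
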