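import Cfsg.Agent.H970.TwoSporBase_m3
import Cfsg.Agent.H354.FourPerm
import Cfsg.Agent.H858.NormC
import Cfsg.Agent.H419.Spor.M12
import Cfsg.Agent.MTwelveType.SylowModel
import Cfsg.Agent.S2061
import Cfsg.Agent.H6.M11.Reps
import Cfsg.Agent.H6.M11.Stage11
import Cfsg.Agent.S2035
import Cfsg.Agent.H6.M11.Main11
import Cfsg.Agent.FastGrp
import Cfsg.Agent.Prune
set_option linter.all false

section
prune_inst 0x7ffde9fbfbf8bbffffff7e7ffe9cdffc39949fffe6dff94bffe069ffbbdf23020be5fbad0de098fe1ed7e09410b87853fb7eeeffea6fd87ffffd1ff45ffbee5ff5f7bd0951d788341fbe2fffe3f0778e7f3fffffffffffffffffffffffffffbeffffffffffff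

-- part: H6/M11/Real12
section
prune_inst 0x16000400040000000000016100020040400019000200000d9200442000653000000210044001c000002a2000000000000100050004000000400000000000020802a420003400004040001803083180c00000000000000000000000000041000000000000
set_option linter.all false
open scoped Cfsg.Agent.FastGrp

-- part: H354/SporTools
section
/-!
# HUB H1, P11: tools for the rows M11, M12, M24 (helper354)
-/

set_option autoImplicit false

namespace Cfsg.Agent.H354.Spor

open Subgroup

end Cfsg.Agent.H354.Spor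
end

-- part: H354/SharpFive
section
/-!
# Sharply 5-transitive groups of degree 12 (helper354)

* `Sh L Δ` : `L` is 5-transitive on `Δ`, `|Δ| = 12`, `|L| = 95040`;
* `cent_eleven`, `norm_eleven`, `cent_five`, `norm_five`;
* `no_55` : there is no subgroup of index 55.
-/

set_option autoImplicit false

namespace Cfsg.Agent.H354.SharpFive

open MulAction Subgroup Cfsg.Agent.H354.Spor

/-- a sharply 5-transitive group of degree 12 -/
structure Sh (L Δ : Type*) [Group L] [MulAction L Δ] : Prop where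
  finL : Finite L
  finΔ : Finite Δ
  cardΔ : Nat.card Δ = 12
  five : IsMultiplyPretransitive L Δ 5
  cardL : Nat.card L = 95040

variable {L Δ : Type*} [Group L] [MulAction L Δ]

theorem Sh.sharp (S : Sh L Δ) {g : L} (x : Fin 5 ↪ Δ) (hx : ∀ i, g • x i = x i) : g = 1 := by
  have := S.finL
  have := S.finΔ
  classical
  have := Fintype.ofFinite Δ
  have hc : Fintype.card Δ = 12 := by rw [← Nat.card_eq_fintype_card, S.cardΔ]
  have := S.five
  have h1 := MulAction.index_stabilizer_of_transitive L x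
  rw [Nat.card_eq_fintype_card (α := Fin 5 ↪ Δ), Fintype.card_embedding_eq, Fintype.card_fin, hc] at h1
  have h2 := (stabilizer L x).card_mul_index
  rw [h1, S.cardL] at h2
  have h3 : Nat.descFactorial 12 5 = 95040 := by decide
  rw [h3] at h2
  have h4 : Nat.card (stabilizer L x) = 1 := by omega
  have h5 : g ∈ stabilizer L x := by
    rw [mem_stabilizer_iff]
    ext i
    exact hx i
  rw [Subgroup.card_eq_one.1 h4] at h5
  exact h5

theorem Sh.eq_one (S : Sh L Δ) {g : L} {s : Set Δ} (hs : 5 ≤ s.ncard) (hfix : ∀ p ∈ s, g • p = p) : g = 1 := by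
  have := S.finΔ
  classical
  have := Fintype.ofFinite ↥s
  have h1 : Fintype.card (Fin 5) ≤ Fintype.card ↥s := by
    rw [Fintype.card_fin, ← Nat.card_eq_fintype_card, Nat.card_coe_set_eq]
    exact hs
  obtain ⟨f⟩ := Function.Embedding.nonempty_of_card_le h1
  exact S.sharp (f.trans (Function.Embedding.subtype _)) fun i => hfix _ (f i).2

theorem Sh.eq_one_of_card (S : Sh L Δ) {R : Subgroup L} (hs : 5 ≤ Nat.card (fixedPoints ↥R Δ)) : R = ⊥ := by
  rw [Subgroup.eq_bot_iff_forall]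
  intro g hg
  rw [Nat.card_coe_set_eq] at hs
  exact S.eq_one hs fun p hp => hp ⟨g, hg⟩

theorem Sh.card_fix_mod (S : Sh L Δ) {p : ℕ} [Fact p.Prime] {R : Subgroup L} (hR : IsPGroup p ↥R) :
    12 ≡ Nat.card (fixedPoints ↥R Δ) [MOD p] := by
  have := S.finΔ
  rw [← S.cardΔ]
  exact hR.card_modEq_card_fixedPoints Δ

theorem Sh.card_fix_le (S : Sh L Δ) {R : Subgroup L} (hR : R ≠ ⊥) : Nat.card (fixedPoints ↥R Δ) ≤ 4 := by
  by_contra hcon
  exact hR (S.eq_one_of_card (by omega))

/-- free action on the complement of an invariant set -/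
theorem card_dvd_compl {U : Type*} [Group U] [MulAction U Δ] [Finite U] [Finite Δ] {s : Set Δ}
    (hs : ∀ (u : U), ∀ p ∈ s, u • p ∈ s) (hf : ∀ (u : U), ∀ p, p ∉ s → u • p = p → u = 1) :
    Nat.card U ∣ Nat.card Δ - s.ncard := by
  classical
  let X := {p : Δ // p ∉ s}
  have hs' : ∀ (u : U) (p : Δ), p ∉ s → u • p ∉ s := by
    intro u p hp h
    apply hp
    have := hs u⁻¹ _ h
    rwa [inv_smul_smul] at this
  let : MulAction U X :=
    { smul := fun u p => ⟨u • p.1, hs' u p.1 p.2⟩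
      one_smul := fun p => Subtype.ext (one_smul _ _)
      mul_smul := fun u v p => Subtype.ext (mul_smul _ _ _) }
  have h1 : Nat.card U ∣ Nat.card X := by
    have hcard : ∀ x : X, stabilizer U x = ⊥ := by
      intro x
      rw [Subgroup.eq_bot_iff_forall]
      intro u hu
      exact hf u x.1 x.2 (congrArg Subtype.val hu)
    have := Fintype.ofFinite U
    have := Fintype.ofFinite X
    have := Fintype.ofFinite (Quotient (orbitRel U X))
    have h1 := card_eq_sum_card_group_div_card_stabilizer U X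
    have h2 : ∀ ω : Quotient (orbitRel U X), Fintype.card U / Fintype.card (stabilizer U ω.out) = Fintype.card U := by
      intro ω
      have h3 : Fintype.card (stabilizer U ω.out) = 1 := by
        rw [← Nat.card_eq_fintype_card, hcard, Subgroup.card_bot]
      rw [h3, Nat.div_one]
    rw [Finset.sum_congr rfl fun ω _ => h2 ω, Finset.sum_const, smul_eq_mul] at h1
    rw [Nat.card_eq_fintype_card, Nat.card_eq_fintype_card, h1]
    exact Dvd.intro_left _ rfl
  have h2 : Nat.card X = Nat.card Δ - s.ncard := by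
    have h3 : Nat.card X = (sᶜ).ncard := rfl
    rw [h3, Set.ncard_compl]
  rwa [h2] at h1

/-- elements of order 11 -/
theorem Sh.cent_eleven (S : Sh L Δ) {x : L} (hx : orderOf x = 11) :
    Nat.card (centralizer ({x} : Set L)) = 11 := by
  have := S.finL
  have := S.finΔ
  have : Fact (Nat.Prime 11) := ⟨by norm_num⟩
  have hne : zpowers x ≠ ⊥ := by
    intro h
    have := Nat.card_zpowers x
    rw [h, Subgroup.card_bot, hx] at this
    omega
  have h1 := S.card_fix_mod (p := 11) (R := zpowers x) (IsPGroup.of_card (n := 1) (by rw [Nat.card_zpowers, hx, pow_one]))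
  have h2 := S.card_fix_le hne
  have h3 : Nat.card (fixedPoints ↥(zpowers x) Δ) = 1 := by
    unfold Nat.ModEq at h1
    omega
  have h4 : Nat.card ↥(centralizer ({x} : Set L)) ∣ Nat.card Δ - (fixedPoints ↥(zpowers x) Δ).ncard := by
    refine card_dvd_compl ?_ ?_
    · rintro ⟨u, hu⟩ p hp ⟨r, hr⟩
      have h5 : r * u = u * r := by
        obtain ⟨k, rfl⟩ := mem_zpowers_iff.1 hr
        have h6 : Commute x u := mem_centralizer_iff.1 hu x rfl
        exact (h6.zpow_left k).eq
      show r • u • p = u • p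
      rw [← mul_smul, h5, mul_smul]
      congr 1
      exact hp ⟨r, hr⟩
    · rintro ⟨u, hu⟩ p hp hup
      apply Subtype.ext
      have hup' : u • p = p := hup
      have hcomm : ∀ k : ℕ, u * x ^ k = x ^ k * u := by
        intro k
        have h6 : Commute x u := mem_centralizer_iff.1 hu x rfl
        exact (h6.pow_left k).eq.symm
      have hinj : ∀ i j : ℕ, i < 5 → j < 5 → x ^ i • p = x ^ j • p → i = j := by
        have key : ∀ i j : ℕ, i < j → j < 5 → x ^ i • p ≠ x ^ j • p := by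
          intro i j hij hj h
          apply hp
          have h7 : x ^ (j - i) • p = p := by
            have h8 : x ^ j = x ^ i * x ^ (j - i) := by rw [← pow_add]; congr 1; omega
            rw [h8, mul_smul] at h
            exact (smul_left_cancel _ h).symm
          have h9 : x ∈ zpowers (x ^ (j - i)) := by
            have h10 : zpowers (x ^ (j - i)) = zpowers x := by
              apply eq_of_le_of_card_ge
              · rw [zpowers_le]; exact npow_mem_zpowers x _
              · rw [Nat.card_zpowers, Nat.card_zpowers, orderOf_pow, hx]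
                have : Nat.gcd 11 (j - i) = 1 := by
                  rw [← Nat.coprime_iff_gcd_eq_one, Nat.Prime.coprime_iff_not_dvd (by norm_num)]
                  intro h11
                  have := Nat.le_of_dvd (by omega) h11
                  omega
                rw [this]
            rw [h10]; exact mem_zpowers x
          obtain ⟨k, hk⟩ := mem_zpowers_iff.1 h9
          have h11 : x • p = p := by
            rw [← hk]
            have h12 : x ^ (j - i) ∈ stabilizer L p := h7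
            exact (stabilizer L p).zpow_mem h12 k
          rintro ⟨r, hr⟩
          obtain ⟨m, rfl⟩ := mem_zpowers_iff.1 hr
          have h12 : x ∈ stabilizer L p := h11
          exact (stabilizer L p).zpow_mem h12 m
        intro i j hi hj h
        rcases Nat.lt_trichotomy i j with h1 | h1 | h1
        · exact (key i j h1 hj h).elim
        · exact h1
        · exact (key j i h1 hi h.symm).elim
      refine S.sharp ⟨fun i : Fin 5 => x ^ (i : ℕ) • p, fun i j h => Fin.ext (hinj i j i.2 j.2 h)⟩ ?_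
      intro i
      show u • x ^ (i : ℕ) • p = x ^ (i : ℕ) • p
      rw [← mul_smul, hcomm, mul_smul, hup']
  rw [S.cardΔ, ← Nat.card_coe_set_eq, h3] at h4
  have h5 : 11 ∣ Nat.card ↥(centralizer ({x} : Set L)) := by
    rw [← hx]
    exact Subgroup.orderOf_dvd_natCard _ (mem_centralizer_singleton_iff.2 rfl)
  exact Nat.dvd_antisymm h4 h5

/-- elements of order 5 -/
theorem Sh.cent_five (S : Sh L Δ) {y : L} (hy : orderOf y = 5) :
    Nat.card (centralizer ({y} : Set L)) ∣ 20 := by
  have := S.finL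
  have := S.finΔ
  classical
  have : Fact (Nat.Prime 5) := ⟨by norm_num⟩
  have hne : zpowers y ≠ ⊥ := by
    intro h
    have := Nat.card_zpowers y
    rw [h, Subgroup.card_bot, hy] at this
    omega
  have h1 := S.card_fix_mod (p := 5) (R := zpowers y) (IsPGroup.of_card (n := 1) (by rw [Nat.card_zpowers, hy, pow_one]))
  have h2 := S.card_fix_le hne
  have h3 : Nat.card (fixedPoints ↥(zpowers y) Δ) = 2 := by
    unfold Nat.ModEq at h1
    omega
  set F := fixedPoints ↥(zpowers y) Δ with hF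
  have hinv : ∀ u ∈ centralizer ({y} : Set L), ∀ p ∈ F, u • p ∈ F := by
    rintro u hu p hp ⟨r, hr⟩
    have h5 : r * u = u * r := by
      obtain ⟨k, rfl⟩ := mem_zpowers_iff.1 hr
      have h6 : Commute y u := mem_centralizer_iff.1 hu y rfl
      exact (h6.zpow_left k).eq
    show r • u • p = u • p
    rw [← mul_smul, h5, mul_smul]
    congr 1
    exact hp ⟨r, hr⟩
  -- two fixed points
  rw [Nat.card_coe_set_eq, Set.ncard_eq_two] at h3
  obtain ⟨a, b, hab, hFab⟩ := h3
  -- the stabilizer of `a` in `C(y)` has index at most 2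
  set C := centralizer ({y} : Set L) with hC
  have hinv' : ∀ u ∈ C, (u • a = a ∨ u • a = b) ∧ (u • b = a ∨ u • b = b) := by
    intro u hu
    have ha := hinv u hu a (by rw [hFab]; exact Set.mem_insert _ _)
    have hb := hinv u hu b (by rw [hFab]; exact Set.mem_insert_of_mem _ rfl)
    rw [hFab] at ha hb
    exact ⟨ha, hb⟩
  have hidx : (stabilizer ↥C a).index ∣ 2 := by
    rw [MulAction.index_stabilizer]
    have h4 : orbit ↥C a ⊆ {a, b} := by
      rintro _ ⟨⟨u, hu⟩, rfl⟩
      exact (hinv' u hu).1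
    have h5 : (orbit ↥C a).ncard ≤ 2 := (Set.ncard_le_ncard h4 (Set.toFinite _)).trans (Set.ncard_insert_le a {b} |>.trans (by rw [Set.ncard_singleton]))
    have h6 : 0 < (orbit ↥C a).ncard := (Set.ncard_pos (Set.toFinite _)).2 ⟨a, mem_orbit_self a⟩
    have h7 : (orbit ↥C a).ncard = 1 ∨ (orbit ↥C a).ncard = 2 := by omega
    rcases h7 with h7 | h7 <;> rw [h7]
    exact one_dvd _
  have hfree : Nat.card (stabilizer ↥C a) ∣ Nat.card Δ - F.ncard := by
    refine card_dvd_compl (U := stabilizer ↥C a) ?_ ?_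
    · rintro ⟨⟨u, hu⟩, hua⟩ p hp
      exact hinv u hu p hp
    · rintro ⟨⟨u, hu⟩, hua⟩ p hp hup
      have hup' : u • p = p := hup
      have hua' : u • a = a := hua
      have hub' : u • b = b := by
        rcases (hinv' u hu).2 with h | h
        · exfalso
          apply hab
          exact smul_left_cancel u (hua'.trans h.symm)
        · exact h
      apply Subtype.ext
      apply Subtype.ext
      show u = 1
      have hcomm : ∀ k : ℕ, u * y ^ k = y ^ k * u := by
        intro k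
        have h6 : Commute y u := mem_centralizer_iff.1 hu y rfl
        exact (h6.pow_left k).eq.symm
      have hyp : y • p ≠ p := by
        intro h
        apply hp
        rintro ⟨r, hr⟩
        obtain ⟨m, rfl⟩ := mem_zpowers_iff.1 hr
        have h12 : y ∈ stabilizer L p := h
        exact (stabilizer L p).zpow_mem h12 m
      have hinj : ∀ i j : ℕ, i < 5 → j < 5 → y ^ i • p = y ^ j • p → i = j := by
        have key : ∀ i j : ℕ, i < j → j < 5 → y ^ i • p ≠ y ^ j • p := by
          intro i j hij hj h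
          apply hyp
          have h7 : y ^ (j - i) • p = p := by
            have h8 : y ^ j = y ^ i * y ^ (j - i) := by rw [← pow_add]; congr 1; omega
            rw [h8, mul_smul] at h
            exact (smul_left_cancel _ h).symm
          have h9 : y ∈ zpowers (y ^ (j - i)) := by
            have h10 : zpowers (y ^ (j - i)) = zpowers y := by
              apply eq_of_le_of_card_ge
              · rw [zpowers_le]; exact npow_mem_zpowers y _
              · rw [Nat.card_zpowers, Nat.card_zpowers, orderOf_pow, hy]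
                have : Nat.gcd 5 (j - i) = 1 := by
                  rw [← Nat.coprime_iff_gcd_eq_one, Nat.Prime.coprime_iff_not_dvd (by norm_num)]
                  intro h11
                  have := Nat.le_of_dvd (by omega) h11
                  omega
                rw [this]
            rw [h10]; exact mem_zpowers y
          obtain ⟨k, hk⟩ := mem_zpowers_iff.1 h9
          rw [← hk]
          have h12 : y ^ (j - i) ∈ stabilizer L p := h7
          exact (stabilizer L p).zpow_mem h12 k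
        intro i j hi hj h
        rcases Nat.lt_trichotomy i j with h1 | h1 | h1
        · exact (key i j h1 hj h).elim
        · exact h1
        · exact (key j i h1 hi h.symm).elim
      refine S.sharp ⟨fun i : Fin 5 => y ^ (i : ℕ) • p, fun i j h => Fin.ext (hinj i j i.2 j.2 h)⟩ ?_
      intro i
      show u • y ^ (i : ℕ) • p = y ^ (i : ℕ) • p
      rw [← mul_smul, hcomm, mul_smul, hup']
  have hF2 : F.ncard = 2 := by rw [hFab, Set.ncard_pair hab]
  rw [S.cardΔ, hF2] at hfree
  rw [← Subgroup.index_mul_card (stabilizer ↥C a)]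
  exact Nat.mul_dvd_mul hidx hfree

/-! ### no subgroup of index 55 -/

/-- three fixed points -/
def P3 (H : Subgroup L) (a b c : Δ) : Prop := ∀ g : L, g • a = a → g • b = b → g • c = c → g ∈ H

theorem Sh.card_stab3 (S : Sh L Δ) {a b c : Δ} (hab : a ≠ b) (hac : a ≠ c) (hbc : b ≠ c) :
    Nat.card ↥(stabilizer L a ⊓ stabilizer L b ⊓ stabilizer L c) = 72 := by
  have := S.finL
  have := S.finΔ
  classical
  have := Fintype.ofFinite Δ
  have hc : Fintype.card Δ = 12 := by rw [← Nat.card_eq_fintype_card, S.cardΔ]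
  have := S.five
  have h3 : IsMultiplyPretransitive L Δ 3 := isMultiplyPretransitive_of_le (n := 5) (by omega) (by rw [S.cardΔ]; norm_num)
  obtain ⟨x, hx0, hx1, hx2⟩ := S0699.exists_embedding a b c hab hac hbc
  have h1 := MulAction.index_stabilizer_of_transitive L x
  rw [Nat.card_eq_fintype_card (α := Fin 3 ↪ Δ), Fintype.card_embedding_eq, Fintype.card_fin, hc] at h1
  have h2 := (stabilizer L x).card_mul_index
  rw [h1, S.cardL] at h2
  have h4 : Nat.descFactorial 12 3 = 1320 := by decide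
  rw [h4] at h2
  have h5 : stabilizer L x = stabilizer L a ⊓ stabilizer L b ⊓ stabilizer L c := by
    ext g
    rw [mem_inf, mem_inf, mem_stabilizer_iff, mem_stabilizer_iff, mem_stabilizer_iff, mem_stabilizer_iff]
    constructor
    · intro h
      have h6 : ∀ i, g • x i = x i := fun i => DFunLike.congr_fun h i
      exact ⟨⟨by rw [← hx0, h6], by rw [← hx1, h6]⟩, by rw [← hx2, h6]⟩
    · rintro ⟨⟨h6, h7⟩, h8⟩
      ext i
      fin_cases i
      · show g • x 0 = x 0
        rw [hx0, h6]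
      · show g • x 1 = x 1
        rw [hx1, h7]
      · show g • x 2 = x 2
        rw [hx2, h8]
  rw [← h5]
  omega

/-- **Claim 2** -/
theorem Sh.claim (S : Sh L Δ) {H : Subgroup L} (hst : ∀ u : Δ, Nat.card ↥(H ⊓ stabilizer L u) = 144) (u : Δ) :
    ∃ y z : Δ, u ≠ y ∧ u ≠ z ∧ y ≠ z ∧ (∀ g ∈ H, g • u = u → (g • y = y ∨ g • y = z) ∧ (g • z = y ∨ g • z = z)) ∧
      P3 H u y z := by
  have := S.finL
  have := S.finΔ
  classical
  have hp3 : Fact (Nat.Prime 3) := ⟨by norm_num⟩
  -- a subgroup of order 9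
  obtain ⟨R₀, hR₀⟩ := Sylow.exists_subgroup_card_pow_prime (G := ↥(H ⊓ stabilizer L u)) 3 (n := 2)
    (by rw [hst]; norm_num)
  set R : Subgroup L := R₀.map (H ⊓ stabilizer L u).subtype with hR
  have hRle : R ≤ H ⊓ stabilizer L u := by rw [hR]; exact map_subtype_le _
  have hRcard : Nat.card R = 9 := by
    rw [hR, ← Nat.card_congr (R₀.equivMapOfInjective _ (H ⊓ stabilizer L u).subtype_injective).toEquiv, hR₀]
    norm_num
  have hRp : IsPGroup 3 ↥R := IsPGroup.of_card (n := 2) (by rw [hRcard]; norm_num)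
  have hRne : R ≠ ⊥ := by
    intro h
    rw [h, Subgroup.card_bot] at hRcard
    omega
  have h1 := S.card_fix_mod hRp
  have h2 := S.card_fix_le hRne
  have hu : u ∈ fixedPoints ↥R Δ := fun r => (hRle r.2).2
  have h3 : 0 < Nat.card (fixedPoints ↥R Δ) := by
    rw [Nat.card_coe_set_eq, Set.ncard_pos (Set.toFinite _)]
    exact ⟨u, hu⟩
  have h4 : (fixedPoints ↥R Δ).ncard = 3 := by
    rw [← Nat.card_coe_set_eq]
    unfold Nat.ModEq at h1
    omega
  have h5 : ((fixedPoints ↥R Δ) \ {u}).ncard = 2 := by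
    rw [Set.ncard_sdiff_singleton_of_mem hu, h4]
  obtain ⟨y, z, hyz, hset⟩ := Set.ncard_eq_two.1 h5
  have hy : y ∈ (fixedPoints ↥R Δ) \ {u} := by rw [hset]; exact Set.mem_insert _ _
  have hz : z ∈ (fixedPoints ↥R Δ) \ {u} := by rw [hset]; exact Set.mem_insert_of_mem _ rfl
  have hfixiff : ∀ p, p ∈ fixedPoints ↥R Δ ↔ p = u ∨ p = y ∨ p = z := by
    intro p
    constructor
    · intro hp
      by_cases hpu : p = u
      · exact Or.inl hpu
      · right
        have : p ∈ (fixedPoints ↥R Δ) \ {u} := ⟨hp, hpu⟩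
        rw [hset] at this
        exact this
    · rintro (rfl | rfl | rfl)
      · exact hu
      · exact hy.1
      · exact hz.1
  have huy : u ≠ y := fun h => hy.2 h.symm
  have huz : u ≠ z := fun h => hz.2 h.symm
  -- `R` is free on the other points
  have hfree : ∀ p, p ∉ fixedPoints ↥R Δ → ∀ r ∈ R, r • p = p → r = 1 := by
    intro p hp r hr hrp
    by_contra hr1
    have hZ : zpowers r ≠ ⊥ := by rwa [ne_eq, zpowers_eq_bot]
    have hZp : IsPGroup 3 ↥(zpowers r) := hRp.to_le (by rwa [zpowers_le])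
    have e1 := S.card_fix_mod hZp
    have e2 := S.card_fix_le hZ
    have hmem : ∀ q : Δ, r • q = q → q ∈ fixedPoints ↥(zpowers r) Δ := by
      rintro q hq ⟨k, hk⟩
      obtain ⟨m, rfl⟩ := mem_zpowers_iff.1 hk
      have h12 : r ∈ stabilizer L q := hq
      exact (stabilizer L q).zpow_mem h12 m
    have e3 : insert p (fixedPoints ↥R Δ) ⊆ fixedPoints ↥(zpowers r) Δ := by
      rintro q (rfl | hq)
      · exact hmem _ hrp
      · exact hmem _ (hq ⟨r, hr⟩)
    have e4 := Set.ncard_le_ncard e3 (Set.toFinite _)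
    rw [Set.ncard_insert_of_notMem hp (Set.toFinite _), h4, ← Nat.card_coe_set_eq (s := fixedPoints ↥(zpowers r) Δ)] at e4
    unfold Nat.ModEq at e1
    omega
  -- the orbits of `H_u`
  have horb : ∀ p, p ∉ fixedPoints ↥R Δ → orbit ↥(H ⊓ stabilizer L u) p = (fixedPoints ↥R Δ)ᶜ := by
    intro p hp
    have e1 : (orbit ↥R p).ncard = 9 := by
      rw [← MulAction.index_stabilizer]
      have : stabilizer ↥R p = ⊥ := by
        rw [Subgroup.eq_bot_iff_forall]
        rintro ⟨r, hr⟩ hrp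
        exact Subtype.ext (hfree p hp r hr hrp)
      rw [this, Subgroup.index_bot, hRcard]
    have e2 : orbit ↥R p ⊆ (fixedPoints ↥R Δ)ᶜ := by
      rintro _ ⟨⟨r, hr⟩, rfl⟩ hq
      apply hp
      have hq' : r • p ∈ fixedPoints ↥R Δ := hq
      have e5 : r⁻¹ • r • p = r • p := hq' ⟨r⁻¹, inv_mem hr⟩
      rw [inv_smul_smul] at e5
      rw [e5]
      exact hq'
    have e3 : ((fixedPoints ↥R Δ)ᶜ : Set Δ).ncard = 9 := by rw [Set.ncard_compl, S.cardΔ, h4]
    have e4 : orbit ↥R p = (fixedPoints ↥R Δ)ᶜ := Set.eq_of_subset_of_ncard_le e2 (by rw [e1, e3]) (Set.toFinite _)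
    have e5 : (fixedPoints ↥R Δ)ᶜ ⊆ orbit ↥(H ⊓ stabilizer L u) p := by
      rw [← e4]
      rintro _ ⟨⟨r, hr⟩, rfl⟩
      exact ⟨⟨r, hRle hr⟩, rfl⟩
    have e6 : orbit ↥(H ⊓ stabilizer L u) p ⊆ ({u} : Set Δ)ᶜ := by
      rintro _ ⟨⟨g, hg, g1⟩, rfl⟩ h
      have h7 : g • p = u := h
      have g1' : g • u = u := g1
      have h8 : p = u := smul_left_cancel g (h7.trans g1'.symm)
      rw [h8] at hp
      exact hp hu
    have e7 := Set.ncard_le_ncard e5 (Set.toFinite _)
    have e8 := Set.ncard_le_ncard e6 (Set.toFinite _)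
    rw [Set.ncard_compl, S.cardΔ, Set.ncard_singleton] at e8
    rw [e3] at e7
    have hdvd : (orbit ↥(H ⊓ stabilizer L u) p).ncard ∣ 144 := by
      rw [← hst u, ← MulAction.index_stabilizer]
      exact Subgroup.index_dvd_card _
    have e9 : (orbit ↥(H ⊓ stabilizer L u) p).ncard = 9 := by
      rcases (show (orbit ↥(H ⊓ stabilizer L u) p).ncard = 9 ∨ (orbit ↥(H ⊓ stabilizer L u) p).ncard = 10 ∨
        (orbit ↥(H ⊓ stabilizer L u) p).ncard = 11 by omega) with h | h | h
      · exact h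
      · rw [h] at hdvd; norm_num at hdvd
      · rw [h] at hdvd; norm_num at hdvd
    exact (Set.eq_of_subset_of_ncard_le e5 (by rw [e3, e9]) (Set.toFinite _)).symm
  have hinv : ∀ g ∈ H, g • u = u → ∀ q, q ∈ fixedPoints ↥R Δ → g • q ∈ fixedPoints ↥R Δ := by
    intro g hg hgu q hq
    by_contra hcon
    have e1 := horb (g • q) hcon
    have e2 : q ∈ orbit ↥(H ⊓ stabilizer L u) (g • q) :=
      ⟨⟨g⁻¹, H.inv_mem hg, by show g⁻¹ • u = u; rw [inv_smul_eq_iff, hgu]⟩, inv_smul_smul g q⟩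
    rw [e1] at e2
    exact e2 hq
  have hinv2 : ∀ g ∈ H, g • u = u → (g • y = y ∨ g • y = z) ∧ (g • z = y ∨ g • z = z) := by
    intro g hg hgu
    have e1 := (hfixiff _).1 (hinv g hg hgu y hy.1)
    have e2 := (hfixiff _).1 (hinv g hg hgu z hz.1)
    refine ⟨e1.resolve_left ?_, e2.resolve_left ?_⟩
    · intro h
      exact huy (smul_left_cancel g (hgu.trans h.symm))
    · intro h
      exact huz (smul_left_cancel g (hgu.trans h.symm))
  refine ⟨y, z, huy, huz, hyz, hinv2, ?_⟩
  -- the pointwise stabilizer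
  set K := stabilizer ↥(H ⊓ stabilizer L u) y with hK
  have hidx : K.index ≤ 2 := by
    rw [hK, MulAction.index_stabilizer]
    have e4 : orbit ↥(H ⊓ stabilizer L u) y ⊆ {y, z} := by
      rintro _ ⟨⟨g, hg, g1⟩, rfl⟩
      exact (hinv2 g hg g1).1
    exact (Set.ncard_le_ncard e4 (Set.toFinite _)).trans (by rw [Set.ncard_pair hyz])
  have hcardK : 72 ≤ Nat.card K := by
    have e1 := K.card_mul_index
    rw [hst u] at e1
    have e2 : 0 < Nat.card K := Nat.card_pos
    nlinarith only [hidx, e1]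
  let f : ↥K → ↥(stabilizer L u ⊓ stabilizer L y ⊓ stabilizer L z) := fun k =>
    ⟨k.1.1, ⟨⟨k.1.2.2, k.2⟩, by
      have e1 : (k.1.1 : L) • y = y := k.2
      rcases (hinv2 k.1.1 k.1.2.1 k.1.2.2).2 with h | h
      · exact absurd (smul_left_cancel k.1.1 (h.trans e1.symm)) (Ne.symm hyz)
      · exact h⟩⟩
  have hf : Function.Injective f := by
    intro k k' h
    have : (f k : L) = f k' := by rw [h]
    exact Subtype.ext (Subtype.ext this)
  have hsurj : Function.Surjective f := by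
    have e1 := S.card_stab3 huy huz hyz
    exact ((Nat.bijective_iff_injective_and_card f).2 ⟨hf, le_antisymm
      (Nat.card_le_card_of_injective f hf) (by rw [e1]; exact hcardK)⟩).2
  intro g g1 g2 g3
  obtain ⟨k, hk⟩ := hsurj ⟨g, ⟨g1, g2⟩, g3⟩
  have : (k.1.1 : L) = g := congrArg Subtype.val hk
  rw [← this]
  exact k.1.2.1

end Cfsg.Agent.H354.SharpFive
end

-- part: H354/TwoM12
section
/-!
# HUB H1, P11: `M12` (helper354)
-/

set_option autoImplicit false

namespace Cfsg.Agent.H354.TwoM12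

open Subgroup MulAction Cfsg.Agent.H384.TwoTrans Cfsg.Agent.H970.StabNum Cfsg.Agent.H970.TwoSpor
  Cfsg.Agent.OrdDiv Cfsg.Agent.H354.Spor Cfsg.Agent.H354.SharpFive

universe u v

/-- the sharply 5-transitive action of a group isomorphic to `M12` -/
theorem exists_sh {T : Type u} [Group T] (h : Cfsg.Spor.IsoM12 T) : ∃ (Δ : Type) (_ : MulAction T Δ), Sh T Δ := by
  obtain ⟨e⟩ := h
  have hcard : Nat.card T = 95040 := (Nat.card_congr e.toEquiv).trans MTwelveType.SylowModel.card_M12
  refine ⟨H419.Spor.M12.Pts, MulAction.compHom _ e.toMonoidHom, ?_⟩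
  let : MulAction T H419.Spor.M12.Pts := MulAction.compHom _ e.toMonoidHom
  refine ⟨Nat.finite_of_card_ne_zero (by rw [hcard]; norm_num), inferInstance, ?_, ?_, hcard⟩
  · rw [Nat.card_eq_fintype_card]
    decide +kernel
  · constructor
    intro x y
    let x' : Fin 5 ↪ Cfsg.GolayPt := x.trans (Function.Embedding.subtype _)
    let y' : Fin 5 ↪ Cfsg.GolayPt := y.trans (Function.Embedding.subtype _)
    obtain ⟨g, hg, -⟩ := Cfsg.Agent.S0384.result Cfsg.Spor.squareDodecad Cfsg.Agent.Schreier.MEleven.squareDodecad_mem x' y'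
      (fun i => (x i).2) (fun i => (y i).2)
    refine ⟨e.symm ⟨g.1.1, g.1.2, g.2⟩, ?_⟩
    apply DFunLike.ext
    intro i
    show e (e.symm ⟨g.1.1, g.1.2, g.2⟩) • x i = y i
    rw [e.apply_symm_apply]
    exact Subtype.ext (hg i)

variable {G : Type u} {Ω : Type v} [Group G] [MulAction G Ω] {T : Subgroup G}

end Cfsg.Agent.H354.TwoM12
end

-- part: H6/M11/Real12
section
/-!
# Real elements of the Mathieu group of degree 12 (helper6)
-/

set_option autoImplicit false
set_option maxRecDepth 100000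

namespace Cfsg.Agent.H6.M11

open Cfsg Cfsg.Agent.CoThreeStd.MTwelve
open scoped Pointwise

/-- the centralizer of `p r`: words and conjugating words to the inverse -/
def CV : List (List ℕ × List ℕ) := [
  ([], []), ([1,5,3,4,3,1,0,5,2,1], [0]), ([1,2,5,3,4,3,1,0,5,1], [0]),
  ([2,3,1,2], []), ([0,5,4,2,5,3,1,0], []), ([2,5,2,3,4,5,1,0,5,2], [1,5,4,2,5,1]),
  ([3,4,2,5,3,2,5,1,5,0], [1,5,4,2,5,1]), ([3,0,5,4,2,5], [1,0]), ([4,3,5,1,5,2,1,0,5,2], [1,5,4,2,5,1]),
  ([4,5,4,1,2,1,5,4,1], [1]), ([5,4,1,5,1,5,0,5,4,2], []), ([5,1,2,5,4,3,5,1,5,0], [5,4,1,5]),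
  ([5,1,5,2,3,5,4,2,3,1], [1,5,4,2,5,1]), ([4,1,5,4,1,2,1,5,4], [1]), ([5,1,2,3,4,5,4,0,5,2], []),
  ([4,5,1,2,0,5,3,4,5,2], [0,5,4,2,5,0]), ([5,4,2,5,3,0], [1,0]), ([2,5,4,3,5,2,1,0,5,4], [0,5,4,2,5,0]),
  ([5,2,3,4,1,0,5,2,3,0], [5,4,1,5]), ([1,5,4,2,5,1], []), ([4,2,5,3,1,0,5,4,2,1], []),
  ([2,5,3,4,3,1,0,5,0], []), ([4,2,1,5,3,1,0,5,4,1], []), ([5,4,0,5,1,0,5,4,0,5,1,0], []),
  ([4,5,3,1,0,5,4,3,2,1], []), ([0], []), ([2,3,1,2,0], []),
  ([4,5,3,1,0,5,4,1,2,3], []), ([5,1,5,0,5,1,2,5,4,3], [0,5,4,2,5,0]), ([4,0,5,4,1,2,1,5,4,1], [1,0]),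
  ([5,0,5,1,5,3,1,5,3,4], [0]), ([3,2,5,4,3,1,2,0,5], [1,5,4,2,5,1]), ([5,4,2,5,3,1,0], [0]),
  ([4,5,0,5,2,1,5,0,5,3], [5,4,2,5]), ([4,2,5,3,2,5,1,5,1,0], [5,4,2,5]), ([3,5,4,2,5], [1]),
  ([0,5,4,2,5,3,0], [1]), ([5,1,5,3,4,1,2,5,3,2], [5,2,3,1,2,5]), ([5,1,5,3,4,5,2,1,5], [1,0,5,4,2,5,1,0]),
  ([1,0,5,4,2,5,1], [0]), ([5,1,5,2,3,5,4,2,3], [0,5,4,2,5,0]), ([5,4,5,1,2,5,0,5,4,2], [1,0]),
  ([5,4,1,5,4,2,3,2,0,5], [0]), ([5,3,4,1,2,5,4,5,3,2], [1,5,4,2,5,1]), ([5,3,4,3,1,0,5,2], [0]),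
  ([5,4,2,5,0,5,4,2,5,1,0], [0]), ([5,2,0,5,3,1,5,2,0,5,0], [0]), ([2,5,3,4,3,1,0,5,3,1], [0]),
  ([5,2,1,5,0,5,1,5,3,4], [0,5,4,2,5,0]), ([3,0,5,4,2,5,0], [1]), ([0,5,4,2,5,3,1], [0]),
  ([3,4,2,5,3,2,5,1,5], [0,5,4,2,5,0]), ([4,1,5,4,1,2,1,5,4,1], []), ([3,5,1,5,0,5,1,2,5,4], [1,0,5,4,2,5,1,0]),
  ([2,5,4,3,1,2,0,5,1], [5,4,2,5]), ([2,1,5,0,5,2,3,1,5,4], [1]), ([1], []),
  ([5,3,4,3,1,0,5,2,1], [1,0]), ([1,2,3,1,2], [1]), ([2,5,3,4,3,1,0,5,1], [1,0]),
  ([4,2,5,3,1,0,5,4,2], []), ([4,5,3,1,0,5,4,3,2], [1]), ([5,2,0,5,3,0,5,2,0,5,0], [0]),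
  ([4,5,3,1,0,5,4,1,2], [1]), ([4,5,2,3,5,4,5,4,3,2], [1,5,4,2,5,1]), ([3,5,4,2,5,1,0], [0]),
  ([5,4,2,5,1], [1]), ([5,2,3,4,1,0,5,2,1], [1,5,4,2,5,1]), ([4,5,4,1,2,1,5,4], []),
  ([3,5,1,5,2,3,5,4,2], [1,0,5,4,2,5,1,0]), ([5,3,4,2,5,4,1,5,1,2], [5,4,2,5]), ([3,4,0,5,4,1,2,1,5,4,0], [1]),
  ([4,5,3,1,5,1,5,1,0,5], [0]), ([3,5,1,5,2,1,0,5,4,2], [5,4,2,5]), ([5,1,2,5,4,3,5,1,5], [1,0,5,4,2,5,1,0]),
  ([4,5,4,1,2,1,5,4,1,0], [1,0]), ([4,5,2,1,5,0,5,1,5,3], [1,0,5,4,2,5,1,0]), ([3,5,4,2,5,0], [1,0]),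
  ([5,4,2,5,3,1], []), ([4,2,5,3,2,5,1,5,1], [2,5,3,1,5,2]), ([2,3,4,5,3,1,0,5,4], [1]),
  ([1,0], []), ([5,3,4,3,1,0,5,2,1,0], [1]), ([1,2,3,1,2,0], [1]),
  ([1,5,3,4,3,1,0,5,2], [1,0]), ([5,4,2,5,0,5,4,2,5,0], [0]), ([3,2,5,3,4,3,1,0,5], [1,0]),
  ([5,4,0,5,1,0,5,4,0,5], []), ([4,0,5,4,1,2,1,5,4], [0]), ([5,1,5,2,3,5,4,2,0], [5,4,2,5]),
  ([2,3,1,5,4,3,1,2,0,5], [1,0,5,4,2,5,1,0]), ([3,4,5,4,1,2,1,5,4,0], [1,0]), ([2,1,5,4,1,5,4,2,3,5], [5,4,2,5]),
  ([3,0,5,4,2,5,1,0], []), ([0,5,4,2,5,1], [1,0]), ([5,2,3,4,1,0,5,2,0], [5,4,2,5]),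
  ([4,1,5,4,1,2,1,5,4,0], [1,0]), ([2,3,5,4,2,3,1,5,1,5], [5,2,3,1,2,5]), ([1,5,1,5,2,3,5,4,2,1], [5,4,2,5]),
  ([5,2,3,4,2,0,5,4,1,5], [0]), ([1,5,2,3,4,1,0,5,2], [5,4,2,5]), ([0,5,4,2,5,3], [1,0]),
  ([1,0,5,4,2,5,1,0], []), ([4,5,3,2,1,5,4,0,5,4], [5,4,2,5]), ([1,2,5,3,4,3,1,0,5], [1,0]),
  ([5,2,0,5,3,0,5,2,0,5], []), ([3,5,3,4,3,1,0,5,2], [1,0]), ([4,2,5,3,1,0,5,4,2,0], [0]),
  ([4,2,1,5,3,1,0,5,4], [1]), ([2,3,1,2,1,0], [1]), ([2,5,3,4,3,1,0,5,3,0], [1]),
  ([3,0], []), ([4,5,4,1,2,1,5,4,3,0], [1,0]), ([2,5,4,3,1,2,0,5], [1,5,4,1,5,1]),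
  ([5,1,5,0,5,1,2,5,4,0], [5,4,2,5]), ([3,4,0,5,4,1,2,1,5,4,1], [0]), ([4,2,5,3,2,5,1,5,3], [1,0,5,4,2,5,1,0]),
  ([5,4,2,5], []), ([1,5,4,2,5,0], [1,0]), ([4,5,2,1,5,0,5,1,5,1], [1,0,5,4,2,5,1,0]),
  ([5,2,3,4,1,0,5,2,3], [1,5,4,2,5,1]), ([5,4,2,5,3], [1]), ([1,5,4,2,5,1,0], [0]),
  ([2,3,5,4,5,4,2,3,1,5], [1,5,4,2,5,1]), ([4,5,3,1,2,5,0,5,1,2], [1]), ([4,5,4,0,5,1,2,3,5,4], [5,4,2,5]),
  ([1,5,1,5,2,3,5,4,2], [2,5,3,1,5,2]), ([4,5,4,1,2,1,5,4,3,1], []), ([5,4,0,5,1,0,5,4,0,5,0], [0]),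
  ([1,5,3,4,3,1,0,5,2,0], [1]), ([5,4,2,5,0,5,4,2,5], []), ([3,2,5,3,4,3,1,0,5,0], [1]),
  ([2,3,1,2,1], [1]), ([2,5,3,4,3,1,0,5,3], [1,0]), ([3], []),
  ([5,3,4,3,1,0,5,2,3], [1,0]), ([4,2,5,3,2,5,1,5,0], [0,5,4,2,5,0]), ([0,5,4,2,5], [0]),
  ([1,0,5,4,2,5,0], [1]), ([4,5,0,5,2,1,5,0,5], [0,5,4,2,5,0]), ([4,0,5,4,1,2,1,5,4,3,0], [1]),
  ([2,5,4,3,1,2,0,5,3], [5,4,2,5]), ([5,1,5,2,1,0,5,4,2,0], [1,0,5,4,2,5,1,0]), ([3,4,5,4,1,2,1,5,4,1], []),
  ([5,2,0,5,3,1,5,2,0,5], []), ([5,3,4,3,1,0,5,2,0], []), ([3,4,5,3,1,0,5,4,3,2], []),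
  ([5,4,2,5,0,5,4,2,5,1], []), ([3,5,4,2,5,1], []), ([0,5,2,3,4,1,0,5,2], [0,5,4,2,5,0]),
  ([2,3,4,1,5,3,2,5,1,5], [0,5,4,2,5,0]), ([5,4,2,5,1,0], [1,0]), ([5,1,5,2,3,5,4,3,1,2], [0,5,4,2,5,0]),
  ([4,0,5,4,1,2,1,5,4,0], []), ([3,4,5,4,1,2,1,5,4], [1]), ([5,1,5,2,3,5,4,2], [1,5,4,2,5,1]),
  ([2,5,4,3,1,2,0,5,0], [0,5,4,2,5,0]), ([4,5,3,1,2,5,0,5,1,2,3], []), ([4,5,4,1,2,1,5,4,3], [1]),
  ([5,1,5,0,5,1,2,5,4], [1,5,4,2,5,1]), ([1,0,5,4,2,5], [1,0]), ([4,2,5,3,2,5,1,5], [1,5,4,2,5,1]),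
  ([4,5,2,1,5,0,5,1,5], [1,5,4,2,5,1]), ([0,5,4,2,5,0], []), ([1,2,3,1,2,1], []),
  ([3,2,5,3,4,3,1,0,5,1], [0]), ([3,5,3,4,3,1,0,5,2,1], [0]), ([3,1], []),
  ([2,5,3,4,3,1,0,5], [0]), ([5,4,0,5,1,0,5,4,0,5,1], [0]), ([4,2,5,3,1,0,5,4,2,1,0], [0]),
  ([5,3,4,3,1,0,5,2,3,1], [0]), ([2,5,3,4,5,4,2,5,4,2], [1,5,4,2,5,1]), ([4,5,4,1,2,1,5,4,0], [0]),
  ([3,4,0,5,4,1,2,1,5,4], [1,0]), ([5,1,5,2,3,5,4,2,1], [0,5,4,2,5,0]), ([3,0,5,4,2,5,1], [0]),
  ([5,2,3,4,1,0,5,2], [1,5,4,1,5,1]), ([5,2,3,4,1,0,5,3,1,2], [1,0,5,4,2,5,1,0]), ([0,5,4,2,5,1,0], [1]),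
  ([1,5,4,2,5], [1]), ([4,2,0,5,3,2,5,1,5], [5,4,2,5]), ([4,5,0,5,2,1,5,0,5,1], [5,4,2,5]),
  ([5,4,2,5,0], [0]), ([1,2,5,4,3,1,2,0,5], [1,5,4,2,5,1]), ([3,4,5,4,1,2,1,5,4,1,0], [0]),
  ([4,0,5,4,1,2,1,5,4,3], [1,0]), ([5,1,5,2,1,0,5,4,2], [0,5,4,2,5,0]), ([4,5,3,1,0,5,4,1,2,1], []),
  ([1,2,3,1,2,1,0], []), ([3,1,0], []), ([4,5,3,1,0,5,4,2,3,2], [])]

/-- a Sylow 3-subgroup: words in two generators, conjugating words to the inverse -/
def CT : List (List ℕ × List ℕ) := [
  ([], []), ([0,0,1,1], [1,5,4,2,5,1]), ([1,0], [1,5,4,2,5,1]),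
  ([0,1,0], [0,5,2,3,1]), ([0], [2]), ([1,1], [4,1,0]),
  ([1,0,1], [0,5,2,3,1]), ([0,1,0,0], [1,5,2,0,5,0]), ([0,1,0,1,1], [4,3,5,3,4]),
  ([0,0,1,1,0,1], [0,5,4,5,1,5]), ([0,1,1,0], [5,2,3,1,2,5]), ([0,1], [2,5,4,2,5,2]),
  ([1,1,0], [1,2,1,5,3,2,0]), ([1], [4,1,0]), ([0,1,1,0,1], [5,2,0,5]),
  ([0,0,1], [1,2,1,5,3,2,0]), ([1,1,0,1], [4,3,5,3,4]), ([0,0,1,1,0], [5,3,0,5,4,0]),
  ([1,0,0], [3,2,5,3,4,3,0]), ([1,0,1,1], [5,2,0,5]), ([0,0,1,0,1], [1,5,2,0,5,0]),
  ([0,1,1], [3,2,5,3,4,3,0]), ([0,0,1,0], [5,3,0,5,4,0]), ([0,0], [2]),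
  ([0,0,1,0,1,1], [0,5,4,5,1,5]), ([0,1,0,1], [2,5,4,2,5,2]), ([0,0,1,0,0], [5,2,3,1,2,5])]

/-- right multiplication by the generators -/
def RT : ℕ → List ℕ
  | 0 => [4,17,18,7,23,12,1,11,24,16,20,3,25,2,9,22,14,6,13,8,21,10,26,0,19,5,15]
  | _ => [13,23,6,25,11,0,19,17,3,7,14,21,16,5,18,1,26,9,10,2,24,4,20,15,22,8,12]

/-- the generators of the Sylow 3-subgroup -/
def GT : ℕ → List ℕ
  | 0 => [2,3]
  | _ => [1,0,5,4]

/-- strictly increasing signatures -/
def incrS (f : List ℕ → List ℕ) : ℕ → List (List ℕ × List ℕ) → Bool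
  | _, [] => true
  | a, x :: l => Nat.blt a (sig (f x.1) 24) && incrS f (sig (f x.1) 24) l

theorem incrS_lt {f : List ℕ → List ℕ} : ∀ {l : List (List ℕ × List ℕ)} {a : ℕ}, incrS f a l = true →
    ∀ m ∈ l, a < sig (f m.1) 24
  | [], _, _, m, hm => by simp at hm
  | m' :: l, a, h, m, hm => by
    rw [incrS, Bool.and_eq_true] at h
    have h1 : a < sig (f m'.1) 24 := by simpa [Nat.blt] using h.1
    rcases List.mem_cons.mp hm with rfl | hm
    · exact h1
    · exact h1.trans (incrS_lt h.2 m hm)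

theorem incrS_pairwise {f : List ℕ → List ℕ} : ∀ {l : List (List ℕ × List ℕ)} {a : ℕ}, incrS f a l = true →
    l.Pairwise (fun m m' => sig (f m.1) 24 < sig (f m'.1) 24)
  | [], _, _ => List.Pairwise.nil
  | m :: l, a, h => by
    rw [incrS, Bool.and_eq_true] at h
    exact List.Pairwise.cons (fun m' hm' => incrS_lt h.2 m' hm') (incrS_pairwise h.2)

theorem incrS_inj {f : List ℕ → List ℕ} {l : List (List ℕ × List ℕ)} {a : ℕ} (h : incrS f a l = true) :
    Function.Injective fun i : Fin l.length => wd (f (l[i.1]).1) := by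
  have hp := List.pairwise_iff_getElem.mp (incrS_pairwise h)
  intro i j hij
  have h5 := sig_eq hij 24 le_rfl
  by_contra hne
  rcases lt_or_gt_of_ne (fun h6 => hne (Fin.ext h6)) with h6 | h6
  · exact absurd h5 (hp i.1 j.1 i.2 j.2 h6).ne
  · exact absurd h5 (hp j.1 i.1 j.2 i.2 h6).ne'

/-- real elements -/
def Rl {G : Type*} [Group G] (g : G) : Prop := ∃ c, c⁻¹ * g * c = g⁻¹

theorem Rl.conj {G : Type*} [Group G] {g : G} (m : G) (h : Rl g) : Rl (m⁻¹ * g * m) := by
  obtain ⟨c, hc⟩ := h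
  refine ⟨m⁻¹ * c * m, ?_⟩
  calc (m⁻¹ * c * m)⁻¹ * (m⁻¹ * g * m) * (m⁻¹ * c * m) = m⁻¹ * (c⁻¹ * g * c) * m := by group
    _ = (m⁻¹ * g * m)⁻¹ := by rw [hc]; group

theorem Rl.of_conj {G : Type*} [Group G] {g : G} (m : G) (h : Rl (m * g * m⁻¹)) : Rl g := by
  have h1 := h.conj m
  have h2 : m⁻¹ * (m * g * m⁻¹) * m = g := by group
  rwa [h2] at h1

theorem rl_of_word {w c : List ℕ} (h : eqW (cj w c) w.reverse = true) : Rl (wd w) :=
  ⟨wd c, by rw [← wd_cj, wd_eq h, wd_reverse]⟩

theorem CV_len : CV.length = 192 := by decide +kernel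
private noncomputable def actF (w : List ℕ) (x : ℕ) : ℕ :=
  List.rec (motive := fun _ => ℕ) x (fun i _ ih => Nat.mod (Nat.shiftRight (ptab i) (Nat.mul 5 ih)) 32) w

private theorem actF_eq (w : List ℕ) (x : ℕ) : actF w x = act w x := by
  induction w with
  | nil => rfl
  | cons i w ih => exact congrArg (fun y => (ptab i >>> (5 * y)) % 32) ih

private theorem act_ap (u w : List ℕ) (x : ℕ) : act (u ++ w) x = act u (act w x) := by
  induction u with
  | nil => rfl
  | cons i u ih => exact congrArg (fun y => (ptab i >>> (5 * y)) % 32) ih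

private noncomputable def fc {α : Type} (x : ℕ) (k : ℕ → α) : α :=
  Nat.rec (motive := fun _ => α) (k 0) (fun n _ => k (Nat.succ n)) x

private theorem fc_eq {α : Type} (x : ℕ) (k : ℕ → α) : fc x k = k x := by cases x <;> rfl

private noncomputable def allF (f : ℕ → Bool) (n : ℕ) : Bool :=
  Nat.rec (motive := fun _ => Bool) true (fun k ih => Bool.rec false ih (f k)) n

private theorem allF_eq (f : ℕ → Bool) : ∀ n, allF f n = allB f n
  | 0 => rfl
  | n + 1 => by
    show Bool.rec false (allF f n) (f n) = (f n && allB f n)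
    rw [allF_eq f n]
    cases f n <;> rfl

private noncomputable def sigF (w : List ℕ) (n : ℕ) : ℕ :=
  Nat.rec (motive := fun _ => ℕ) 0 (fun k ih => Nat.add (Nat.mul ih 32) (actF w k)) n

private theorem sigF_eq (w : List ℕ) : ∀ n, sigF w n = sig w n
  | 0 => rfl
  | n + 1 => by
    show sigF w n * 32 + actF w n = sig w n * 32 + act w n
    rw [sigF_eq w n, actF_eq]

/-- `c` conjugates `w` to its inverse -/
private noncomputable def realF (w c : List ℕ) : Bool :=
  allF (fun y => Nat.beq (fc (fc (fc (actF c y) (actF w)) (actF c.reverse)) (actF w)) y) 24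

private theorem real_of {w c : List ℕ} (h : realF w c = true) : eqW (cj w c) w.reverse = true := by
  have h1 : eqW (w ++ (c.reverse ++ (w ++ c))) [] = true := by
    rw [realF, allF_eq] at h
    simp only [fc_eq, actF_eq, ← act_ap] at h
    exact h
  have h2 := wd_eq h1
  rw [wd_append, wd_append, wd_append, ← wd_reverse, wd_nil] at h2
  refine eqW_of_wd ?_
  rw [wd_cj, ← wd_reverse w, mul_assoc]
  exact eq_inv_of_mul_eq_one_right h2

private noncomputable def commF (w : List ℕ) : Bool :=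
  allF (fun y => Nat.beq (fc (actF w y) (actF [1, 3])) (fc (actF [1, 3] y) (actF w))) 24

private theorem comm_of {w : List ℕ} (h : commF w = true) : eqW ([1, 3] ++ w) (w ++ [1, 3]) = true := by
  rw [commF, allF_eq] at h
  simp only [fc_eq, actF_eq, ← act_ap] at h
  exact h

private noncomputable def cvF (l : List (List ℕ × List ℕ)) : ℕ → Bool :=
  List.rec (motive := fun _ => ℕ → Bool) (fun _ => true)
    (fun x _ ih a => commF x.1 && realF x.1 x.2 && fc (sigF x.1 24) fun s => Nat.blt a s && ih s) l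

private theorem cv_of : ∀ {l : List (List ℕ × List ℕ)} {a : ℕ}, cvF l a = true →
    (l.all fun x => eqW ([1, 3] ++ x.1) (x.1 ++ [1, 3])) = true ∧ (l.all fun x => eqW (cj x.1 x.2) x.1.reverse) = true ∧
      incrS (fun w => w) a l = true
  | [], _, _ => ⟨rfl, rfl, rfl⟩
  | x :: l, a, h => by
    have h1 : (commF x.1 && realF x.1 x.2 && fc (sigF x.1 24) fun s => Nat.blt a s && cvF l s) = true := h
    rw [fc_eq, sigF_eq, Bool.and_eq_true, Bool.and_eq_true, Bool.and_eq_true] at h1
    obtain ⟨h2, h3, h4⟩ := cv_of h1.2.2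
    rw [List.all_cons, List.all_cons, incrS, comm_of h1.1.1, real_of h1.1.2, h2, h3, h1.2.1, h4]
    exact ⟨rfl, rfl, rfl⟩

private theorem CV_F : cvF CV 0 = true := by decide +kernel

theorem CV_comm : (CV.all fun x => eqW ([1, 3] ++ x.1) (x.1 ++ [1, 3])) = true := (cv_of CV_F).1
theorem CV_real : (CV.all fun x => eqW (cj x.1 x.2) x.1.reverse) = true := (cv_of CV_F).2.1
theorem CV_incr : incrS (fun w => w) 0 CV = true := (cv_of CV_F).2.2

theorem real_cent_v {g : H} (hg : g ∈ (Subgroup.centralizer {p * r} : Subgroup H)) : Rl g := by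
  let f : Fin CV.length → (Subgroup.centralizer {p * r} : Subgroup H) := fun i => ⟨wd (CV[i.1]).1, by
    rw [Subgroup.mem_centralizer_iff]
    rintro _ rfl
    have h1 := List.all_eq_true.1 CV_comm _ (List.getElem_mem i.2)
    have h2 := wd_eq h1
    rwa [wd_append, wd_append, wd_pr] at h2⟩
  have hf : Function.Injective f := by
    intro i j hij
    exact incrS_inj CV_incr (congrArg Subtype.val hij)
  have hb := Function.Injective.bijective_of_nat_card_le hf (by
    rw [card_cent_v, Nat.card_eq_fintype_card, Fintype.card_fin, CV_len])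
  obtain ⟨i, hi⟩ := hb.2 ⟨g, hg⟩
  have h1 : wd (CV[i.1]).1 = g := congrArg Subtype.val hi
  rw [← h1]
  exact rl_of_word (List.all_eq_true.1 CV_real _ (List.getElem_mem i.2))

theorem real_cent_y {g : H} (hg : g * y = y * g) : Rl g := by
  obtain ⟨σ, hσ⟩ := cent_y g hg
  obtain ⟨τ, hτ⟩ : ∃ τ : Equiv.Perm (Fin 5), τ * σ * τ⁻¹ = σ⁻¹ := by
    have h1 : IsConj σ σ⁻¹ := by
      rw [Equiv.Perm.isConj_iff_cycleType_eq, Equiv.Perm.cycleType_inv]
    exact isConj_iff.1 h1
  have h2 : w τ * w σ * (w τ)⁻¹ = (w σ)⁻¹ := by rw [← map_mul, ← map_inv, ← map_mul, hτ, map_inv]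
  have hyy : y⁻¹ = y := inv_eq_of_mul_eq_one_left y_sq
  rcases hσ with rfl | rfl
  · exact ⟨(w τ)⁻¹, by rw [inv_inv]; exact h2⟩
  · refine ⟨(w τ)⁻¹, ?_⟩
    rw [inv_inv, mul_inv_rev, hyy]
    calc w τ * (y * w σ) * (w τ)⁻¹ = (w τ * y) * w σ * (w τ)⁻¹ := by group
      _ = y * (w τ * w σ * (w τ)⁻¹) := by rw [← y_comm]; group
      _ = (w σ)⁻¹ * y := by rw [h2, ← map_inv, y_comm]

/-! ### 3-elements -/

/-- word of a word in the generators of the Sylow 3-subgroup -/
def ex3 (w : List ℕ) : List ℕ := w.flatMap GT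

theorem CT_len : CT.length = 27 := by decide +kernel
theorem CT_letters : (CT.all fun x => x.1.all fun i => Nat.blt i 2) = true := by decide +kernel
theorem CT_real : (CT.all fun x => eqW (cj (ex3 x.1) x.2) (ex3 x.1).reverse) = true :=
  List.all_eq_true.2 fun x hx => real_of (List.all_eq_true.1
    (show (CT.all fun x => realF (ex3 x.1) x.2) = true by decide +kernel) x hx)
theorem CT_incr : incrS ex3 0 CT = true := by decide +kernel
theorem CT_mul : ∀ n : Fin 27, ∀ i : Fin 2,
    eqW (ex3 (CT.getD n.1 ([], [])).1 ++ GT i.1) (ex3 (CT.getD ((RT i.1).getD n.1 0) ([], [])).1) = true ∧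
      (RT i.1).getD n.1 0 < 27 := by decide +kernel
theorem CT_one : ∃ n : Fin 27, eqW (ex3 (CT.getD n.1 ([], [])).1) [] = true := by decide +kernel

/-- a Sylow 3-subgroup -/
def K3 : Subgroup H := Subgroup.closure {wd (GT 0), wd (GT 1)}

theorem cube_GT : ∀ i : Fin 2, eqW (GT i.1 ++ (GT i.1 ++ GT i.1)) [] = true := by decide +kernel

theorem mem_K3 {g : H} (hg : g ∈ K3) : ∃ n : Fin 27, wd (ex3 (CT.getD n.1 ([], [])).1) = g := by
  have step : ∀ (i : Fin 2) (x : H), (∃ n : Fin 27, wd (ex3 (CT.getD n.1 ([], [])).1) = x) →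
      ∃ n : Fin 27, wd (ex3 (CT.getD n.1 ([], [])).1) = x * wd (GT i.1) := by
    rintro i x ⟨n, rfl⟩
    obtain ⟨h1, h2⟩ := CT_mul n i
    refine ⟨⟨_, h2⟩, ?_⟩
    have h3 := wd_eq h1
    rw [wd_append] at h3
    exact h3.symm
  have hinv : ∀ i : Fin 2, (wd (GT i.1))⁻¹ = wd (GT i.1) * wd (GT i.1) := by
    intro i
    have h1 := wd_eq (cube_GT i)
    rw [wd_append, wd_append, wd_nil] at h1
    exact inv_eq_of_mul_eq_one_right h1
  induction hg using Subgroup.closure_induction_right with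
  | one =>
    obtain ⟨n, hn⟩ := CT_one
    exact ⟨n, wd_eq hn⟩
  | mul_right x hx s hs ih =>
    rcases hs with rfl | hs
    · exact step 0 x ih
    · rw [Set.mem_singleton_iff.1 hs]
      exact step 1 x ih
  | mul_inv_cancel x hx s hs ih =>
    rcases hs with rfl | hs
    · have h1 := step 0 _ (step 0 x ih)
      rw [mul_assoc] at h1
      show ∃ n : Fin 27, _ = x * (wd (GT (0 : Fin 2).1))⁻¹
      rw [hinv 0]
      exact h1
    · rw [Set.mem_singleton_iff.1 hs]
      have h1 := step 1 _ (step 1 x ih)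
      rw [mul_assoc] at h1
      show ∃ n : Fin 27, _ = x * (wd (GT (1 : Fin 2).1))⁻¹
      rw [hinv 1]
      exact h1

theorem ex3_mem (w : List ℕ) : (∀ i ∈ w, i < 2) → wd (ex3 w) ∈ K3 := by
  induction w with
  | nil => intro _; exact one_mem _
  | cons i w ih =>
    intro hw
    rw [ex3, List.flatMap_cons, wd_append]
    refine mul_mem ?_ (ih fun j hj => hw j (List.mem_cons_of_mem _ hj))
    have hi : i < 2 := hw i List.mem_cons_self
    interval_cases i
    · exact Subgroup.subset_closure (by simp)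
    · exact Subgroup.subset_closure (by simp)

theorem card_K3 : Nat.card K3 = 27 := by
  apply le_antisymm
  · have h1 : Function.Surjective fun n : Fin 27 => (⟨wd (ex3 (CT.getD n.1 ([], [])).1), by
        have hn : n.1 < CT.length := by rw [CT_len]; exact n.2
        rw [List.getD_eq_getElem _ _ hn]
        apply ex3_mem
        intro i hi
        have h2 := List.all_eq_true.1 (List.all_eq_true.1 CT_letters _ (List.getElem_mem hn)) i hi
        simpa [Nat.blt] using h2⟩ : K3) := by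
      rintro ⟨g, hg⟩
      obtain ⟨n, hn⟩ := mem_K3 hg
      exact ⟨n, Subtype.ext hn⟩
    have h2 := Nat.card_le_card_of_surjective _ h1
    rwa [Nat.card_eq_fintype_card (α := Fin 27), Fintype.card_fin] at h2
  · let f : Fin CT.length → K3 := fun i => ⟨wd (ex3 (CT[i.1]).1), by
      apply ex3_mem
      intro j hj
      have h2 := List.all_eq_true.1 (List.all_eq_true.1 CT_letters _ (List.getElem_mem i.2)) j hj
      simpa [Nat.blt] using h2⟩
    have hf : Function.Injective f := by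
      intro i j hij
      exact incrS_inj CT_incr (congrArg Subtype.val hij)
    have h2 := Nat.card_le_card_of_injective f hf
    rwa [Nat.card_eq_fintype_card, Fintype.card_fin, CT_len] at h2

theorem real_K3 {g : H} (hg : g ∈ K3) : Rl g := by
  obtain ⟨n, rfl⟩ := mem_K3 hg
  have hn : n.1 < CT.length := by rw [CT_len]; exact n.2
  rw [List.getD_eq_getElem _ _ hn]
  exact rl_of_word (List.all_eq_true.1 CT_real _ (List.getElem_mem hn))

/-- conjugation into a subgroup of full `p`-part -/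
theorem conj_into {p n : ℕ} [hp : Fact p.Prime] {K : Subgroup H} (hK : Nat.card K = p ^ n)
    (hn : ¬ p ^ (n + 1) ∣ 95040) {g : H} {j : ℕ} (hg : orderOf g = p ^ j) : ∃ m : H, m * g * m⁻¹ ∈ K := by
  have h1 : IsPGroup p K := IsPGroup.of_card hK
  obtain ⟨Q, hQ⟩ := h1.exists_le_sylow
  have hQK : K = Q := by
    apply Subgroup.eq_of_le_of_card_ge hQ
    obtain ⟨m, hm⟩ := IsPGroup.iff_card.1 Q.2
    rw [hm, hK]
    refine Nat.pow_le_pow_right hp.out.pos ?_
    by_contra hlt
    apply hn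
    rw [← card_H]
    exact (pow_dvd_pow p (by omega)).trans (hm ▸ Subgroup.card_subgroup_dvd_card (Q : Subgroup H))
  have hz : IsPGroup p (Subgroup.zpowers g) := IsPGroup.of_card (n := j) (by rw [Nat.card_zpowers, hg])
  obtain ⟨R, hR⟩ := hz.exists_le_sylow
  obtain ⟨c, hc⟩ := MulAction.exists_smul_eq H R Q
  refine ⟨c, ?_⟩
  rw [hQK, ← hc, Sylow.coe_subgroup_smul]
  exact Subgroup.smul_mem_pointwise_smul g (MulAut.conj c) (R : Subgroup H) (hR (Subgroup.mem_zpowers g))

/-- the real elements of the group of degree 12 -/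
theorem real_H (g : H) (h11 : orderOf g ≠ 11) : Rl g := by
  obtain ⟨Δ, _, S⟩ := H354.TwoM12.exists_sh (T := H) ⟨MulEquiv.refl _⟩
  have hpos : 0 < orderOf g := orderOf_pos g
  have hdvd : orderOf g ∣ 95040 := by rw [← card_H]; exact orderOf_dvd_natCard g
  by_cases h2 : 2 ∣ orderOf g
  · -- even order
    obtain ⟨m, hm⟩ := h2
    have hm0 : 0 < m := by omega
    have hz1 : g ^ m ≠ 1 := by
      intro h
      have := orderOf_dvd_of_pow_eq_one h
      have := Nat.le_of_dvd hm0 this
      omega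
    have hz2 : g ^ m * g ^ m = 1 := by rw [← pow_add, ← two_mul, ← hm, pow_orderOf_eq_one]
    have hcomm : g * g ^ m = g ^ m * g := (Commute.refl g).pow_right m
    have key : ∀ (u c : H), c⁻¹ * u * c = g ^ m → (c * g * c⁻¹) * u = u * (c * g * c⁻¹) := by
      intro u c hc
      have hu : u = c * g ^ m * c⁻¹ := by rw [← hc]; group
      rw [hu]
      calc c * g * c⁻¹ * (c * g ^ m * c⁻¹) = c * (g * g ^ m) * c⁻¹ := by group
        _ = c * (g ^ m * g) * c⁻¹ := by rw [hcomm]
        _ = _ := by group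
    rcases inv_class (g ^ m) hz1 hz2 with ⟨c, hc⟩ | ⟨c, hc⟩
    · exact Rl.of_conj c (real_cent_y (key _ _ hc))
    · refine Rl.of_conj c (real_cent_v ?_)
      rw [Subgroup.mem_centralizer_iff]
      rintro _ rfl
      exact (key _ _ hc).symm
  · -- odd order
    have hodd : Nat.Coprime (orderOf g) 64 := by
      have h3 : Nat.Coprime (orderOf g) 2 := ((Nat.Prime.coprime_iff_not_dvd Nat.prime_two).2 h2).symm
      exact Nat.Coprime.pow_right 6 h3
    have h1485 : orderOf g ∣ 1485 := by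
      have : orderOf g ∣ 64 * 1485 := by norm_num; exact hdvd
      exact hodd.dvd_of_dvd_mul_left this
    have hmem : ∀ q m : ℕ, orderOf g = q * m → orderOf (g ^ m) = q := by
      intro q m h
      have hm0 : m ≠ 0 := by rintro rfl; omega
      rw [orderOf_pow_of_dvd hm0 ⟨q, by rw [h, mul_comm]⟩, h, Nat.mul_div_cancel _ (Nat.pos_of_ne_zero hm0)]
    have hcent : ∀ m : ℕ, orderOf g ∣ Nat.card (Subgroup.centralizer ({g ^ m} : Set H)) := by
      intro m
      have h3 : g ∈ Subgroup.centralizer ({g ^ m} : Set H) := by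
        rw [Subgroup.mem_centralizer_iff]
        rintro _ rfl
        exact ((Commute.refl g).pow_left m)
      have h4 := orderOf_dvd_natCard (⟨g, h3⟩ : Subgroup.centralizer ({g ^ m} : Set H))
      rwa [Subgroup.orderOf_mk] at h4
    by_cases h11' : 11 ∣ orderOf g
    · exfalso
      obtain ⟨m, hm⟩ := h11'
      have h3 := hcent m
      rw [S.cent_eleven (hmem 11 m hm)] at h3
      exact h11 (Nat.dvd_antisymm h3 ⟨m, hm⟩)
    by_cases h5 : 5 ∣ orderOf g
    · obtain ⟨m, hm⟩ := h5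
      have h3 := (hcent m).trans (S.cent_five (hmem 5 m hm))
      have h4 : orderOf g ∣ 5 := by
        have h5 : Nat.Coprime (orderOf g) 4 := by
          have h3 : Nat.Coprime (orderOf g) 2 := ((Nat.Prime.coprime_iff_not_dvd Nat.prime_two).2 h2).symm
          exact Nat.Coprime.pow_right 2 h3
        exact h5.dvd_of_dvd_mul_left (n := 5) h3
      have h6 : orderOf g = 5 := Nat.dvd_antisymm h4 ⟨m, hm⟩
      have hd5 : orderOf (ev vH [6]) = 5 := by
        have : Fact (Nat.Prime 5) := ⟨Nat.prime_five⟩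
        apply orderOf_eq_prime
        · rw [ev_pow, ← ev_nil vH]
          exact sat_H.base (by decide +kernel)
        · intro h
          rw [ev_vH] at h
          exact wd_ne (l' := []) 1 (by norm_num) (by decide +kernel) h
      have : Fact (Nat.Prime 5) := ⟨Nat.prime_five⟩
      obtain ⟨c, hc⟩ := conj_into (p := 5) (n := 1) (K := Subgroup.zpowers (ev vH [6])) (by
        rw [Nat.card_zpowers, hd5, pow_one]) (by norm_num) (g := g) (j := 1) (by rw [h6, pow_one])
      obtain ⟨k, hk⟩ := Subgroup.mem_zpowers_iff.1 hc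
      apply Rl.of_conj c
      rw [← hk]
      refine ⟨ev vH [7], ?_⟩
      have e1 : (ev vH [7])⁻¹ * ev vH [6] * ev vH [7] = (ev vH [6])⁻¹ := by
        have e2 : ev vH [7, 6] = ev vH [6, 6, 6, 6, 7] := sat_H.base (by decide +kernel)
        have e3 : ev vH [6, 6, 6, 6, 6] = ev vH [] := sat_H.base (by decide +kernel)
        have e4 : ev vH [7, 7] = ev vH [] := sat_H.base (by decide +kernel)
        have e5 : ev vH [6] * ev vH [6, 6, 6, 6] = 1 := by rw [← ev_append]; exact e3
        have e6 : (ev vH [7])⁻¹ = ev vH [7] := by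
          apply inv_eq_of_mul_eq_one_left
          rw [← ev_append]; exact e4
        have e7 : ev vH [6, 6, 6, 6] = (ev vH [6])⁻¹ := eq_inv_of_mul_eq_one_right e5
        rw [e6]
        calc ev vH [7] * ev vH [6] * ev vH [7] = ev vH [7, 6] * ev vH [7] := by rw [← ev_append]; rfl
          _ = ev vH [6, 6, 6, 6] * ev vH [7, 7] := by rw [e2, ← ev_append, ← ev_append]; rfl
          _ = _ := by rw [e4, e7, ev_nil, mul_one]
      calc (ev vH [7])⁻¹ * ev vH [6] ^ k * ev vH [7] = ((ev vH [7])⁻¹ * ev vH [6] * ev vH [7]) ^ k := by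
            have := conj_zpow (a := (ev vH [7])⁻¹) (b := ev vH [6]) (i := k)
            rw [inv_inv] at this
            exact this.symm
        _ = (ev vH [6] ^ k)⁻¹ := by rw [e1, inv_zpow]
    · have h27 : orderOf g ∣ 3 ^ 3 := by
        have c55 : Nat.Coprime (orderOf g) 55 := by
          have a1 : Nat.Coprime (orderOf g) 5 := ((Nat.Prime.coprime_iff_not_dvd Nat.prime_five).2 h5).symm
          have a2 : Nat.Coprime (orderOf g) 11 := ((Nat.Prime.coprime_iff_not_dvd (by norm_num)).2 h11').symm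
          exact a1.mul_right a2
        have : orderOf g ∣ 55 * 3 ^ 3 := by norm_num; exact h1485
        exact c55.dvd_of_dvd_mul_left this
      obtain ⟨j, -, hj⟩ := (Nat.dvd_prime_pow Nat.prime_three).1 h27
      have : Fact (Nat.Prime 3) := ⟨Nat.prime_three⟩
      obtain ⟨c, hc⟩ := conj_into (p := 3) (n := 3) card_K3 (by norm_num) hj
      exact Rl.of_conj c (real_K3 hc)

/-- class functions on the powers of an element of order 11 -/
theorem fun_pow {G α : Type*} [Group G] {x d : G} (hx11 : x ^ 11 = 1) (hdx : d * x * d⁻¹ = x ^ 4) (χ : G → α)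
    (hχ : ∀ g m : G, χ (m * g * m⁻¹) = χ g) (hx : χ x⁻¹ = χ x) (k : ℕ) (hk : k % 11 ≠ 0) : χ (x ^ k) = χ x := by
  have h4 : ∀ k : ℕ, χ (x ^ (4 * k)) = χ (x ^ k) := by
    intro k
    rw [pow_mul, ← hdx, conj_pow, hχ]
  have hm : ∀ k : ℕ, x ^ k = x ^ (k % 11) := by
    intro k
    conv_lhs => rw [← Nat.div_add_mod k 11, pow_add, pow_mul, hx11, one_pow, one_mul]
  have e1 : χ (x ^ 1) = χ x := by rw [pow_one]
  have e10 : χ (x ^ 10) = χ x := by
    have h1 : x ^ 10 = x⁻¹ := eq_inv_of_mul_eq_one_left (by rw [← pow_succ]; exact hx11)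
    rw [h1, hx]
  have st : ∀ a b : ℕ, (4 * a) % 11 = b → χ (x ^ a) = χ x → χ (x ^ b) = χ x := by
    intro a b hab h1
    rw [← hab, ← hm, h4, h1]
  have e4 := st 1 4 (by norm_num) e1
  have e5 := st 4 5 (by norm_num) e4
  have e9 := st 5 9 (by norm_num) e5
  have e3 := st 9 3 (by norm_num) e9
  have e7 := st 10 7 (by norm_num) e10
  have e6 := st 7 6 (by norm_num) e7
  have e2 := st 6 2 (by norm_num) e6
  have e8 := st 2 8 (by norm_num) e2
  rw [hm]
  have hlt : k % 11 < 11 := Nat.mod_lt _ (by norm_num)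
  generalize k % 11 = n at *
  interval_cases n
  · exact absurd rfl hk
  · exact e1
  · exact e2
  · exact e3
  · exact e4
  · exact e5
  · exact e6
  · exact e7
  · exact e8
  · exact e9
  · exact e10

/-- class functions real on an element of order 11 are real -/
theorem real_fun {α : Type*} (χ : H → α) (hχ : ∀ g m : H, χ (m * g * m⁻¹) = χ g)
    (hx : χ (ev vH [5])⁻¹ = χ (ev vH [5])) (g : H) : χ g⁻¹ = χ g := by
  by_cases h11 : orderOf g = 11
  · have ho : orderOf (ev vH [5]) = 11 := by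
      have : Fact (Nat.Prime 11) := ⟨by norm_num⟩
      apply orderOf_eq_prime
      · rw [ev_pow, ← ev_nil vH]
        exact sat_H.base (by decide +kernel)
      · intro h
        rw [ev_vH] at h
        exact wd_ne (l' := []) 1 (by norm_num) (by decide +kernel) h
    have : Fact (Nat.Prime 11) := ⟨by norm_num⟩
    obtain ⟨c, hc⟩ := conj_into (p := 11) (n := 1) (K := Subgroup.zpowers (ev vH [5])) (by
      rw [Nat.card_zpowers, ho, pow_one]) (by norm_num) (g := g) (j := 1) (by rw [h11, pow_one])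
    have hx11 : (ev vH [5]) ^ 11 = 1 := by rw [← ho]; exact pow_orderOf_eq_one _
    have hdx : ev vH [6] * ev vH [5] * (ev vH [6])⁻¹ = ev vH [5] ^ 4 := by
      have e2 : ev vH [6, 5] = ev vH [5, 5, 5, 5, 6] := sat_H.base (by decide +kernel)
      rw [mul_inv_eq_iff_eq_mul, ← ev_append, ev_pow, ← ev_append]
      exact e2
    have key : ∀ z : H, z ≠ 1 → z ∈ Subgroup.zpowers (ev vH [5]) → χ z = χ (ev vH [5]) := by
      intro z hz hzm
      obtain ⟨k, hk⟩ := (mem_powers_iff_mem_zpowers.2 hzm)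
      have hk' : ev vH [5] ^ k = z := hk
      rw [← hk']
      refine fun_pow hx11 hdx χ hχ hx k ?_
      intro h0
      apply hz
      rw [← hk']
      obtain ⟨m, rfl⟩ := Nat.dvd_of_mod_eq_zero h0
      rw [pow_mul, hx11, one_pow]
    have hg1 : g ≠ 1 := by
      rintro rfl
      rw [orderOf_one] at h11
      norm_num at h11
    have k1 := key (c * g * c⁻¹) (fun h => hg1 (by
      have : g = c⁻¹ * (c * g * c⁻¹) * c := by group
      rw [this, h]; group)) hc
    have k2 := key (c * g⁻¹ * c⁻¹) (fun h => hg1 (by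
      have : g = c⁻¹ * (c * g⁻¹ * c⁻¹)⁻¹ * c := by group
      rw [this, h]; group)) (by
      have e : c * g⁻¹ * c⁻¹ = (c * g * c⁻¹)⁻¹ := by group
      rw [e]
      exact inv_mem hc)
    rw [hχ] at k1 k2
    rw [k1, k2]
  · obtain ⟨c, hc⟩ := real_H g h11
    rw [← hc]
    have := hχ g c⁻¹
    rwa [inv_inv] at this

end Cfsg.Agent.H6.M11
end

private theorem dce_10abb391377e : _root_.True := by
  try have : _root_.True := by simp only [_root_.Cfsg.Agent.H6.M11.ex3.eq_1]
  try have : _root_.True := by simp only [_root_.Cfsg.Agent.H6.M11.incrS.eq_1]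
  try have : _root_.True := by simp only [_root_.Cfsg.Agent.H6.M11.incrS.eq_def]
  try have : _root_.True := by simp only [_root_.Cfsg.Agent.H6.M11.incrS.eq_2]
  exact _root_.True.intro
end

-- part: H6/M11/Stage12
section
prune_inst 0x21404040244000000800000632003c62b600019200484001c04000420581cc4000002820b630101280a09c046038004811000110026000000e000800011800a0800142028358a004040001800080000000000000000000000000000000000000000000000
set_option linter.all false
open scoped Cfsg.Agent.FastGrp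

/-!
# Cores isomorphic to the Mathieu group of degree 12, dimension at most 12, characteristic not 3 (helper6)
-/

set_option autoImplicit false
set_option linter.unusedSectionVars false
set_option linter.unusedVariables false
set_option maxRecDepth 100000

namespace Cfsg.Agent.H6.M11

open Matrix Module Cfsg Cfsg.Geo Cfsg.Agent.H915.LD

universe u

variable {ι : Type} [Fintype ι] [DecidableEq ι] {F : Type u} [Field F] [Finite F] {P : Subgroup (GL ι F)}

/-- the letters in a group isomorphic to the group of degree 12 -/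
theorem letters_12 (e : P ≃* Spor.M12) : Sat (fun i => e.symm (vH i)) ∧ e.symm (vH 0) ≠ 1 := by
  refine ⟨sat_H.map e.symm.toMonoidHom, ?_⟩
  intro h
  have h1 : vH 0 = 1 := by
    have := congrArg e h
    rwa [MulEquiv.apply_symm_apply, map_one] at this
  apply v11_zero_ne
  apply Subtype.ext
  show ((vH 0 : Spor.M12) : Equiv.Perm GolayPt) = 1
  rw [h1]
  rfl

/-- the group of degree 12: real traces -/
theorem sd_of_equiv (p : ℕ) [hp : Fact p.Prime] [CharP F p] (hp3 : p ≠ 3) (e : P ≃* Spor.M12)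
    (hn : Fintype.card ι ≤ 12) : SD P := by
  obtain ⟨hv, hv0⟩ := letters_12 e
  have h1 := real_eleven p hp3 hv hv0 hn
  have hev : ∀ w, ev (fun i => e.symm (vH i)) w = e.symm (ev vH w) := fun w => (map_ev vH e.symm.toMonoidHom w).symm
  rw [hev, ← map_inv] at h1
  let χ : Spor.M12 → F := fun g => tr ((e.symm g : P) : GL ι F)
  have hχ : ∀ g m : Spor.M12, χ (m * g * m⁻¹) = χ g := by
    intro g m
    have h2 : IsConj (e.symm g) (e.symm (m * g * m⁻¹)) := by
      rw [isConj_iff]
      exact ⟨e.symm m, by rw [map_mul, map_mul, map_inv]⟩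
    exact (tr_isConj h2).symm
  intro g hg
  have h3 := real_fun χ hχ h1 (e ⟨g, hg⟩)
  have h4 : χ (e ⟨g, hg⟩)⁻¹ = tr g⁻¹ := by
    show tr ((e.symm (e ⟨g, hg⟩)⁻¹ : P) : GL ι F) = _
    rw [map_inv, MulEquiv.symm_apply_apply]
    rfl
  have h5 : χ (e ⟨g, hg⟩) = tr g := by
    show tr ((e.symm (e ⟨g, hg⟩) : P) : GL ι F) = _
    rw [MulEquiv.symm_apply_apply]
  rw [← h4, ← h5]
  exact h3

/-- the two cases for the core -/
theorem m12_cases (hC : Core P) (h : Spor.IsoM12 (Soc P)) :
    Nonempty (P ≃* Spor.M12) ∨ (Nat.card ((scalars ι F).subgroupOf P) = 2 ∧ Even (Fintype.card ι) ∧ (2 : F) ≠ 0 ∧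
      ∃ z : P, ((z : GL ι F) : Matrix ι ι F) = -1) := by
  obtain ⟨e⟩ := h
  have h1 := hC.card_scalars_dvd e S2035.result
  rw [Nat.card_eq_fintype_card (α := Multiplicative (ZMod 2)), Fintype.card_multiplicative, ZMod.card] at h1
  rcases (Nat.dvd_prime Nat.prime_two).1 h1 with h2 | h2
  · left
    have h3 : (scalars ι F).subgroupOf P = ⊥ := Subgroup.card_eq_one.1 h2
    have h4 : Function.Injective (e.toMonoidHom.comp (toSoc P)) := by
      rw [← MonoidHom.ker_eq_bot_iff]
      exact (ker_comp e).trans h3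
    exact ⟨MulEquiv.ofBijective _ ⟨h4, e.surjective.comp (toSoc_surjective P)⟩⟩
  · right
    have hnt : Nontrivial ((scalars ι F).subgroupOf P) := by
      rw [← Finite.one_lt_card_iff_nontrivial, h2]
      norm_num
    obtain ⟨⟨z, hz⟩, hz1⟩ := exists_ne (1 : (scalars ι F).subgroupOf P)
    have hz1' : z ≠ 1 := fun h => hz1 (Subtype.ext h)
    have hz2 : z ^ 2 = 1 := by
      have h3 : (⟨z, hz⟩ : (scalars ι F).subgroupOf P) ^ 2 = 1 := by rw [← h2]; exact pow_card_eq_one'
      exact congrArg Subtype.val h3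
    obtain ⟨c', hc⟩ := (mem_scalars_iff _).1 (Subgroup.mem_subgroupOf.1 hz)
    generalize (c' : F) = c at hc
    have hne := hC.nonempty
    have hone : (1 : Matrix ι ι F) ≠ 0 := one_ne_zero
    have hc2 : c ^ 2 = 1 := by
      have h3 : (((z ^ 2 : P) : GL ι F) : Matrix ι ι F) = 1 := by rw [hz2]; rfl
      rw [Subgroup.coe_pow, Units.val_pow_eq_pow_val, hc, smul_pow, one_pow] at h3
      obtain ⟨i⟩ := hne
      have h4 := congrFun (congrFun h3 i) i
      simpa using h4
    have hc1 : c ≠ 1 := by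
      rintro rfl
      apply hz1'
      apply Subtype.ext
      apply Units.ext
      rw [hc, one_smul]
      rfl
    have hcm : c = -1 := by
      have h3 : (c - 1) * (c + 1) = 0 := by linear_combination hc2
      rcases mul_eq_zero.1 h3 with h4 | h4
      · exact absurd (sub_eq_zero.1 h4) hc1
      · linear_combination h4
    subst hcm
    have h2F : (2 : F) ≠ 0 := by
      intro h3
      apply hc1
      linear_combination -h3
    refine ⟨h2, ?_, h2F, z, by rw [hc, neg_one_smul]⟩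
    have h3 := hC.scalar_pow z.2 hc
    by_contra hodd
    rw [Nat.not_even_iff_odd] at hodd
    rw [hodd.neg_one_pow] at h3
    exact hc1 h3

/-- **Stage 1 for the Mathieu group of degree 12, characteristic not 3**: the traces are real or the core is a
double cover. -/
theorem m12_ne_three (hC : Core P) (p : ℕ) [hp : Fact p.Prime] [CharP F p] (hp3 : p ≠ 3)
    (h : Spor.IsoM12 (Soc P)) (hn : Fintype.card ι ≤ 12) :
    SD P ∨ (Nat.card ((scalars ι F).subgroupOf P) = 2 ∧ Even (Fintype.card ι) ∧ (2 : F) ≠ 0 ∧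
      ∃ z : P, ((z : GL ι F) : Matrix ι ι F) = -1) := by
  rcases m12_cases hC h with ⟨⟨e⟩⟩ | h1
  · exact Or.inl (sd_of_equiv p hp3 e hn)
  · exact Or.inr h1

/-- odd dimension or characteristic 2 -/
theorem m12_odd (hC : Core P) (p : ℕ) [hp : Fact p.Prime] [CharP F p] (hp3 : p ≠ 3)
    (h : Spor.IsoM12 (Soc P)) (hn : Fintype.card ι ≤ 12) (h2 : Odd (Fintype.card ι) ∨ p = 2) : SD P := by
  rcases m12_ne_three hC p hp3 h hn with h1 | ⟨-, h3, h4, -⟩
  · exact h1
  · exfalso
    rcases h2 with h2 | rfl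
    · exact (Nat.not_even_iff_odd.2 h2) h3
    · apply h4
      have := CharP.cast_eq_zero F 2
      exact_mod_cast this

end Cfsg.Agent.H6.M11
end

-- part: H48/M12Three
section
prune_inst 0x440000000000001020001c42b200000200080000006000000dc80c4000000820b030001200a00c846030004810000000000000000000000001180080000000008008a000000000000000000000000000000000000000000000000000000000000
set_option linter.all false
open scoped Cfsg.Agent.FastGrp

-- part: H48/M12Sec
section
/-!
# Small representations of the Mathieu group of degree 11 in characteristic 3 (helper48)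

`fixed_cases` : a representation of dimension 7, 8, 9 has two fixed vectors, or a trivial quotient of dimension two, or both a
fixed vector and a trivial quotient of dimension one.
-/

set_option autoImplicit false
set_option linter.unusedSectionVars false
set_option linter.unusedVariables false
set_option maxRecDepth 100000

universe w

namespace Cfsg.Agent.H48.M12T

open Module LinearMap Cfsg Cfsg.Agent.H6.M11

variable {k : Type*} [Field k] {V : Type*} [AddCommGroup V] [Module k V] [FiniteDimensional k V]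
  {ρ : Spor.M11 →* End k V} {ζ ξ : k}

/-- `x` trivial implies everything trivial -/
theorem triv_of_x (hX : ρ (v11 5) = 1) (g : Spor.M11) : ρ g = 1 := by
  have h := sat_11
  have e1 : op v11 ρ [7, 5, 5, 7] = op v11 ρ [5, 5, 5, 5, 5, 7, 5, 5, 5, 5, 5, 5, 5, 5, 5, 6] := h.op_eq (by decide +kernel)
  have e2 : op v11 ρ [7, 7] = op v11 ρ [] := h.op_eq (by decide +kernel)
  have e3 : op v11 ρ [6, 6, 6, 6, 6] = op v11 ρ [] := h.op_eq (by decide +kernel)
  have e4 : op v11 ρ [8, 5, 8] = op v11 ρ [5, 5, 8, 5, 5, 5, 5, 6, 6, 7, 5, 5, 5, 5, 5, 5, 5, 5, 5, 5] :=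
    h.op_eq (by decide +kernel)
  have e5 : op v11 ρ [8, 8] = op v11 ρ [] := h.op_eq (by decide +kernel)
  simp only [op, ev_cons, ev_nil, map_mul, map_one, mul_one, one_mul, hX] at e1 e2 e3 e4 e5
  rw [e2] at e1
  have h7 : ρ (v11 7) = ρ (v11 6) := by
    calc ρ (v11 7) = ρ (v11 7) * (ρ (v11 7) * ρ (v11 6)) := by rw [← e1, mul_one]
      _ = _ := by rw [← mul_assoc, e2, one_mul]
  rw [h7] at e2
  have h6 : ρ (v11 6) = 1 := by
    have e6 : ρ (v11 6) * (ρ (v11 6) * (ρ (v11 6) * (ρ (v11 6) * ρ (v11 6)))) = ρ (v11 6) := by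
      rw [e2, mul_one, e2, mul_one]
    rw [← e6, e3]
  rw [h7, h6, e5, mul_one, mul_one, mul_one] at e4
  have h8 : ρ (v11 8) = 1 := e4.symm
  have hg : g ∈ Subgroup.closure ({v11 5, v11 8} : Set Spor.M11) := by rw [closure_11]; trivial
  have hle : Subgroup.closure ({v11 5, v11 8} : Set Spor.M11) ≤ MonoidHom.ker ρ.toHomUnits := by
    rw [Subgroup.closure_le]
    rintro a (rfl | rfl)
    · rw [SetLike.mem_coe, MonoidHom.mem_ker]
      exact Units.ext hX
    · rw [SetLike.mem_coe, MonoidHom.mem_ker]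
      exact Units.ext h8
  have h9 := congrArg Units.val (MonoidHom.mem_ker.1 (hle hg))
  exact h9

/-- small representations are trivial -/
theorem triv_of_small (hζ : IsPrimitiveRoot ζ 11) (h4 : finrank k V ≤ 4) (g : Spor.M11) : ρ g = 1 := by
  apply triv_of_x
  obtain ⟨m, a, b, -, -, hm, hdim⟩ := sat_11.toL.eigen (R := ρ) hζ ⊤ (fun _ _ => trivial) (fun _ _ => trivial)
  rw [top_inf_eq] at hm
  rw [finrank_top] at hdim
  have h1 : a = 0 ∧ b = 0 := by omega
  have h2 : (⊤ : Submodule k V) ≤ End.eigenspace (op v11 ρ [5]) 1 := le_of_finrank (by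
    rw [top_inf_eq, hm, finrank_top, hdim]; omega)
  ext u
  have h3 := h2 (Submodule.mem_top (x := u))
  rw [End.mem_eigenspace_iff, one_smul] at h3
  simpa only [op, ev_cons, ev_nil, _root_.Module.End.one_apply, _root_.mul_one] using h3

/-- invariance under the group from the letters -/
theorem inv_of {S : Submodule k V} (h5 : ∀ u ∈ S, op v11 ρ [5] u ∈ S) (h8 : ∀ u ∈ S, op v11 ρ [8] u ∈ S)
    (g : Spor.M11) : S ≤ S.comap (ρ g) := by
  have e5 : op v11 ρ [5] = ρ (v11 5) := by simp only [op, ev_cons, ev_nil, _root_.mul_one]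
  have e8 : op v11 ρ [8] = ρ (v11 8) := by simp only [op, ev_cons, ev_nil, _root_.mul_one]
  rw [e5] at h5
  rw [e8] at h8
  have hp5 : (v11 5)⁻¹ = (v11 5) ^ 10 := by
    have h1 : ev v11 [5, 5, 5, 5, 5, 5, 5, 5, 5, 5, 5] = ev v11 [] := sat_11.base (by decide +kernel)
    simp only [ev_cons, ev_nil, mul_one] at h1
    rw [inv_eq_iff_mul_eq_one]
    rw [← h1]
    simp only [pow_succ, pow_zero, one_mul, mul_assoc]
  have hp8 : (v11 8)⁻¹ = v11 8 := by
    have h1 : ev v11 [8, 8] = ev v11 [] := sat_11.base (by decide +kernel)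
    simp only [ev_cons, ev_nil, mul_one] at h1
    exact inv_eq_of_mul_eq_one_left h1
  have hpow : ∀ (n : ℕ) (u : V), u ∈ S → ρ ((v11 5) ^ n) u ∈ S := by
    intro n
    induction n with
    | zero => intro u hu; rw [pow_zero, map_one]; exact hu
    | succ n ih =>
      intro u hu
      rw [pow_succ, map_mul]
      exact ih _ (h5 u hu)
  have hg : g ∈ Subgroup.closure ({v11 5, v11 8} : Set Spor.M11) := by rw [closure_11]; trivial
  have key : ∀ u ∈ S, ρ g u ∈ S := by
    induction hg using Subgroup.closure_induction'' with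
    | mem x hx =>
      rcases hx with rfl | rfl
      · exact h5
      · exact h8
    | inv_mem x hx =>
      rcases hx with rfl | rfl
      · intro u hu; rw [hp5]; exact hpow 10 u hu
      · intro u hu; rw [hp8]; exact h8 u hu
    | one => intro u hu; rw [map_one]; exact hu
    | mul a b _ _ ha hb => intro u hu; rw [map_mul]; exact ha _ (hb _ hu)
  exact key

/-- the action on an invariant subspace of dimension at most four is trivial -/
theorem triv_sub (hζ : IsPrimitiveRoot ζ 11) {S : Submodule k V} (hS : ∀ g, S ≤ S.comap (ρ g))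
    (h4 : finrank k S ≤ 4) {u : V} (hu : u ∈ S) (g : Spor.M11) : ρ g u = u := by
  have h1 := triv_of_small (ρ := Representation.subrepresentation ρ S hS) hζ h4 g
  have h2 := congrArg (fun f : End k S => ((f ⟨u, hu⟩ : S) : V)) h1
  exact h2

/-- the action on a quotient of dimension at most four is trivial -/
theorem triv_quo (hζ : IsPrimitiveRoot ζ 11) {S : Submodule k V} (hS : ∀ g, S ≤ S.comap (ρ g))
    (h4 : finrank k V ≤ finrank k S + 4) (u : V) (g : Spor.M11) : ρ g u - u ∈ S := by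
  have h0 := S.finrank_quotient_add_finrank
  have h1 := triv_of_small (ρ := Representation.quotient ρ S hS) hζ (by omega) g
  have h2 := congrArg (fun f : End k (V ⧸ S) => f (S.mkQ u)) h1
  exact (Submodule.Quotient.eq S).1 h2

/-- a unipotent action is trivial -/
theorem unip (h11 : ((11 : ℕ) : k) ≠ 0) {X : End k V} (hX : X ^ 11 = 1) {S : Submodule k V} (hq : ∀ u, X u - u ∈ S)
    (hs : ∀ u ∈ S, X u = u) : X = 1 := by
  ext u
  have h1 : ∀ n : ℕ, (X ^ n) u = u + n • (X u - u) := by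
    intro n
    induction n with
    | zero => simp
    | succ n ih =>
      rw [pow_succ', Module.End.mul_apply, ih, map_add, map_nsmul, hs _ (hq u), succ_nsmul]
      abel
  have h2 := h1 11
  rw [hX] at h2
  have h3 : (11 : ℕ) • (X u - u) = 0 := by
    have h4 : u = u + 11 • (X u - u) := h2
    have h5 := sub_eq_zero.2 h4
    rw [sub_add_cancel_left, neg_eq_zero] at h5
    exact h5
  rw [← Nat.cast_smul_eq_nsmul k] at h3
  exact sub_eq_zero.1 ((smul_eq_zero.1 h3).resolve_left h11)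

theorem comap_inv {S : Submodule k V} (hS : ∀ g, S ≤ S.comap (ρ g)) {T : Submodule k (V ⧸ S)}
    (hT : ∀ g, T ≤ T.comap (Representation.quotient ρ S hS g)) (g : Spor.M11) :
    T.comap S.mkQ ≤ (T.comap S.mkQ).comap (ρ g) := by
  intro u hu
  exact hT g hu

theorem map_inv' {S : Submodule k V} (hS : ∀ g, S ≤ S.comap (ρ g)) {T : Submodule k S}
    (hT : ∀ g, T ≤ T.comap (Representation.subrepresentation ρ S hS g)) (g : Spor.M11) :
    T.map S.subtype ≤ (T.map S.subtype).comap (ρ g) := by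
  rintro _ ⟨u, hu, rfl⟩
  exact ⟨_, hT g hu, rfl⟩

theorem finrank_comap_mkQ (S : Submodule k V) (T : Submodule k (V ⧸ S)) :
    finrank k (T.comap S.mkQ) = finrank k T + finrank k S := by
  have h1 := LinearMap.finrank_range_add_finrank_ker (S.mkQ.domRestrict (T.comap S.mkQ))
  have h2 : LinearMap.range (S.mkQ.domRestrict (T.comap S.mkQ)) = T := by
    ext y
    constructor
    · rintro ⟨⟨u, hu⟩, rfl⟩
      exact hu
    · intro hy
      obtain ⟨u, rfl⟩ := S.mkQ_surjective y
      exact ⟨⟨u, hy⟩, rfl⟩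
  have h3 : Submodule.map (T.comap S.mkQ).subtype (LinearMap.ker (S.mkQ.domRestrict (T.comap S.mkQ))) = S := by
    ext y
    rw [Submodule.mem_map]
    constructor
    · rintro ⟨z, hz, rfl⟩
      rw [LinearMap.mem_ker, LinearMap.domRestrict_apply] at hz
      exact (Submodule.Quotient.mk_eq_zero S).1 hz
    · intro hy
      refine ⟨⟨y, ?_⟩, ?_, rfl⟩
      · rw [Submodule.mem_comap, Submodule.mkQ_apply, (Submodule.Quotient.mk_eq_zero S).2 hy]
        exact T.zero_mem
      · rw [LinearMap.mem_ker, LinearMap.domRestrict_apply]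
        exact (Submodule.Quotient.mk_eq_zero S).2 hy
  have h4 : finrank k (LinearMap.ker (S.mkQ.domRestrict (T.comap S.mkQ))) = finrank k S := by
    rw [← Submodule.finrank_map_subtype_eq, h3]
  rw [h2, h4] at h1
  exact h1.symm

end Cfsg.Agent.H48.M12T

namespace Cfsg.Agent.H48.M12T

open Module LinearMap Cfsg Cfsg.Agent.H6.M11

variable {k : Type*} [Field k] {ζ ξ : k}

/-- an invariant subspace -/
theorem exists_sub' {V : Type*} [AddCommGroup V] [Module k V] [FiniteDimensional k V] {ρ : Spor.M11 →* End k V}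
    (h3 : (3 : k) = 0) (hζ : IsPrimitiveRoot ζ 11) (hξ : IsPrimitiveRoot ξ 5) (hX : ρ (v11 5) ≠ 1)
    (h5 : 5 < finrank k V) (h9 : finrank k V ≤ 9) :
    ∃ S : Submodule k V, (∀ g, S ≤ S.comap (ρ g)) ∧ 0 < finrank k S ∧ finrank k S < finrank k V := by
  have e5 : op v11 ρ [5] = ρ (v11 5) := by simp only [op, ev_cons, ev_nil, _root_.mul_one]
  by_contra hcon
  have irr : Irr v11 ρ := by
    intro S i5 i8
    by_contra hc
    push Not at hc
    refine hcon ⟨S, inv_of i5 i8, ?_, ?_⟩
    · have : Nontrivial S := Submodule.nontrivial_iff_ne_bot.2 hc.1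
      exact finrank_pos
    · exact Submodule.finrank_lt hc.2
  have h1 := sat_11.dim_three h3 hζ hξ irr (by rw [e5]; exact hX) (by omega) (by omega)
  omega

/-- **the structure of the representations of dimension at most nine** -/
theorem structure_le (h3 : (3 : k) = 0) (hζ : IsPrimitiveRoot ζ 11) (hξ : IsPrimitiveRoot ξ 5) (n : ℕ) :
    ∀ (V : Type w) [AddCommGroup V] [Module k V] [FiniteDimensional k V] (ρ : Spor.M11 →* End k V), ρ (v11 5) ≠ 1 →
      finrank k V = n → n ≤ 9 →
      ∃ T W : Submodule k V, finrank k W = finrank k T + 5 ∧ (∀ g, T ≤ T.comap (ρ g)) ∧ (∀ g, W ≤ W.comap (ρ g)) := by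
  have h11 := eleven_ne_of3 h3
  induction n using Nat.strong_induction_on with
  | _ n ih =>
    intro V _ _ _ ρ hX hn h9
    have hX11 : (ρ (v11 5)) ^ 11 = 1 := by
      have h1 := sat_11.toL.pow_eleven (R := ρ)
      simpa only [op, ev_cons, ev_nil, _root_.mul_one] using h1
    have h5 : 5 ≤ n := by
      by_contra hc
      exact hX (triv_of_small hζ (by omega) _)
    rcases h5.lt_or_eq with h5 | h5
    · obtain ⟨S, hS, hS0, hS1⟩ := exists_sub' h3 hζ hξ hX (by omega) (by omega)
      rcases Nat.lt_or_ge (finrank k S) 5 with h | h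
      · have hf : ∀ u ∈ S, ∀ g, ρ g u = u := fun u hu g => triv_sub hζ hS (by omega) hu g
        have hq := S.finrank_quotient_add_finrank
        have hX' : Representation.quotient ρ S hS (v11 5) ≠ 1 := by
          intro h1
          apply hX
          refine unip h11 hX11 (S := S) (fun u => ?_) (fun u hu => hf u hu _)
          have h2 := congrArg (fun f : End k (V ⧸ S) => f (S.mkQ u)) h1
          exact (Submodule.Quotient.eq S).1 h2
        obtain ⟨T, W, hd, hT, hW⟩ := ih (finrank k (V ⧸ S)) (by omega) (V ⧸ S) (Representation.quotient ρ S hS) hX' rfl (by omega)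
        exact ⟨T.comap S.mkQ, W.comap S.mkQ, by rw [finrank_comap_mkQ, finrank_comap_mkQ]; omega, comap_inv hS hT,
          comap_inv hS hW⟩
      · have hf : ∀ u g, ρ g u - u ∈ S := fun u g => triv_quo hζ hS (by omega) u g
        have hX' : Representation.subrepresentation ρ S hS (v11 5) ≠ 1 := by
          intro h1
          apply hX
          refine unip h11 hX11 (S := S) (fun u => hf u _) (fun u hu => ?_)
          have h2 := congrArg (fun f : End k S => ((f ⟨u, hu⟩ : S) : V)) h1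
          exact h2
        obtain ⟨T, W, hd, hT, hW⟩ := ih (finrank k S) (by omega) S (Representation.subrepresentation ρ S hS) hX' rfl (by omega)
        exact ⟨T.map S.subtype, W.map S.subtype, by
          rw [Submodule.finrank_map_subtype_eq, Submodule.finrank_map_subtype_eq]; omega, map_inv' hS hT, map_inv' hS hW⟩
    · exact ⟨⊥, ⊤, by rw [finrank_bot, finrank_top]; omega, fun g => bot_le, fun g _ _ => trivial⟩

/-- **fixed vectors and trivial quotients in dimension 7, 8, 9** -/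
theorem fixed_cases (h3 : (3 : k) = 0) (hζ : IsPrimitiveRoot ζ 11) (hξ : IsPrimitiveRoot ξ 5)
    (V : Type w) [AddCommGroup V] [Module k V] [FiniteDimensional k V] (ρ : Spor.M11 →* End k V) (hX : ρ (v11 5) ≠ 1)
    (h7 : 7 ≤ finrank k V) (h9 : finrank k V ≤ 9) :
    (∃ S : Submodule k V, 2 ≤ finrank k S ∧ ∀ u ∈ S, ∀ g, ρ g u = u) ∨
    (∃ S : Submodule k V, finrank k S + 2 ≤ finrank k V ∧ ∀ u g, ρ g u - u ∈ S) ∨
    ((∃ S : Submodule k V, 1 ≤ finrank k S ∧ ∀ u ∈ S, ∀ g, ρ g u = u) ∧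
      (∃ S : Submodule k V, finrank k S + 1 ≤ finrank k V ∧ ∀ u g, ρ g u - u ∈ S)) := by
  obtain ⟨T, W, hd, hT, hW⟩ := structure_le h3 hζ hξ (finrank k V) V ρ hX rfl h9
  have hWle := Submodule.finrank_le W
  have hT' : ∀ u ∈ T, ∀ g, ρ g u = u := fun u hu g => triv_sub hζ hT (by omega) hu g
  have hW' : ∀ u g, ρ g u - u ∈ W := fun u g => triv_quo hζ hW (by omega) u g
  rcases (show 2 ≤ finrank k T ∨ finrank k W + 2 ≤ finrank k V ∨ (1 ≤ finrank k T ∧ finrank k W + 1 ≤ finrank k V) by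
    omega) with h | h | ⟨h, h'⟩
  · exact Or.inl ⟨T, h, hT'⟩
  · exact Or.inr (Or.inl ⟨W, h, hW'⟩)
  · exact Or.inr (Or.inr ⟨⟨T, h, hT'⟩, ⟨W, h', hW'⟩⟩)

end Cfsg.Agent.H48.M12T
end

-- part: H48/M12Three
section
/-!
# The Mathieu group of degree 12 in characteristic 3, dimensions 7, 8, 9 (helper48)

`m12_three` : a core of dimension 7, 8 or 9 in characteristic 3 is not isomorphic to the group.
-/

set_option autoImplicit false
set_option linter.unusedSectionVars false
set_option linter.unusedVariables false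
set_option maxRecDepth 100000

universe w u

namespace Cfsg.Agent.H48.M12T

open Module LinearMap

/-! ### absolutely irreducible representations and subgroups of index 12 -/

section abstract

variable {k : Type*} [Field k] {V : Type*} [AddCommGroup V] [Module k V] [FiniteDimensional k V]
  {G : Type*} [Group G] {M : Subgroup G} {c : Fin 12 → G} {R : G →* End k V}

theorem exists_pair {S : Submodule k V} (h2 : 2 ≤ finrank k S) :
    ∃ x y : V, x ∈ S ∧ y ∈ S ∧ ∀ a b : k, a • x + b • y = 0 → a = 0 ∧ b = 0 := by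
  have hnt : Nontrivial S := Module.nontrivial_of_finrank_pos (R := k) (by omega)
  obtain ⟨x, hx⟩ := exists_ne (0 : S)
  obtain ⟨y, hy⟩ := exists_linearIndependent_pair_of_one_lt_finrank (R := k) (by omega) hx
  refine ⟨x, y, x.2, y.2, fun a b h => ?_⟩
  rw [LinearIndependent.pair_iff] at hy
  apply hy a b
  apply Subtype.ext
  exact h

/-- two fixed vectors -/
theorem two_fixed (hspan : Submodule.span k (Set.range R) = ⊤) (hc : ∀ g, ∃ j, (c j)⁻¹ * g ∈ M) (h7 : 7 ≤ finrank k V)
    {S : Submodule k V} (h2 : 2 ≤ finrank k S) (hS : ∀ u ∈ S, ∀ m ∈ M, R m u = u) : False := by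
  obtain ⟨x, y, hx, hy, hxy⟩ := exists_pair h2
  let L : (Dual k V × Dual k V) →ₗ[k] (Fin 12 → k) := LinearMap.pi fun j =>
    (Dual.eval k V (R (c j) x)).comp (LinearMap.fst k (Dual k V) (Dual k V)) +
      (Dual.eval k V (R (c j) y)).comp (LinearMap.snd k (Dual k V) (Dual k V))
  have hL : LinearMap.ker L ≠ ⊥ := by
    apply LinearMap.ker_ne_bot_of_finrank_lt
    rw [Module.finrank_prod, Subspace.dual_finrank_eq, Module.finrank_fin_fun]
    omega
  obtain ⟨⟨φ, χ⟩, hker, hne⟩ := (Submodule.ne_bot_iff _).1 hL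
  have h0 : ∀ j, φ (R (c j) x) + χ (R (c j) y) = 0 := fun j => congrFun (LinearMap.mem_ker.1 hker) j
  have h1 : ∀ g, φ (R g x) + χ (R g y) = 0 := by
    intro g
    obtain ⟨j, hj⟩ := hc g
    have e : ∀ z ∈ S, R g z = R (c j) z := by
      intro z hz
      have e1 := hS z hz _ hj
      calc R g z = R (c j) (R ((c j)⁻¹ * g) z) := by
            rw [← Module.End.mul_apply, ← map_mul, mul_inv_cancel_left]
        _ = _ := by rw [e1]
    rw [e x hx, e y hy, h0]
  have h2' : ∀ A : End k V, φ (A x) + χ (A y) = 0 := by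
    intro A
    have hA : A ∈ Submodule.span k (Set.range R) := by rw [hspan]; trivial
    induction hA using Submodule.span_induction with
    | mem A hA => obtain ⟨g, rfl⟩ := hA; exact h1 g
    | zero => simp
    | add A B _ _ hA hB =>
      rw [LinearMap.add_apply, LinearMap.add_apply, map_add, map_add]
      linear_combination hA + hB
    | smul a A _ hA =>
      rw [LinearMap.smul_apply, LinearMap.smul_apply, map_smul, map_smul, smul_eq_mul, smul_eq_mul]
      linear_combination a * hA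
  have h3 : ∀ z, φ z = 0 ∧ χ z = 0 := by
    intro z
    apply hxy
    rw [← Module.forall_dual_apply_eq_zero_iff k]
    intro θ
    have h4 := h2' (θ.smulRight z)
    rw [LinearMap.smulRight_apply, LinearMap.smulRight_apply, map_smul, map_smul, smul_eq_mul, smul_eq_mul] at h4
    rw [map_add, map_smul, map_smul, smul_eq_mul, smul_eq_mul]
    linear_combination h4
  apply hne
  rw [Prod.mk_eq_zero]
  exact ⟨LinearMap.ext fun z => (h3 z).1, LinearMap.ext fun z => (h3 z).2⟩

/-- two fixed functionals -/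
theorem two_cofixed (hspan : Submodule.span k (Set.range R) = ⊤) (hc : ∀ g, ∃ j, (c j)⁻¹ * g ∈ M) (h7 : 7 ≤ finrank k V)
    {S : Submodule k V} (h2 : finrank k S + 2 ≤ finrank k V) (hS : ∀ u, ∀ m ∈ M, R m u - u ∈ S) : False := by
  have hd := Subspace.finrank_add_finrank_dualAnnihilator_eq S
  obtain ⟨φ, χ, hφ, hχ, hind⟩ := exists_pair (S := S.dualAnnihilator) (by omega)
  have hfix : ∀ θ ∈ S.dualAnnihilator, ∀ m ∈ M, ∀ u, θ (R m u) = θ u := by
    intro θ hθ m hm u
    have h1 := (Submodule.mem_dualAnnihilator θ).1 hθ _ (hS u m hm)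
    rwa [map_sub, sub_eq_zero] at h1
  let L : (V × V) →ₗ[k] (Fin 12 → k) := LinearMap.pi fun j =>
    (φ ∘ₗ (R (c j)⁻¹)).comp (LinearMap.fst k V V) + (χ ∘ₗ (R (c j)⁻¹)).comp (LinearMap.snd k V V)
  have hL : LinearMap.ker L ≠ ⊥ := by
    apply LinearMap.ker_ne_bot_of_finrank_lt
    rw [Module.finrank_prod, Module.finrank_fin_fun]
    omega
  obtain ⟨⟨x, y⟩, hker, hne⟩ := (Submodule.ne_bot_iff _).1 hL
  have h0 : ∀ j, φ (R (c j)⁻¹ x) + χ (R (c j)⁻¹ y) = 0 := fun j => congrFun (LinearMap.mem_ker.1 hker) j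
  have h1 : ∀ g, φ (R g x) + χ (R g y) = 0 := by
    intro g
    obtain ⟨j, hj⟩ := hc g⁻¹
    have hj' : g * c j ∈ M := by
      have := inv_mem hj
      rwa [mul_inv_rev, inv_inv, inv_inv] at this
    have e : ∀ θ ∈ S.dualAnnihilator, ∀ z, θ (R g z) = θ (R (c j)⁻¹ z) := by
      intro θ hθ z
      have e1 := hfix θ hθ _ hj' (R (c j)⁻¹ z)
      rw [← e1, ← Module.End.mul_apply, ← map_mul, mul_assoc, mul_inv_cancel, mul_one]
    rw [e φ hφ, e χ hχ, h0]
  have h2' : ∀ A : End k V, φ (A x) + χ (A y) = 0 := by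
    intro A
    have hA : A ∈ Submodule.span k (Set.range R) := by rw [hspan]; trivial
    induction hA using Submodule.span_induction with
    | mem A hA => obtain ⟨g, rfl⟩ := hA; exact h1 g
    | zero => simp
    | add A B _ _ hA hB =>
      rw [LinearMap.add_apply, LinearMap.add_apply, map_add, map_add]
      linear_combination hA + hB
    | smul a A _ hA =>
      rw [LinearMap.smul_apply, LinearMap.smul_apply, map_smul, map_smul, smul_eq_mul, smul_eq_mul]
      linear_combination a * hA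
  have h3 : ∀ θ : Dual k V, θ x = 0 ∧ θ y = 0 := by
    intro θ
    apply hind
    ext z
    have h4 := h2' (θ.smulRight z)
    rw [LinearMap.smulRight_apply, LinearMap.smulRight_apply, map_smul, map_smul, smul_eq_mul, smul_eq_mul] at h4
    rw [LinearMap.add_apply, LinearMap.smul_apply, LinearMap.smul_apply, smul_eq_mul, smul_eq_mul, LinearMap.zero_apply]
    exact h4
  apply hne
  rw [Prod.mk_eq_zero]
  exact ⟨(Module.forall_dual_apply_eq_zero_iff k x).1 fun θ => (h3 θ).1,
    (Module.forall_dual_apply_eq_zero_iff k y).1 fun θ => (h3 θ).2⟩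

/-- a fixed vector and a fixed functional, doubly transitive action -/
theorem one_one (hspan : Submodule.span k (Set.range R) = ⊤) (hc : ∀ g, ∃ j, (c j)⁻¹ * g ∈ M) (h12 : (12 : k) = 0)
    (hlt : finrank k V < 12) (h1 : 1 < finrank k V) {x : V} (hx0 : x ≠ 0) (hx : ∀ m ∈ M, R m x = x) {φ : Dual k V}
    (hφ0 : φ ≠ 0) (hφ : ∀ m ∈ M, ∀ u, φ (R m u) = φ u) {t : G} (hM : ∀ j, c j ∈ M ∨ ∃ m ∈ M, c j = m * t)
    (hdist : ∀ i j, i ≠ j → (c i)⁻¹ * c j ∉ M) : False := by
  -- the values
  have hval : ∀ g, (g ∈ M ∧ φ (R g x) = φ x) ∨ (φ (R g x) = φ (R t x)) := by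
    intro g
    obtain ⟨j, hj⟩ := hc g
    have e : R g x = R (c j) x := by
      have e1 := hx _ hj
      calc R g x = R (c j) (R ((c j)⁻¹ * g) x) := by
            rw [← Module.End.mul_apply, ← map_mul, mul_inv_cancel_left]
        _ = _ := by rw [e1]
    rcases hM j with h | ⟨m, hm, h⟩
    · left
      refine ⟨?_, ?_⟩
      · have := mul_mem h hj
        rwa [mul_inv_cancel_left] at this
      · rw [e, hφ _ h]
    · right
      rw [e, h, map_mul, Module.End.mul_apply, hφ _ hm]
  have hoff : ∀ i j, i ≠ j → φ (R (c i)⁻¹ (R (c j) x)) = φ (R t x) := by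
    intro i j hij
    rw [← Module.End.mul_apply, ← map_mul]
    rcases hval ((c i)⁻¹ * c j) with h | h
    · exact absurd h.1 (hdist i j hij)
    · exact h
  have hdiag : ∀ i, φ (R (c i)⁻¹ (R (c i) x)) = φ x := by
    intro i
    rw [← Module.End.mul_apply, ← map_mul, inv_mul_cancel, map_one]
    rfl
  by_cases hab : φ x = φ (R t x)
  · -- the function is constant
    have hconst : ∀ g, φ (R g x) = φ x := by
      intro g
      rcases hval g with h | h
      · exact h.2
      · rw [h, hab]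
    -- an annihilated vector is zero
    have hann : ∀ w : V, (∀ g, φ (R g w) = 0) → w = 0 := by
      intro w hw
      have h2' : ∀ A : End k V, φ (A w) = 0 := by
        intro A
        have hA : A ∈ Submodule.span k (Set.range R) := by rw [hspan]; trivial
        induction hA using Submodule.span_induction with
        | mem A hA => obtain ⟨g, rfl⟩ := hA; exact hw g
        | zero => simp
        | add A B _ _ hA hB => rw [LinearMap.add_apply, map_add, hA, hB, add_zero]
        | smul a A _ hA => rw [LinearMap.smul_apply, map_smul, hA, smul_zero]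
      rw [← Module.forall_dual_apply_eq_zero_iff k]
      intro θ
      by_contra hθ
      apply hφ0
      ext z
      have h4 := h2' (θ.smulRight z)
      rw [LinearMap.smulRight_apply, map_smul, smul_eq_mul] at h4
      exact (mul_eq_zero.1 h4).resolve_left hθ
    have hfix : ∀ g, R g x = x := by
      intro g
      rw [← sub_eq_zero]
      apply hann
      intro h
      rw [map_sub, map_sub, ← Module.End.mul_apply, ← map_mul, hconst, hconst, sub_self]
    have hall : ∀ A : End k V, A x ∈ Submodule.span k {x} := by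
      intro A
      have hA : A ∈ Submodule.span k (Set.range R) := by rw [hspan]; trivial
      induction hA using Submodule.span_induction with
      | mem A hA => obtain ⟨g, rfl⟩ := hA; rw [hfix]; exact Submodule.mem_span_singleton_self x
      | zero => simp
      | add A B _ _ hA hB => rw [LinearMap.add_apply]; exact Submodule.add_mem _ hA hB
      | smul a A _ hA => rw [LinearMap.smul_apply]; exact Submodule.smul_mem _ _ hA
    obtain ⟨θ, hθ⟩ : ∃ θ : Dual k V, θ x ≠ 0 := by
      by_contra hcon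
      push Not at hcon
      exact hx0 ((Module.forall_dual_apply_eq_zero_iff k x).1 hcon)
    have htop : Submodule.span k {x} = ⊤ := by
      rw [eq_top_iff]
      intro z _
      have h4 := hall (θ.smulRight z)
      rw [LinearMap.smulRight_apply] at h4
      have h5 := Submodule.smul_mem _ (θ x)⁻¹ h4
      rwa [smul_smul, inv_mul_cancel₀ hθ, one_smul] at h5
    have h5 : finrank k (Submodule.span k {x}) = 1 := finrank_span_singleton hx0
    rw [htop, finrank_top] at h5
    omega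
  · -- the twelve vectors are linearly independent
    have hli : LinearIndependent k fun j => R (c j) x := by
      rw [Fintype.linearIndependent_iff]
      intro g hg
      have h3 : ∀ i, g i * (φ x - φ (R t x)) + (∑ j, g j) * φ (R t x) = 0 := by
        intro i
        have h4 := congrArg (fun z => φ (R (c i)⁻¹ z)) hg
        simp only [map_sum, map_smul, map_zero, smul_eq_mul] at h4
        rw [← Finset.add_sum_erase _ _ (Finset.mem_univ i), hdiag,
          Finset.sum_congr rfl (fun j hj => by rw [hoff i j (Finset.ne_of_mem_erase hj).symm]), ← Finset.sum_mul] at h4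
        rw [← Finset.add_sum_erase _ _ (Finset.mem_univ i)]
        linear_combination h4
      have h4 : (∑ j, g j) * (φ x - φ (R t x)) = 0 := by
        have h5 := Finset.sum_congr (s₁ := (Finset.univ : Finset (Fin 12))) rfl fun i _ => h3 i
        rw [Finset.sum_add_distrib, Finset.sum_const, Finset.sum_const_zero, Finset.card_univ, Fintype.card_fin,
          ← Finset.sum_mul, nsmul_eq_mul] at h5
        push_cast at h5
        linear_combination h5 - h12 * (∑ j, g j) * φ (R t x)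
      have h5 : ∑ j, g j = 0 := (mul_eq_zero.1 h4).resolve_right (sub_ne_zero.2 hab)
      intro i
      have h6 := h3 i
      rw [h5, zero_mul, add_zero] at h6
      exact (mul_eq_zero.1 h6).resolve_right (sub_ne_zero.2 hab)
    have := hli.fintype_card_le_finrank
    rw [Fintype.card_fin] at this
    omega

end abstract

end Cfsg.Agent.H48.M12T

namespace Cfsg.Agent.H48.M12T

open Cfsg Cfsg.Agent.H6.M11 Cfsg.Agent.CoThreeStd.MTwelve Cfsg.Agent.SporadicStructure.M11InvPerms Module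

/-! ### the cosets -/

/-- words of coset representatives -/
def cw : ℕ → List ℕ
  | 0 => []
  | n + 1 => (List.replicate n (W 5)).flatten ++ [0]

theorem act_cons (i : ℕ) (l : List ℕ) (x : ℕ) : _root_.Cfsg.Agent.CoThreeStd.MTwelve.act (i :: l) x = (ptab i >>> (5 * _root_.Cfsg.Agent.CoThreeStd.MTwelve.act l x)) % 32 := rfl

theorem exists_act (l : List ℕ) : ∃ j : Fin 12, _root_.Cfsg.Agent.CoThreeStd.MTwelve.act l 0 = _root_.Cfsg.Agent.CoThreeStd.MTwelve.act (cw j) 0 := by
  induction l with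
  | nil => exact ⟨0, rfl⟩
  | cons i l ih =>
    obtain ⟨j, hj⟩ := ih
    have h : ∀ i : Fin 7, ∀ j : Fin 12, ∃ j' : Fin 12, _root_.Cfsg.Agent.CoThreeStd.MTwelve.act (i.1 :: cw j) 0 = _root_.Cfsg.Agent.CoThreeStd.MTwelve.act (cw j') 0 := by decide +kernel
    rw [act_cons, hj, ← act_cons]
    rcases Nat.lt_or_ge i 6 with hi | hi
    · exact h ⟨i, by omega⟩ j
    · have h7 : ptab i = ptab 6 := by
        obtain ⟨k, rfl⟩ := Nat.exists_eq_add_of_le hi
        rw [Nat.add_comm]; rfl
      rw [act_cons, h7, ← act_cons]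
      exact h 6 j

theorem act_cw_inj : ∀ i j : Fin 12, _root_.Cfsg.Agent.CoThreeStd.MTwelve.act (cw i) 0 = _root_.Cfsg.Agent.CoThreeStd.MTwelve.act (cw j) 0 → i = j := by decide +kernel

/-- the subgroup of degree 11 -/
def M₀ : Subgroup Spor.M12 := (Subgroup.inclusion M11_le).range

theorem mem_M₀ {g : Spor.M12} : g ∈ M₀ ↔ (g : Equiv.Perm GolayPt) (dec 0) = dec 0 := by
  have h2 : dec 0 = (some 0 : GolayPt) := by decide +kernel
  constructor
  · rintro ⟨m, rfl⟩
    have h1 := (Subgroup.mem_inf.1 m.2).2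
    rw [MulAction.mem_stabilizer_iff] at h1
    rw [h2]
    exact h1
  · intro h
    rw [h2] at h
    exact ⟨⟨g, Subgroup.mem_inf.2 ⟨g.2, by rw [MulAction.mem_stabilizer_iff]; exact h⟩⟩, rfl⟩

theorem inv_mul_mem {l l' : List ℕ} : (wd l)⁻¹ * wd l' ∈ M₀ ↔ _root_.Cfsg.Agent.CoThreeStd.MTwelve.act l 0 = _root_.Cfsg.Agent.CoThreeStd.MTwelve.act l' 0 := by
  rw [mem_M₀]
  have h1 := act_spec l 0 (by norm_num)
  have h2 := act_spec l' 0 (by norm_num)
  have e1 : (wd l).1 (dec 0) = dec (_root_.Cfsg.Agent.CoThreeStd.MTwelve.act l 0) := by rw [← h1.1, dec_enc]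
  have e2 : (wd l').1 (dec 0) = dec (_root_.Cfsg.Agent.CoThreeStd.MTwelve.act l' 0) := by rw [← h2.1, dec_enc]
  have h3 : (((wd l)⁻¹ * wd l' : Spor.M12) : Equiv.Perm GolayPt) (dec 0) = (wd l).1⁻¹ ((wd l').1 (dec 0)) := rfl
  rw [h3, e2]
  constructor
  · intro h
    have h4 : dec (act l' 0) = (wd l).1 (dec 0) := by
      rw [← h]
      exact ((wd l).1.apply_symm_apply _).symm
    rw [e1] at h4
    have h5 := congrArg enc h4
    rw [enc_dec _ h1.2, enc_dec _ h2.2] at h5
    exact h5.symm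
  · intro h
    rw [← h, ← e1]
    exact (wd l).1.symm_apply_apply _

theorem hc (g : Spor.M12) : ∃ j : Fin 12, (wd (cw j))⁻¹ * g ∈ M₀ := by
  obtain ⟨l, rfl⟩ := mem_wd g
  obtain ⟨j, hj⟩ := exists_act l
  exact ⟨j, inv_mul_mem.2 hj.symm⟩

theorem hdist (i j : Fin 12) (hij : i ≠ j) : (wd (cw i))⁻¹ * wd (cw j) ∉ M₀ := fun h =>
  hij (act_cw_inj i j (inv_mul_mem.1 h))

theorem hM (j : Fin 12) : wd (cw j) ∈ M₀ ∨ ∃ m ∈ M₀, wd (cw j) = m * wd [0] := by
  obtain ⟨j, hj⟩ := j
  cases j with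
  | zero => left; exact _root_.OneMemClass.one_mem _
  | succ n =>
    right
    refine ⟨wd ((List.replicate n (W 5)).flatten), ?_, ?_⟩
    · have h1 : wd (W 5) ∈ M₀ := ⟨v11 5, rfl⟩
      clear hj
      induction n with
      | zero => exact _root_.OneMemClass.one_mem _
      | succ n ih =>
        rw [List.replicate_succ, List.flatten_cons, wd_append]
        exact mul_mem h1 ih
    · rw [← wd_append]
      rfl

end Cfsg.Agent.H48.M12T

namespace Cfsg.Agent.H48.M12T

open Matrix Module Cfsg Cfsg.Geo Cfsg.Agent.H915.LD Cfsg.Agent.H6.M11 Cfsg.Agent.CoThreeStd.MTwelve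

/-- representations of the group of degree 12 in characteristic 3 -/
theorem rep_false {k : Type u} [Field k] [IsAlgClosed k] (h3 : (3 : k) = 0) {V : Type w} [AddCommGroup V] [Module k V]
    [FiniteDimensional k V] (R : Spor.M12 →* End k V) (hspan : Submodule.span k (Set.range R) = ⊤)
    (h7 : 7 ≤ finrank k V) (h9 : finrank k V ≤ 9) : False := by
  obtain ⟨ζ, hζ⟩ := exists_root k 11 (eleven_ne_of3 h3)
  obtain ⟨ξ, hξ⟩ := exists_root k 5 (five_ne_of3 h3)
  have h12 : (12 : k) = 0 := by linear_combination 4 * h3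
  let ρ : Spor.M11 →* End k V := R.comp (Subgroup.inclusion M11_le)
  have hX : ρ (v11 5) ≠ 1 := by
    intro h
    have h1 := triv_of_x h
    have hfix : ∀ u : V, ∀ m ∈ M₀, R m u = u := by
      rintro u _ ⟨m, rfl⟩
      exact congrArg (fun f : End k V => f u) (h1 m)
    exact two_fixed (M := M₀) (c := fun j => wd (cw j)) hspan hc h7 (S := ⊤) (by rw [finrank_top]; omega)
      (fun u _ => hfix u)
  rcases fixed_cases h3 hζ hξ V ρ hX h7 h9 with ⟨S, h2, hS⟩ | ⟨S, h2, hS⟩ | ⟨⟨S, h1, hS⟩, ⟨T, h2, hT⟩⟩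
  · refine two_fixed (M := M₀) (c := fun j => wd (cw j)) hspan hc h7 h2 ?_
    rintro u hu _ ⟨m, rfl⟩
    exact hS u hu m
  · refine two_cofixed (M := M₀) (c := fun j => wd (cw j)) hspan hc h7 h2 ?_
    rintro u _ ⟨m, rfl⟩
    exact hS u m
  · have hnt : Nontrivial S := Module.nontrivial_of_finrank_pos (R := k) (by omega)
    obtain ⟨⟨x, hx⟩, hx0⟩ := exists_ne (0 : S)
    have hd := Subspace.finrank_add_finrank_dualAnnihilator_eq T
    have hnt' : Nontrivial T.dualAnnihilator := Module.nontrivial_of_finrank_pos (R := k) (by omega)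
    obtain ⟨⟨φ, hφ⟩, hφ0⟩ := exists_ne (0 : T.dualAnnihilator)
    refine one_one (M := M₀) (c := fun j => wd (cw j)) (t := wd [0]) hspan hc h12 (by omega) (by omega) (x := x)
      (fun h => hx0 (Subtype.ext h)) ?_ (φ := φ) (fun h => hφ0 (Subtype.ext h)) ?_ hM hdist
    · rintro _ ⟨m, rfl⟩
      exact hS x hx m
    · rintro _ ⟨m, rfl⟩ u
      have h4 := (Submodule.mem_dualAnnihilator φ).1 hφ _ (hT u m)
      rwa [map_sub, sub_eq_zero] at h4

variable {ι : Type} [Fintype ι] [DecidableEq ι] {F : Type u} [Field F] {P : Subgroup (GL ι F)}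

/-- **the group of degree 12 in characteristic 3, dimensions 7, 8, 9** -/
theorem m12_three (hC : Core P) (h3 : (3 : F) = 0) (e : P ≃* Spor.M12) (h7 : 7 ≤ Fintype.card ι)
    (h9 : Fintype.card ι ≤ 9) : False := by
  let k := AlgebraicClosure F
  have h3k : (3 : k) = 0 := by
    have h := congrArg (algebraMap F k) h3
    rwa [map_ofNat, map_zero] at h
  refine rep_false (k := k) h3k (V := ι → k) ((rep P k).comp e.symm.toMonoidHom) ?_ (by simpa only [_root_.Module.finrank_fintype_fun_eq_card] using h7) (by simpa only [_root_.Module.finrank_fintype_fun_eq_card] using h9)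
  have h1 : Set.range ((rep P k).comp e.symm.toMonoidHom) = Set.range (rep P k) := by
    ext f
    constructor
    · rintro ⟨g, rfl⟩
      exact ⟨e.symm g, rfl⟩
    · rintro ⟨g, rfl⟩
      exact ⟨e g, by simp only [_root_.MulEquiv.toMonoidHom_eq_coe, _root_.MonoidHom.coe_comp, _root_.MonoidHom.coe_coe, _root_.Function.comp_apply, _root_.MulEquiv.symm_apply_apply]⟩
  rw [h1]
  exact span_rep k hC

/-- **odd dimension** -/
theorem m12_three_odd [Finite F] (hC : Core P) (h3 : (3 : F) = 0) (h : Spor.IsoM12 (Soc P)) (h7 : Fintype.card ι = 7 ∨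
    Fintype.card ι = 9) : False := by
  rcases m12_cases hC h with ⟨⟨e⟩⟩ | ⟨-, h1, -⟩
  · exact m12_three hC h3 e (by omega) (by omega)
  · rcases h7 with h7 | h7
    · rw [h7] at h1; exact absurd h1 (by decide)
    · rw [h7] at h1; exact absurd h1 (by decide)

end Cfsg.Agent.H48.M12T
end
end
end
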