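import Cfsg.Agent.H912.CrossList_m3
import Cfsg.Agent.H906.Cover_m3
import Cfsg.Agent.H912.FiveList
import Cfsg.Agent.H911.AltReal
import Cfsg.Agent.H637.SevenA8_m3
import Cfsg.Agent.H659.SevenU42_m3
import Cfsg.Agent.H464.L2StageOne_m3
import Cfsg.Agent.SmallSimple.S1000.PSLFacts
import Cfsg.Agent.S0256
import Cfsg.Agent.S0280
import Cfsg.Agent.H879.Nine.Ctx_m3
import Cfsg.Agent.H905.MdP
import Cfsg.Agent.H48.DsChev
import Cfsg.Agent.Nodes.WittInst
import Cfsg.Agent.S2099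
import Cfsg.Agent.H203.LSSz
import Cfsg.Agent.S2112
import Cfsg.Agent.H95.LSx.Sub
import Cfsg.Agent.H936.List12
import Cfsg.Agent.H916.SpSixK_mg
import Cfsg.Agent.H887.DS.SixFive
import Cfsg.Agent.H921.SporCore
import Cfsg.Agent.H806.LsFiTwo_m3
import Cfsg.Agent.H1.TJ1
import Cfsg.Agent.H1.TJ2
import Cfsg.Agent.H6.M11.Main11
import Cfsg.Agent.FastGrp
import Cfsg.Agent.Prune
set_option linter.all false
prune_inst 0x7fb6edfbabf80ddedfff7e7fa69ccffdfab93fffe6dff9cbffe069ff2bdf7b00c9e5fb8d8fe310fe1ed6e21c10f87b53fbffeeffe36bdc7ffffd1ff45ffbfe0ffdf7bd0971b6883e0fbc2ff703f0778e7f3fffffffffffffffffffffffffffbeffbfffffffff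
open scoped Cfsg.Agent.FastGrp

-- part: H48/AltTen
section
/-!
# Alternating groups of degree at least ten in characteristic not five: degree at least eight (helper48)

`<a, b> = 5 × 5 ≤ A_10` : all four nontrivial eigenvalues of `a` and of `b` occur; in dimension at most seven the four
eigenspaces of `a` are lines, on which `b` acts trivially.
-/

set_option autoImplicit false

universe u v

namespace Cfsg.Agent.H48.AltTen

open Module Cfsg.Agent.H912.Bd

section Lin

variable {K : Type*} [Field K] [IsAlgClosed K] {V : Type*} [AddCommGroup V] [Module K V] [FiniteDimensional K V]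
  {L : Type*} [Group L] (ρ : L →* Module.End K V)

omit [IsAlgClosed K] [FiniteDimensional K V] in
theorem inv_apply (g : L) (v : V) : ρ g⁻¹ (ρ g v) = v := by
  rw [← Module.End.mul_apply, ← map_mul, inv_mul_cancel, map_one, Module.End.one_apply]

theorem exists_eig (h5 : (5 : K) ≠ 0) {a : L} (ha : a ^ 5 = 1) (ha1 : ρ a ≠ 1) :
    ∃ ζ : K, ζ ≠ 1 ∧ ζ ^ 5 = 1 ∧ ∃ v : V, v ≠ 0 ∧ ρ a v = ζ • v := by
  have hN : ((5 : ℕ) : K) ≠ 0 := by exact_mod_cast h5
  have hf : (ρ a) ^ 5 = 1 := by rw [← map_pow, ha, map_one]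
  have htop : ⨆ μ, (ρ a).eigenspace μ = ⊤ := by
    have h1 := Module.End.iSup_maxGenEigenspace_eq_top (ρ a)
    have h2 : ∀ μ, (ρ a).maxGenEigenspace μ = (ρ a).eigenspace μ := fun μ => maxGen_eq hN hf μ
    simp only [h2] at h1
    exact h1
  by_contra hcon
  push Not at hcon
  apply ha1
  have h1 : ∀ μ, (ρ a).eigenspace μ ≤ (ρ a).eigenspace 1 := by
    intro μ v hv
    rw [Module.End.mem_eigenspace_iff] at hv ⊢
    by_cases hv0 : v = 0
    · rw [hv0, map_zero, smul_zero]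
    by_cases hμ : μ = 1
    · rw [hv, hμ]
    exfalso
    refine hcon μ hμ ?_ v hv0 hv
    have h2 : ∀ k : ℕ, (ρ a ^ k) v = μ ^ k • v := by
      intro k
      induction k with
      | zero => simp only [_root_.pow_zero, _root_.Module.End.one_apply, _root_.one_smul]
      | succ k ih => rw [pow_succ, Module.End.mul_apply, hv, map_smul, ih, smul_smul, pow_succ, mul_comm]
    have h3 := h2 5
    rw [hf, Module.End.one_apply] at h3
    have h4 : (μ ^ 5 - 1) • v = 0 := by rw [sub_smul, ← h3, one_smul, sub_self]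
    exact sub_eq_zero.1 ((smul_eq_zero.1 h4).resolve_right hv0)
  have h2 : (ρ a).eigenspace 1 = ⊤ := by rw [eq_top_iff, ← htop]; exact iSup_le h1
  ext v
  have h3 : v ∈ (ρ a).eigenspace 1 := by rw [h2]; trivial
  rw [Module.End.mem_eigenspace_iff, one_smul] at h3
  rw [h3, Module.End.one_apply]

omit [IsAlgClosed K] in
/-- the powers `ζ^(2^i)` -/
theorem zeta_inj {ζ : K} (h1 : ζ ≠ 1) (h5 : ζ ^ 5 = 1) :
    Function.Injective (fun i : Fin 4 => ζ ^ 2 ^ (i : ℕ)) ∧ ∀ i : Fin 4, ζ ^ 2 ^ (i : ℕ) ≠ 1 := by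
  have h0 : ζ ≠ 0 := by
    rintro rfl
    norm_num at h5
  have : Fact (Nat.Prime 5) := ⟨by norm_num⟩
  have hord : orderOf ζ = 5 := orderOf_eq_prime h5 h1
  have key1 : ∀ i j : Fin 4, 2 ^ (i : ℕ) % 5 = 2 ^ (j : ℕ) % 5 → i = j := by decide
  have key2 : ∀ i : Fin 4, ¬ 5 ∣ 2 ^ (i : ℕ) := by decide
  constructor
  · intro i j h
    have h2 : 2 ^ (i : ℕ) ≡ 2 ^ (j : ℕ) [MOD 5] := by
      have h3 := (pow_inj_mod (x := Units.mk0 ζ h0) (n := 2 ^ (i : ℕ)) (m := 2 ^ (j : ℕ))).1 (Units.ext (by simpa only [_root_.Units.val_pow_eq_pow_val, _root_.Units.val_mk0] using h))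
      have h4 : orderOf (Units.mk0 ζ h0) = 5 := by rw [← orderOf_units, Units.val_mk0, hord]
      rw [h4] at h3
      exact h3
    exact key1 i j h2
  · intro i h
    have h2 : 5 ∣ 2 ^ (i : ℕ) := by rw [← hord]; exact orderOf_dvd_of_pow_eq_one h
    exact key2 i h2

omit [IsAlgClosed K] [FiniteDimensional K V] in
/-- moving an eigenvector -/
theorem move {a s : L} (hs : s * a = a ^ 2 * s) {v : V} {ζ : K} (hv : ρ a v = ζ • v) (i : ℕ) :
    ρ a (ρ (s⁻¹ ^ i) v) = ζ ^ 2 ^ i • ρ (s⁻¹ ^ i) v := by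
  have h0 : a * s⁻¹ = s⁻¹ * a ^ 2 := by
    rw [eq_inv_mul_iff_mul_eq, ← mul_assoc, hs, mul_inv_cancel_right]
  induction i with
  | zero => simpa only [_root_.pow_zero, _root_.map_one, _root_.Module.End.one_apply, _root_.pow_one] using hv
  | succ i ih =>
    rw [pow_succ', map_mul, Module.End.mul_apply, ← Module.End.mul_apply (ρ a), ← map_mul, h0, map_mul,
      Module.End.mul_apply, pow_two, map_mul, Module.End.mul_apply, ih, map_smul, ih, smul_smul, map_smul, pow_succ,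
      pow_mul, pow_two]

theorem lin (h5 : (5 : K) ≠ 0) {a b s s' u : L} (ha : a ^ 5 = 1) (hb : b ^ 5 = 1) (hab : b * a = a * b)
    (hs : s * a = a ^ 2 * s) (hs' : s' * b = b ^ 2 * s') (hua : u * a = a * u) (hub : u * b = b⁻¹ * u)
    (ha1 : ρ a ≠ 1) (hb1 : ρ b ≠ 1) : 8 ≤ finrank K V := by
  by_contra hlt
  push Not at hlt
  obtain ⟨ζ, hζ1, hζ5, v, hv0, hv⟩ := exists_eig ρ h5 ha ha1
  obtain ⟨ξ, hξ1, hξ5, w, hw0, hw⟩ := exists_eig ρ h5 hb hb1
  obtain ⟨hζi, hζn⟩ := zeta_inj hζ1 hζ5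
  obtain ⟨hξi, hξn⟩ := zeta_inj hξ1 hξ5
  -- the four eigenspaces of `a` are lines
  let E : Fin 4 → Submodule K V := fun i => (ρ a).eigenspace (ζ ^ 2 ^ (i : ℕ))
  have hEi : iSupIndep E := (Module.End.eigenspaces_iSupIndep (ρ a)).comp hζi
  have hEs := sum_finrank_le hEi
  have hdim : ∀ i j : ℕ, ζ ^ 2 ^ (i + j) = ζ ^ 2 ^ (i + j) → finrank K ((ρ a).eigenspace (ζ ^ 2 ^ i)) ≤
      finrank K ((ρ a).eigenspace (ζ ^ 2 ^ (i + j))) := by
    intro i j _
    have hinj : Function.Injective (ρ (s⁻¹ ^ j)) := rho_injective ρ _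
    have h1 : ((ρ a).eigenspace (ζ ^ 2 ^ i)).map (ρ (s⁻¹ ^ j)) ≤ (ρ a).eigenspace (ζ ^ 2 ^ (i + j)) := by
      rintro _ ⟨x, hx, rfl⟩
      rw [Module.End.mem_eigenspace_iff]
      have h2 := move ρ hs (Module.End.mem_eigenspace_iff.1 hx) j
      rw [h2, ← pow_mul, ← pow_add]
    exact (Submodule.equivMapOfInjective _ hinj _).finrank_eq.le.trans (Submodule.finrank_mono h1)
  have h16 : ∀ i : ℕ, ζ ^ 2 ^ (i + 4) = ζ ^ 2 ^ i := by
    intro i
    have h1 : (2 : ℕ) ^ (i + 4) = 2 ^ i * 15 + 2 ^ i := by rw [pow_add]; ring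
    rw [h1, pow_add, mul_comm (2 ^ i) 15, pow_mul, show (15 : ℕ) = 5 * 3 by norm_num, pow_mul, hζ5, one_pow, one_pow,
      one_mul]
  have heq : ∀ i : Fin 4, finrank K (E i) = finrank K (E 0) := by
    intro i
    apply le_antisymm
    · have h1 := hdim (i : ℕ) (4 - (i : ℕ)) rfl
      have h2 : (i : ℕ) + (4 - (i : ℕ)) = 0 + 4 := by omega
      rw [h2, h16 0] at h1
      exact h1
    · have h1 := hdim 0 (i : ℕ) rfl
      rw [zero_add] at h1
      exact h1
  have hpos : 1 ≤ finrank K (E 0) := by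
    rw [Nat.one_le_iff_ne_zero]
    intro h0
    rw [Submodule.finrank_eq_zero] at h0
    have h1 : v ∈ E 0 := by
      change v ∈ (ρ a).eigenspace (ζ ^ 2 ^ 0)
      rw [Module.End.mem_eigenspace_iff, hv, pow_zero, pow_one]
    rw [h0, Submodule.mem_bot] at h1
    exact hv0 h1
  have hone : ∀ i, finrank K (E i) = 1 := by
    intro i
    rw [heq i]
    have h1 : ∑ i : Fin 4, finrank K (E i) = 4 * finrank K (E 0) := by
      rw [Finset.sum_congr rfl (fun i _ => heq i)]
      simp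
    omega
  -- `b` acts trivially on them
  have hEb : ∀ i, E i ≤ (ρ b).eigenspace 1 := by
    intro i
    obtain ⟨x, hx0, hx⟩ := finrank_eq_one_iff'.1 (hone i)
    have hxE : ρ a (x : V) = ζ ^ 2 ^ (i : ℕ) • (x : V) := Module.End.mem_eigenspace_iff.1 x.2
    have hxne : (x : V) ≠ 0 := fun h => hx0 (Subtype.ext h)
    have hstab : ∀ c : L, c * a = a * c → ∃ μ : K, ρ c (x : V) = μ • (x : V) := by
      intro c hc
      have h1 : ρ c (x : V) ∈ E i := by
        change ρ c (x : V) ∈ (ρ a).eigenspace (ζ ^ 2 ^ (i : ℕ))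
        rw [Module.End.mem_eigenspace_iff, ← Module.End.mul_apply, ← map_mul, ← hc, map_mul, Module.End.mul_apply, hxE,
          map_smul]
      obtain ⟨μ, hμ⟩ := hx ⟨_, h1⟩
      exact ⟨μ, (congrArg Subtype.val hμ).symm⟩
    obtain ⟨μ, hμ⟩ := hstab b hab
    obtain ⟨ν, hν⟩ := hstab u hua
    have hμ5 : μ ^ 5 = 1 := by
      have h2 : ∀ k : ℕ, ρ (b ^ k) (x : V) = μ ^ k • (x : V) := by
        intro k
        induction k with
        | zero => simp only [_root_.pow_zero, _root_.map_one, _root_.Module.End.one_apply, _root_.one_smul]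
        | succ k ih =>
          rw [pow_succ, map_mul, Module.End.mul_apply, hμ, map_smul, ih, smul_smul, pow_succ, mul_comm]
      have h3 := h2 5
      rw [hb, map_one, Module.End.one_apply] at h3
      have h4 : (μ ^ 5 - 1) • (x : V) = 0 := by rw [sub_smul, ← h3, one_smul, sub_self]
      exact sub_eq_zero.1 ((smul_eq_zero.1 h4).resolve_right hxne)
    have hμ0 : μ ≠ 0 := by rintro rfl; norm_num at hμ5
    have hν0 : ν ≠ 0 := by
      rintro rfl
      rw [zero_smul] at hν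
      have h1 := inv_apply ρ u (x : V)
      rw [hν, map_zero] at h1
      exact hxne h1.symm
    have hbi : ρ b⁻¹ (x : V) = μ⁻¹ • (x : V) := by
      have h1 := inv_apply ρ b (x : V)
      rw [hμ, map_smul] at h1
      rw [eq_comm, inv_smul_eq_iff₀ hμ0]
      exact h1.symm
    have hμ2 : μ * μ = 1 := by
      have h1 : ρ (u * b) (x : V) = ρ (b⁻¹ * u) (x : V) := by rw [hub]
      rw [map_mul, map_mul, Module.End.mul_apply, Module.End.mul_apply, hμ, map_smul, hν, map_smul, hbi, smul_smul,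
        smul_smul] at h1
      have h2 : (μ * ν - ν * μ⁻¹) • (x : V) = 0 := by rw [sub_smul, h1, sub_self]
      have h3 := (smul_eq_zero.1 h2).resolve_right hxne
      have h4 : ν * (μ - μ⁻¹) = 0 := by rw [← h3]; ring
      have h5 := (mul_eq_zero.1 h4).resolve_left hν0
      rw [sub_eq_zero] at h5
      nth_rewrite 1 [h5]
      exact inv_mul_cancel₀ hμ0
    have hμ1 : μ = 1 := by
      have h1 : μ ^ 5 = μ := by
        calc μ ^ 5 = (μ * μ) * (μ * μ) * μ := by ring
          _ = μ := by rw [hμ2, one_mul, one_mul]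
      rw [← h1, hμ5]
    intro y hy
    obtain ⟨c, hc⟩ := hx ⟨y, hy⟩
    have h1 : c • (x : V) = y := congrArg Subtype.val hc
    rw [Module.End.mem_eigenspace_iff, ← h1, map_smul, hμ, hμ1]
    simp only [_root_.one_smul]
  -- the fixed space of `b` has dimension at least four
  have hv4 : LinearIndependent K (fun i : Fin 4 => ρ (s⁻¹ ^ (i : ℕ)) v) := by
    refine Module.End.eigenvectors_linearIndependent' (ρ a) (fun i : Fin 4 => ζ ^ 2 ^ (i : ℕ)) hζi _ ?_
    intro i
    refine ⟨?_, ?_⟩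
    · rw [Module.End.mem_eigenspace_iff]
      exact move ρ hs hv i
    · intro h
      exact hv0 (rho_injective ρ _ (by rw [h, map_zero]))
  have hw4 : LinearIndependent K (fun i : Fin 4 => ρ (s'⁻¹ ^ (i : ℕ)) w) := by
    refine Module.End.eigenvectors_linearIndependent' (ρ b) (fun i : Fin 4 => ξ ^ 2 ^ (i : ℕ)) hξi _ ?_
    intro i
    refine ⟨?_, ?_⟩
    · rw [Module.End.mem_eigenspace_iff]
      exact move ρ hs' hw i
    · intro h
      exact hw0 (rho_injective ρ _ (by rw [h, map_zero]))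
  have h1 : 4 ≤ finrank K ((ρ b).eigenspace 1) := by
    have h2 := finrank_span_eq_card hv4
    rw [Fintype.card_fin] at h2
    rw [← h2]
    apply Submodule.finrank_mono
    rw [Submodule.span_le]
    rintro _ ⟨i, rfl⟩
    apply hEb i
    change _ ∈ (ρ a).eigenspace (ζ ^ 2 ^ (i : ℕ))
    rw [Module.End.mem_eigenspace_iff]
    exact move ρ hs hv i
  have h2 : 4 ≤ finrank K ↥(⨆ μ, ⨆ (_ : μ ≠ 1), (ρ b).eigenspace μ) := by
    have h2 := finrank_span_eq_card hw4
    rw [Fintype.card_fin] at h2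
    rw [← h2]
    apply Submodule.finrank_mono
    rw [Submodule.span_le]
    rintro _ ⟨i, rfl⟩
    refine Submodule.mem_iSup_of_mem (ξ ^ 2 ^ (i : ℕ)) (Submodule.mem_iSup_of_mem (hξn i) ?_)
    rw [Module.End.mem_eigenspace_iff]
    exact move ρ hs' hw i
  have h3 : Disjoint ((ρ b).eigenspace 1) (⨆ μ, ⨆ (_ : μ ≠ 1), (ρ b).eigenspace μ) :=
    Module.End.eigenspaces_iSupIndep (ρ b) 1
  have h5 : finrank K ↥((ρ b).eigenspace 1 ⊔ ⨆ μ, ⨆ (_ : μ ≠ 1), (ρ b).eigenspace μ) =
      finrank K ((ρ b).eigenspace 1) + finrank K ↥(⨆ μ, ⨆ (_ : μ ≠ 1), (ρ b).eigenspace μ) := by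
    have h6 := Submodule.finrank_sup_add_finrank_inf_eq ((ρ b).eigenspace 1) (⨆ μ, ⨆ (_ : μ ≠ 1), (ρ b).eigenspace μ)
    rw [h3.eq_bot, finrank_bot, add_zero] at h6
    exact h6
  have h6 := Submodule.finrank_le ((ρ b).eigenspace 1 ⊔ ⨆ μ, ⨆ (_ : μ ≠ 1), (ρ b).eigenspace μ)
  omega

end Lin

/-! ### the elements of `A_10` -/

def pa : Equiv.Perm (Fin 10) where
  toFun := ![1, 2, 3, 4, 0, 5, 6, 7, 8, 9]
  invFun := ![4, 0, 1, 2, 3, 5, 6, 7, 8, 9]
  left_inv := by decide
  right_inv := by decide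

def pb : Equiv.Perm (Fin 10) where
  toFun := ![0, 1, 2, 3, 4, 6, 7, 8, 9, 5]
  invFun := ![0, 1, 2, 3, 4, 9, 5, 6, 7, 8]
  left_inv := by decide
  right_inv := by decide

def ps : Equiv.Perm (Fin 10) where
  toFun := ![0, 2, 4, 1, 3, 6, 5, 7, 8, 9]
  invFun := ![0, 3, 1, 4, 2, 6, 5, 7, 8, 9]
  left_inv := by decide
  right_inv := by decide

def ps' : Equiv.Perm (Fin 10) where
  toFun := ![1, 0, 2, 3, 4, 5, 7, 9, 6, 8]
  invFun := ![1, 0, 2, 3, 4, 5, 8, 6, 9, 7]
  left_inv := by decide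
  right_inv := by decide

def pu : Equiv.Perm (Fin 10) where
  toFun := ![0, 1, 2, 3, 4, 5, 9, 8, 7, 6]
  invFun := ![0, 1, 2, 3, 4, 5, 9, 8, 7, 6]
  left_inv := by decide
  right_inv := by decide

theorem rels : pa ^ 5 = 1 ∧ pb ^ 5 = 1 ∧ pb * pa = pa * pb ∧ ps * pa = pa ^ 2 * ps ∧ ps' * pb = pb ^ 2 * ps' ∧
    pu * pa = pa * pu ∧ pu * pb = pb⁻¹ * pu ∧ pa ≠ 1 ∧ pb ≠ 1 := by decide +kernel

theorem signs : Equiv.Perm.sign pa = 1 ∧ Equiv.Perm.sign pb = 1 ∧ Equiv.Perm.sign ps = 1 ∧ Equiv.Perm.sign ps' = 1 ∧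
    Equiv.Perm.sign pu = 1 := by decide +kernel

/-- the elements in `A_10` -/
theorem exists_elts : ∃ a b s s' u : alternatingGroup (Fin 10), a ^ 5 = 1 ∧ b ^ 5 = 1 ∧ b * a = a * b ∧
    s * a = a ^ 2 * s ∧ s' * b = b ^ 2 * s' ∧ u * a = a * u ∧ u * b = b⁻¹ * u ∧ a ≠ 1 ∧ b ≠ 1 := by
  obtain ⟨s1, s2, s3, s4, s5⟩ := signs
  obtain ⟨r1, r2, r3, r4, r5, r6, r7, r8, r9⟩ := rels
  exact ⟨⟨pa, Equiv.Perm.mem_alternatingGroup.2 s1⟩, ⟨pb, Equiv.Perm.mem_alternatingGroup.2 s2⟩,
    ⟨ps, Equiv.Perm.mem_alternatingGroup.2 s3⟩, ⟨ps', Equiv.Perm.mem_alternatingGroup.2 s4⟩,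
    ⟨pu, Equiv.Perm.mem_alternatingGroup.2 s5⟩, Subtype.ext r1, Subtype.ext r2, Subtype.ext r3, Subtype.ext r4,
    Subtype.ext r5, Subtype.ext r6, Subtype.ext r7, fun h => r8 (congrArg Subtype.val h),
    fun h => r9 (congrArg Subtype.val h)⟩

/-- **Five by five.** -/
theorem bd_of_rels {F : Type u} [Field F] (h5 : (5 : F) ≠ 0) {T : Type v} [Group T] {a b s s' u : T}
    (ha : a ^ 5 = 1) (hb : b ^ 5 = 1) (hab : b * a = a * b)
    (hs : s * a = a ^ 2 * s) (hs' : s' * b = b ^ 2 * s') (hua : u * a = a * u) (hub : u * b = b⁻¹ * u)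
    (ha1 : a ≠ 1) (hb1 : b ≠ 1) : Bd F 5 8 T := by
  rintro n ⟨L, _, π, ρ, hπ, hc, hcop, hρ⟩
  obtain ⟨A, hA, hA5⟩ := exists_lift hcop hπ (e := a) (k := 1) (by rw [pow_one]; exact ha)
  obtain ⟨B, hB, hB5⟩ := exists_lift hcop hπ (e := b) (k := 1) (by rw [pow_one]; exact hb)
  obtain ⟨S, hS⟩ := hπ s
  obtain ⟨S', hS'⟩ := hπ s'
  obtain ⟨U, hU⟩ := hπ u
  have hne : ∀ x : L, π x ≠ 1 → repK ρ x ≠ 1 := by
    intro x hx h1
    have h2 : x ∈ ρ.ker := eq_one_of_repK h1
    exact hx (hρ h2)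
  have h5K : (5 : AlgebraicClosure F) ≠ 0 := by
    intro h0
    apply h5
    apply (algebraMap F (AlgebraicClosure F)).injective
    rw [map_ofNat, map_zero, h0]
  have hconj : ∀ x y z : L, π (x * y * x⁻¹) = π z → y ^ 5 ^ 1 = 1 → z ^ 5 ^ 1 = 1 → x * y = z * x := by
    intro x y z h1 h2 h3
    have h4 : x * y * x⁻¹ = z := lift_unique hc hcop h1 (k := 1) (l := 1) (by rw [conj_pow, h2]; group) h3
    rw [← h4, inv_mul_cancel_right]
  have h8 := lin (repK ρ) h5K (a := A) (b := B) (s := S) (s' := S') (u := U) (by rwa [pow_one] at hA5)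
    (by rwa [pow_one] at hB5)
    (hconj B A A (by rw [map_mul, map_mul, map_inv, hA, hB, hab, mul_inv_cancel_right]) hA5 hA5)
    (hconj S A (A ^ 2) (by rw [map_mul, map_mul, map_inv, map_pow, hA, hS, hs, mul_inv_cancel_right]) hA5
      (by rw [← pow_mul, mul_comm, pow_mul, hA5, one_pow]))
    (hconj S' B (B ^ 2) (by rw [map_mul, map_mul, map_inv, map_pow, hB, hS', hs', mul_inv_cancel_right]) hB5
      (by rw [← pow_mul, mul_comm, pow_mul, hB5, one_pow]))
    (hconj U A A (by rw [map_mul, map_mul, map_inv, hA, hU, hua, mul_inv_cancel_right]) hA5 hA5)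
    (hconj U B B⁻¹ (by rw [map_mul, map_mul, map_inv, map_inv, hB, hU, hub, mul_inv_cancel_right]) hB5
      (by rw [inv_pow, hB5, inv_one]))
    (hne A (by rwa [hA])) (hne B (by rwa [hB]))
  rwa [Module.finrank_fintype_fun_eq_card, Fintype.card_fin] at h8

/-- **`A_m`, `m ≥ 10`, in characteristic `≠ 5`: degree at least `8`.** -/
theorem bd_alt_ten {F : Type u} [Field F] (h5 : (5 : F) ≠ 0) {m : ℕ} (hm : 10 ≤ m) :
    Bd F 5 8 (alternatingGroup (Fin m)) := by
  obtain ⟨a, b, s, s', u, r1, r2, r3, r4, r5, r6, r7, r8, r9⟩ := exists_elts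
  obtain ⟨e⟩ : Nonempty (Fin 10 ↪ Fin m) := by
    apply Function.Embedding.nonempty_of_card_le
    rw [Fintype.card_fin, Fintype.card_fin]
    exact hm
  obtain ⟨f, hf⟩ := exists_alt_hom e
  exact (bd_of_rels h5 r1 r2 r3 r4 r5 r6 r7 r8 r9).of_sub f hf

end Cfsg.Agent.H48.AltTen
end

-- part: H48/PrimeCenter
section
/-!
# Perfect groups of matrices of prime degree, simple modulo scalars: the centre is trivial as soon as the square of the
degree does not divide the order of the simple group (helper48)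
-/

set_option autoImplicit false

namespace Cfsg.Agent.H48.PrimeCenter

open Cfsg Cfsg.Geo Matrix
open scoped MatrixGroups

variable {F : Type*} [Field F] {n : ℕ} {P : Subgroup (GL (Fin n) F)}

theorem scalars_le_center (P : Subgroup (GL (Fin n) F)) :
    (scalars (Fin n) F).subgroupOf P ≤ Subgroup.center P := by
  intro z hz
  rw [Subgroup.mem_subgroupOf, mem_scalars_iff] at hz
  obtain ⟨c, hcz⟩ := hz
  rw [Subgroup.mem_center_iff]
  intro g
  apply Subtype.ext
  apply Units.ext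
  rw [Subgroup.coe_mul, Subgroup.coe_mul, Units.val_mul, Units.val_mul, hcz]
  rw [Matrix.mul_smul, Matrix.smul_mul, mul_one, one_mul]

theorem pow_eq_one (hperf : ⁅P, P⁆ = P) {z : P} (hz : z ∈ (scalars (Fin n) F).subgroupOf P) : z ^ n = 1 := by
  have hperf' : commutator P = ⊤ := H911.Five.commutator_top hperf
  rw [Subgroup.mem_subgroupOf, mem_scalars_iff] at hz
  obtain ⟨c, hcz⟩ := hz
  have hdet : Matrix.GeneralLinearGroup.det (z : GL (Fin n) F) = 1 := by
    have h2 : (Matrix.GeneralLinearGroup.det.comp P.subtype).ker = ⊤ := by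
      rw [eq_top_iff, ← hperf']
      exact Abelianization.commutator_subset_ker _
    have : z ∈ (Matrix.GeneralLinearGroup.det.comp P.subtype).ker := by rw [h2]; trivial
    exact this
  have hc5 : (c : F) ^ n = 1 := by
    have h2 : (((z : GL (Fin n) F) : Matrix (Fin n) (Fin n) F)).det = 1 := by
      rw [← Matrix.GeneralLinearGroup.val_det_apply, hdet, Units.val_one]
    rw [hcz, Matrix.det_smul, Matrix.det_one, Fintype.card_fin, mul_one] at h2
    exact h2
  apply Subtype.ext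
  apply Units.ext
  rw [Subgroup.coe_pow, Units.val_pow_eq_pow_val, hcz, smul_pow, hc5, one_pow, one_smul]
  rfl

seal _root_.Finset.sum _root_.dotProduct in
/-- In prime degree `n` the centre is trivial as soon as `n ^ 2` does not divide the order of the simple group. -/
theorem center_bot [Finite F] (hn : n.Prime) (hperf : ⁅P, P⁆ = P)
    (h25 : ¬ n ^ 2 ∣ Nat.card (P ⧸ (scalars (Fin n) F).subgroupOf P)) :
    (scalars (Fin n) F).subgroupOf P = ⊥ := by
  set Z := (scalars (Fin n) F).subgroupOf P with hZ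
  have hperf' : commutator P = ⊤ := H911.Five.commutator_top hperf
  have hzc : Z ≤ Subgroup.center P := scalars_le_center P
  have hperfQ : commutator (P ⧸ Z) = ⊤ := by
    rw [commutator_def, ← Subgroup.map_top_of_surjective (QuotientGroup.mk' Z) (QuotientGroup.mk'_surjective Z),
      ← Subgroup.map_commutator, ← commutator_def, hperf']
  have hprime : Fact (Nat.Prime n) := ⟨hn⟩
  have hcyc : ∀ S : Sylow n (P ⧸ Z), IsCyclic S := by
    intro S
    have h1 := S.card_eq_multiplicity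
    have h2 : (Nat.card (P ⧸ Z)).factorization n ≤ 1 := by
      by_contra hcon
      push Not at hcon
      apply h25
      exact (pow_dvd_pow n hcon).trans (Nat.ordProj_dvd _ _)
    have h4 : Nat.card S ∣ n := by
      rw [h1]
      exact (pow_dvd_pow n h2).trans (by rw [pow_one])
    rcases (Nat.dvd_prime hn).1 h4 with h5 | h5
    · have : Subsingleton S := by
        rw [Nat.card_eq_one_iff_unique] at h5
        exact h5.1
      infer_instance
    · exact isCyclic_of_prime_card (p := n) h5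
  have hker : (QuotientGroup.mk' Z).ker = Z := QuotientGroup.ker_mk' Z
  have h102 := Cfsg.Agent.S0102.result (G := P ⧸ Z) (H := P) hperfQ (p := n) hcyc (QuotientGroup.mk' Z)
    (QuotientGroup.mk'_surjective Z) (by rw [hker]; exact hzc) hperf'
  rw [hker] at h102
  rw [Subgroup.eq_bot_iff_forall]
  intro z hz
  have hz5 : z ^ n = 1 := pow_eq_one hperf hz
  by_contra hne
  apply h102
  have hord : orderOf (⟨z, hz⟩ : Z) = n := by
    apply orderOf_eq_prime
    · exact Subtype.ext hz5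
    · intro h; exact hne (congrArg Subtype.val h)
  exact (dvd_of_eq hord.symm).trans (orderOf_dvd_natCard _)

/-- The group is isomorphic to its simple quotient when the latter's order is not divisible by `n ^ 2`. -/
noncomputable def coreEquiv [Finite F] (hn : n.Prime) (hperf : ⁅P, P⁆ = P)
    (h25 : ¬ n ^ 2 ∣ Nat.card (P ⧸ (scalars (Fin n) F).subgroupOf P)) :
    P ≃* (P ⧸ (scalars (Fin n) F).subgroupOf P) :=
  QuotientGroup.quotientBot.symm.trans (QuotientGroup.quotientMulEquivOfEq (center_bot hn hperf h25).symm)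

end Cfsg.Agent.H48.PrimeCenter
end

-- part: H48/SevenA
section
/-!
# Dimension seven: alternating and classical groups of another characteristic (helper48)

`Core P`, `P ≤ GL_7(F)`, `char F = p`, `T = P / scalars`:

* `seven_alt` : `T = A_m` : `SD P` (or `m = 8`, `p = 2`);
* `seven_cl` : `T` classical in characteristic `r ≠ p` : `SD P`, or `U33 p P`, or `T` of Lie type in characteristic `p`, or
  `T = Sp_6(2)`, `O_8^+(2)`;
* `seven_known₀` : all known simple groups.
-/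

set_option autoImplicit false
set_option linter.unusedSectionVars false

universe u v

namespace Cfsg.Agent.H48.Seven

open Cfsg Cfsg.Geo Matrix Cfsg.Agent.H915.LD Cfsg.Agent.H912.Bd Cfsg.Agent.H912.Five

/-- The conclusion for `T = U_3(3)`. -/
def U33 {F : Type u} [Field F] (p : ℕ) (P : Subgroup (GL (Fin 7) F)) : Prop :=
  IsU 3 3 (Soc P) ∧ p ≠ 3 ∧ p ≠ 2 ∧ (p % 4 = 1 → Fr P p) ∧ (p % 4 = 3 → Cj P p)

variable {F : Type u} [Field F] [Finite F] {P : Subgroup (GL (Fin 7) F)}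

/-- the representation of a group isomorphic to `P` -/
theorem exists_rep {T : Type v} [Group T] (hC : Core P) (f : P ≃* T) : ∃ ρ : T →* GL (Fin 7) F,
    ActsAbsolutelyIrreducibly (matrixSet ρ.range) ∧ ∀ g : P, ρ (f g) = (g : GL (Fin 7) F) := by
  refine ⟨P.subtype.comp f.symm.toMonoidHom, ?_, fun g => ?_⟩
  · have h1 : (P.subtype.comp f.symm.toMonoidHom).range = P := by
      rw [MonoidHom.range_comp, MonoidHom.range_eq_top.2 f.symm.surjective, ← MonoidHom.range_eq_map,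
        Subgroup.range_subtype]
    rw [h1]
    exact hC.absIrred
  · change ((f.symm (f g) : P) : GL (Fin 7) F) = g
    rw [f.symm_apply_apply]

theorem sd_of_rep {T : Type v} [Group T] {f : P ≃* T} {ρ : T →* GL (Fin 7) F}
    (hρ : ∀ g : P, ρ (f g) = (g : GL (Fin 7) F))
    (h : ∀ g, ((ρ g⁻¹ : GL (Fin 7) F) : Matrix (Fin 7) (Fin 7) F).trace =
      ((ρ g : GL (Fin 7) F) : Matrix (Fin 7) (Fin 7) F).trace) : SD P := by
  intro g hg
  have h1 := h (f ⟨g, hg⟩)
  rw [← map_inv, hρ, hρ] at h1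
  exact h1

/-- the centre is trivial if `49 ∤ |T|` -/
theorem equiv_of_card {T : Type v} [Group T] (hC : Core P) (e : Soc P ≃* T) (h : ¬ 7 ^ 2 ∣ Nat.card T) :
    Nonempty (P ≃* T) :=
  ⟨(PrimeCenter.coreEquiv (by norm_num) hC.perfect (by rwa [Nat.card_congr e.toEquiv])).trans e⟩

variable (p : ℕ) [hp : Fact p.Prime] [CharP F p]

theorem seven_alt (hC : Core P) {m : ℕ} (hm : 5 ≤ m) (e : Soc P ≃* alternatingGroup (Fin m)) :
    SD P ∨ (m = 8 ∧ p = 2) := by
  have h9 : m ≤ 9 ∧ (m = 9 → p ≠ 2) := by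
    by_cases h3 : p = 3
    · refine ⟨?_, fun _ => by omega⟩
      by_contra hcon
      have h5F : (5 : F) ≠ 0 := by
        intro h0
        have h1 : ((5 : ℕ) : F) = 0 := by exact_mod_cast h0
        rw [CharP.cast_eq_zero_iff F p] at h1
        have := (Nat.prime_dvd_prime_iff_eq hp.out (by norm_num)).1 h1
        omega
      have h1 := AltTen.bd_alt_ten (F := F) h5F (m := m) (by omega) 7
        (PR.of_perfect P hC.perfect (by norm_num) (by norm_num) e)
      omega
    · have h3F : (3 : F) ≠ 0 := by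
        intro h0
        have h1 : ((3 : ℕ) : F) = 0 := by exact_mod_cast h0
        rw [CharP.cast_eq_zero_iff F p] at h1
        exact h3 ((Nat.prime_dvd_prime_iff_eq hp.out (by norm_num)).1 h1)
      have h1 : m < 9 := by
        by_contra hcon
        have h1 := bd_alt_three (F := F) h3F (n := m) (by omega) 7
          (PR.of_perfect P hC.perfect (by norm_num) (by norm_num) e)
        omega
      exact ⟨by omega, by omega⟩
  have hcard : ¬ 7 ^ 2 ∣ Nat.card (alternatingGroup (Fin m)) := by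
    obtain ⟨h1, -⟩ := h9
    interval_cases m <;> (rw [nat_card_alternatingGroup, Nat.card_eq_fintype_card, Fintype.card_fin]; decide)
  obtain ⟨f⟩ := equiv_of_card hC e hcard
  obtain ⟨ρ, hρ, hρf⟩ := exists_rep hC f
  obtain ⟨h1, h2⟩ := h9
  have h2F : p ≠ 2 → (2 : F) ≠ 0 := by
    intro h2 h0
    have h1 : ((2 : ℕ) : F) = 0 := by exact_mod_cast h0
    rw [CharP.cast_eq_zero_iff F p] at h1
    exact h2 ((Nat.prime_dvd_prime_iff_eq hp.out (by norm_num)).1 h1)
  have h567 : m = 5 ∨ m = 6 → SD P := by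
    intro h
    apply SD.of_reg p
    intro g hg _
    have h3 : IsConj (f ⟨g, hg⟩) (f ⟨g, hg⟩)⁻¹ := H911.AltReal.alt_real (by omega) _ (by omega)
    rw [← map_inv] at h3
    have h4 := f.symm.toMonoidHom.map_isConj h3
    have h5 : IsConj (⟨g, hg⟩ : P) (⟨g, hg⟩ : P)⁻¹ := by simpa only [_root_.isConj_iff, _root_.Subtype.exists, _root_.MulMemClass.mk_mul_mk, _root_.MulEquiv.toMonoidHom_eq_coe, _root_.MonoidHom.coe_coe, _root_.MulEquiv.symm_apply_apply, _root_.map_inv] using h4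
    exact (tr_of_isConj h5).symm
  have h8 : m = 5 ∨ m = 6 ∨ m = 7 ∨ m = 8 ∨ m = 9 := by omega
  rcases h8 with rfl | rfl | rfl | rfl | rfl
  · exact Or.inl (h567 (Or.inl rfl))
  · exact Or.inl (h567 (Or.inr rfl))
  · exact (H637.SevenA7.seven_A7 ρ hρ).elim
  · by_cases hp2 : p = 2
    · exact Or.inr ⟨rfl, hp2⟩
    · exact Or.inl (sd_of_rep hρf (H637.SevenA8.seven_A8 ρ hρ (h2F hp2)))
  · exact Or.inl (sd_of_rep hρf (H637.SevenA8.seven_A9 ρ hρ (h2F (h2 rfl))))

omit [Finite F] in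
theorem cast_ne {r : ℕ} (hr : r.Prime) (hrp : r ≠ p) : (r : F) ≠ 0 := by
  intro h0
  rw [CharP.cast_eq_zero_iff F p] at h0
  exact hrp ((Nat.prime_dvd_prime_iff_eq hp.out hr).1 h0).symm

/-- In degree `7` the kernel has order prime to the characteristic of the group. -/
theorem pr_seven (hC : Core P) {T : Type v} [Group T] (e : Soc P ≃* T) {r : ℕ}
    (hr : r.Prime) (h : IsLieTypeChar r T) : PR F 7 r T := by
  by_cases h7 : r = 7
  · exact PR.of_noR (noR_of_five_le hr (by omega) h) P hC.perfect e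
  · refine PR.of_perfect P hC.perfect hr ?_ e
    intro hd
    exact h7 ((Nat.prime_dvd_prime_iff_eq hr (by norm_num)).1 hd)

/-- `PSL_2(q)`, `q ≥ 4`, any characteristic `r ≠ p` -/
theorem seven_l2 (hC : Core P) {K : Type} [Field K] [Fintype K] (h4 : 4 ≤ Fintype.card K)
    (hpK : ¬ p ∣ Fintype.card K) (e : Soc P ≃* ProjectiveSpecialLinearGroup (Fin 2) K) : SD P := by
  by_cases h9 : Fintype.card K = 9
  · obtain ⟨e'⟩ := S0254.result h9
    rcases seven_alt p hC (by norm_num) (e.trans e') with h | ⟨h, -⟩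
    · exact h
    · omega
  by_cases h4' : Fintype.card K = 4
  · obtain ⟨e'⟩ := S0252.result h4'
    rcases seven_alt p hC (by norm_num) (e.trans e') with h | ⟨h, -⟩
    · exact h
    · omega
  rcases H464.Sl2.l2_stage1_le p hC (by omega) h9 hpK e (by rw [Fintype.card_fin]; norm_num) with h | ⟨h, -⟩
  · exact h
  · rw [Fintype.card_fin] at h
    omega

theorem not_dvd_card {K : Type} [Field K] [Fintype K] {r : ℕ} (hr : r.Prime) [CharP K r] (hrp : r ≠ p) :
    ¬ p ∣ Fintype.card K := by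
  have : Fact r.Prime := ⟨hr⟩
  obtain ⟨k, -, hk⟩ := FiniteField.card K r
  rw [hk]
  intro h
  exact hrp ((Nat.prime_dvd_prime_iff_eq hp.out hr).1 (hp.out.dvd_of_dvd_pow h)).symm

theorem charP_of_card {K : Type} [Field K] [Fintype K] {r k : ℕ} (hr : r.Prime) (hk : k ≠ 0)
    (h : Fintype.card K = r ^ k) : CharP K r := by
  obtain ⟨q, hq⟩ := CharP.exists K
  have hqp : Fact q.Prime := ⟨CharP.char_is_prime K q⟩
  have h1 : q ∣ Fintype.card K := char_dvd_card K
  rw [h] at h1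
  have := eq_of_dvd_prime_pow hqp.out hr h1
  rwa [← this]

/-- `PSp_4(3)` -/
theorem seven_s43 (hC : Core P) {K : Type} [Field K] [Fintype K] (hK : Fintype.card K = 3) (h3 : p ≠ 3)
    (e : Soc P ≃* Cfsg.PSp 2 K) : False := by
  have hcard : ¬ 7 ^ 2 ∣ Nat.card (Cfsg.PSp 2 K) := by
    rw [Cfsg.Agent.SmallSimple.PSLFacts.card_psp_two_three hK]
    norm_num
  obtain ⟨f⟩ := equiv_of_card hC e hcard
  obtain ⟨ρ, hρ, hρf⟩ := exists_rep hC f
  exact H659.SevenU42.seven_U42 hK (by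
    have := cast_ne (F := F) p Nat.prime_three h3.symm
    exact_mod_cast this) ρ hρ

/-- `PSU_3(3)` -/
theorem seven_u33 (hC : Core P) {K : Type} [Field K] [Fintype K] (hK : Fintype.card K = 9) (h3 : p ≠ 3)
    (e : Soc P ≃* Cfsg.PSU 3 K 3) : SD P ∨ U33 p P := by
  have hcard : ¬ 7 ^ 2 ∣ Nat.card (Cfsg.PSU 3 K 3) := by
    have h1 := S0280.result (F := K) (q := 3) (by rw [hK]; norm_num) 3 (by norm_num)
    simp only [Finset.prod_range_succ, Finset.prod_range_zero] at h1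
    norm_num only [Nat.even_iff, _root_.one_mul, _root_.ite_true, _root_.ite_false] at h1
    have h2 : Nat.card (Cfsg.PSU 3 K 3) = 6048 := by omega
    rw [h2]
    norm_num
  obtain ⟨f⟩ := equiv_of_card hC e hcard
  obtain ⟨ρ, hρ, hρf⟩ := exists_rep hC f
  rcases H659.SevenU33.seven_U33 p h3 hK ρ hρ with h | ⟨h2, h, h'⟩
  · exact Or.inl (sd_of_rep hρf h)
  · refine Or.inr ⟨⟨K, inferInstance, inferInstance, by rw [hK]; norm_num, ⟨e⟩⟩, h3, h2, fun h4 g hg => ?_, fun h4 g hg => ?_⟩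
    · have h5 := h h4 (f ⟨g, hg⟩)
      rw [hρf] at h5
      exact h5
    · have h5 := h' h4 (f ⟨g, hg⟩)
      rw [← map_inv, hρf, hρf] at h5
      exact h5.symm

/-- **Classical groups of another characteristic.** -/
theorem seven_cl (hC : Core P) {r : ℕ} (hr : r.Prime) (hrp : r ≠ p)
    (hc : Cfsg.IsPSLChar r (Soc P) ∨ Cfsg.IsPSpChar r (Soc P) ∨ Cfsg.IsPSUChar r (Soc P) ∨
      Cfsg.IsPOmegaOddChar r (Soc P) ∨ Cfsg.IsPOmegaPlusChar r (Soc P) ∨ Cfsg.IsPOmegaMinusChar r (Soc P))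
    (h : PR F 7 r (Soc P)) :
    SD P ∨ U33 p P ∨ IsLieTypeChar p (Soc P) ∨ (p ≠ 2 ∧ (IsS 3 2 (Soc P) ∨ IsOP 4 2 (Soc P))) := by
  have hl2 : ∀ (K : Type) (_ : Field K) (_ : Fintype K), 4 ≤ Fintype.card K →
      Nonempty (Soc P ≃* ProjectiveSpecialLinearGroup (Fin 2) K) →
      SD P ∨ U33 p P ∨ IsLieTypeChar p (Soc P) ∨ (p ≠ 2 ∧ (IsS 3 2 (Soc P) ∨ IsOP 4 2 (Soc P))) := by
    rintro K _ _ h4 ⟨e⟩
    obtain ⟨s, hs, hKs⟩ := H912.Known.exists_char K
    by_cases hsp : s = p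
    · subst hsp
      exact Or.inr (Or.inr (Or.inl (Or.inl ⟨K, inferInstance, inferInstance, hKs, 2, le_refl _, fun _ => h4, ⟨e⟩⟩)))
    · exact Or.inl (seven_l2 p hC h4 (not_dvd_card p hs hsp) e)
  have h1 := cross_classical hr (cast_ne p hr hrp) h (by norm_num) hc
  unfold ClSmall at h1
  rcases h1 with ⟨q, hq4, hq, h⟩ | ⟨_, h⟩ | ⟨h8, _⟩ | ⟨h8, h⟩ | ⟨h8, h⟩ | ⟨h8, _⟩ | ⟨_, h⟩ | ⟨h8, _⟩ | ⟨_, h⟩ |
    ⟨h8, _⟩ | ⟨h8, h⟩ | ⟨h8, h⟩
  · obtain ⟨K, iF, iT, hK, e⟩ := h
    exact hl2 K iF iT (by omega) e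
  · obtain ⟨K, iF, iT, hK, ⟨e⟩⟩ := h
    have : Fact (Nat.Prime 7) := ⟨by norm_num⟩
    obtain ⟨e'⟩ := S0255.result (F := ZMod 7) (K := K) (by simp) hK
    exact hl2 (ZMod 7) inferInstance inferInstance (by simp) ⟨e.trans e'.symm⟩
  · omega
  · -- `L_4(2) = A_8`
    obtain ⟨K, iF, iT, hK, ⟨e⟩⟩ := h
    obtain ⟨e'⟩ := S0256.result hK
    rcases seven_alt p hC (by norm_num) (e.trans e') with h | ⟨-, h2⟩
    · exact Or.inl h
    · subst h2
      exact Or.inr (Or.inr (Or.inl (Or.inl ⟨K, inferInstance, inferInstance,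
        charP_of_card Nat.prime_two one_ne_zero (by rw [hK]; norm_num), 4, by norm_num, fun h => by omega, ⟨e⟩⟩)))
  · -- `U_3(3)`
    obtain ⟨K, iF, iT, hK, ⟨e⟩⟩ := h
    have hK9 : Fintype.card K = 9 := by rw [hK]; norm_num
    by_cases h3 : p = 3
    · subst h3
      right; right; left
      exact Or.inr (Or.inr (Or.inl ⟨K, iF, iT, charP_of_card Nat.prime_three two_ne_zero hK, 3, 3, hK, le_refl _, by norm_num,
        ⟨e⟩⟩))
    · rcases seven_u33 p hC hK9 h3 e with h | h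
      · exact Or.inl h
      · exact Or.inr (Or.inl h)
  · omega
  · -- `U_4(2)`
    obtain ⟨K, iF, iT, hK, ⟨e⟩⟩ := h
    obtain ⟨e'⟩ := S0822.result (F := K) (K := ZMod 3) (by rw [hK]; norm_num) (by simp)
    by_cases h3 : p = 3
    · subst h3
      right; right; left
      exact Or.inr (Or.inl ⟨ZMod 3, inferInstance, inferInstance, inferInstance, 2, le_refl _, fun _ => by simp,
          ⟨e.trans e'⟩⟩)
    · exact (seven_s43 p hC (by simp) h3 (e.trans e')).elim
  · omega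
  · -- `PSp_4(3)`
    obtain ⟨K, iF, iT, hK, ⟨e⟩⟩ := h
    by_cases h3 : p = 3
    · subst h3
      right; right; left
      exact Or.inr (Or.inl ⟨K, iF, iT, charP_of_card Nat.prime_three one_ne_zero (by rw [hK]; norm_num), 2, le_refl _,
        fun _ => by omega, ⟨e⟩⟩)
    · exact (seven_s43 p hC hK h3 e).elim
  · omega
  · -- `Sp_6(2)`
    by_cases h2 : p = 2
    · subst h2
      obtain ⟨K, iF, iT, hK, ⟨e⟩⟩ := h
      right; right; left
      exact Or.inr (Or.inl ⟨K, iF, iT, charP_of_card Nat.prime_two one_ne_zero (by rw [hK]; norm_num), 3, by norm_num,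
        fun _ => by omega, ⟨e⟩⟩)
    · exact Or.inr (Or.inr (Or.inr ⟨h2, Or.inl h⟩))
  · by_cases h2 : p = 2
    · subst h2
      obtain ⟨K, iF, iT, hK, ⟨e⟩⟩ := h
      right; right; left
      exact Or.inr (Or.inr (Or.inr (Or.inr (Or.inl ⟨K, iF, iT, charP_of_card Nat.prime_two one_ne_zero (by rw [hK]; norm_num),
        4, by norm_num, ⟨e⟩⟩))))
    · exact Or.inr (Or.inr (Or.inr ⟨h2, Or.inr h⟩))

/-- **All known simple groups.** -/
theorem seven_known₀ (hC : Core P) (hk : IsKnownSimple' (Soc P)) :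
    SD P ∨ U33 p P ∨ IsLieTypeChar p (Soc P) ∨ (p ≠ 2 ∧ (IsS 3 2 (Soc P) ∨ IsOP 4 2 (Soc P))) ∨
      (∃ r, r.Prime ∧ r ≠ p ∧ ExcL r (Soc P) ∧ PR F 7 r (Soc P)) ∨ Lie.IsoTits (Soc P) ∨ IsSporadicGroup (Soc P) := by
  rcases H912.Known.known_split hk (H912.Known.not_primeCyclic hC.nonabelian) with h | ⟨r, hr, h⟩ | h | h
  · obtain ⟨m, hm, ⟨e⟩⟩ := h
    rcases seven_alt p hC hm e with h | ⟨rfl, rfl⟩
    · exact Or.inl h
    · right; right; left
      obtain ⟨e'⟩ := S0256.result (F := ZMod 2) (by simp)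
      exact Or.inl ⟨ZMod 2, inferInstance, inferInstance, inferInstance, 4, by norm_num, fun h => by omega,
        ⟨e.trans e'.symm⟩⟩
  · by_cases hrp : r = p
    · subst hrp
      exact Or.inr (Or.inr (Or.inl h))
    · have hPR := pr_seven hC (MulEquiv.refl _) hr h
      rcases classical_or_exc h with h1 | h1
      · rcases seven_cl p hC hr hrp h1 hPR with h | h | h | h
        · exact Or.inl h
        · exact Or.inr (Or.inl h)
        · exact Or.inr (Or.inr (Or.inl h))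
        · exact Or.inr (Or.inr (Or.inr (Or.inl h)))
      · exact Or.inr (Or.inr (Or.inr (Or.inr (Or.inl ⟨r, hr, hrp, h1, hPR⟩))))
  · exact Or.inr (Or.inr (Or.inr (Or.inr (Or.inr (Or.inl h)))))
  · exact Or.inr (Or.inr (Or.inr (Or.inr (Or.inr (Or.inr h)))))

end Cfsg.Agent.H48.Seven
end

-- part: H48/SevenB
section
/-!
# Dimension seven: assembly (helper48)

`Rest p P` : the inputs on the remaining groups; `seven_lin`, `seven_uni` : the linear and the unitary row.
-/

set_option autoImplicit false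
set_option linter.unusedSectionVars false

universe u v

namespace Cfsg.Agent.H48.Seven

open Cfsg Cfsg.Geo Matrix Cfsg.Agent.H915.LD Cfsg.Agent.H912.Bd Cfsg.Agent.H912.Five

variable {F : Type u} [Field F]

/-- The inputs on the remaining groups. -/
structure Rest (p : ℕ) (P : Subgroup (GL (Fin 7) F)) : Prop where
  s62 : p ≠ 2 → IsS 3 2 (Soc P) ∨ IsOP 4 2 (Soc P) → SD P
  exc : ∀ r, r.Prime → r ≠ p → ExcL r (Soc P) → PR F 7 r (Soc P) → SD P
  tits : Lie.IsoTits (Soc P) → SD P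
  spor : IsSporadicGroup (Soc P) → SD P
  psl : ∀ (K : Type) (_ : Field K) (_ : Fintype K) (_ : CharP K p) (l : ℕ), l = 2 ∨ l = 3 →
    Nonempty (Soc P ≃* Matrix.ProjectiveSpecialLinearGroup (Fin (l + 1)) K) → SD P
  psu : ∀ (K : Type) (_ : Field K) (_ : Fintype K) (_ : CharP K p) (N q : ℕ), Fintype.card K = q ^ 2 → 3 ≤ N → N ≤ 6 →
    ¬ (N = 3 ∧ q = 2) → Nonempty (Soc P ≃* PSU N K q) → SD P
  odd : ∀ (K : Type) (_ : Field K) (_ : Fintype K) (_ : CharP K p), Odd (Fintype.card K) →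
    Nonempty (Soc P ≃* POmega K (quadFormOdd 3 K)) → SD P
  minus : ∀ (K : Type) (_ : Field K) (_ : Fintype K) (_ : CharP K p) (a b : K),
    (∀ z₁ z₂ : K, z₁ ^ 2 + a * z₁ * z₂ + b * z₂ ^ 2 = 0 → z₁ = 0 ∧ z₂ = 0) →
    Nonempty (Soc P ≃* POmega K (quadFormMinus 3 K a b)) → SD P
  g2 : ∀ (K : Type) (_ : Field K) (_ : Fintype K) (_ : CharP K p), 3 ≤ Fintype.card K →
    Nonempty (Soc P ≃* Lie.chevG2.group K) → SD P
  d4 : ∀ (K : Type) (_ : Field K) (_ : Fintype K) (_ : CharP K p) (q : ℕ), IsPrimePow q → Fintype.card K = q ^ 3 →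
    Nonempty (Soc P ≃* Lie.twistedD4 K q) → SD P

variable [Finite F] {P : Subgroup (GL (Fin 7) F)} (p : ℕ) [hp : Fact p.Prime] [CharP F p]

/-- `PSU_N(q)` in the defining characteristic -/
def UC (p : ℕ) (P : Subgroup (GL (Fin 7) F)) : Prop :=
  ∃ (K : Type) (_ : Field K) (_ : Fintype K) (_ : CharP K p) (N q : ℕ), Fintype.card K = q ^ 2 ∧ 7 ≤ N ∧
    Nonempty (Soc P ≃* PSU N K q)

/-- **Defining characteristic.** -/
theorem seven_dc (hC : Core P) (h : IsLieTypeChar p (Soc P)) (R : Rest p P) :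
    SD P ∨ P = specialLinear (Fin 7) F ∨ UC p P := by
  haveI : Nonempty (Fin 7) := ⟨0⟩
  haveI := hC.simple
  have h12 := H905.Md.small_dc (p := p) hC.absIrred.1 hC.perfect h (by rw [Fintype.card_fin]; norm_num)
  rw [Fintype.card_fin] at h12
  rcases h12 with h | h | h | h | h | h | h | h | h | h | h
  · obtain ⟨K, i1, i2, i3, l, hl, h4, ⟨Φ⟩⟩ := h
    rcases (show l = 1 ∨ (l = 2 ∨ l = 3) ∨ 4 ≤ l by omega) with rfl | hl2 | hl2
    · exact Or.inl fun g hg => H905.Md.psl_two p hC.absIrred hC.perfect (h4 rfl) Φ hg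
    · exact Or.inl (R.psl K i1 i2 i3 l hl2 ⟨Φ⟩)
    · right; left
      have h5 := H905.Md.psl_dim p hC.absIrred hC.perfect hl h4 Φ (by omega) (by
        rw [Fintype.card_fin]
        left
        have h6 : (4 + 1).choose 2 ≤ (l + 1).choose 2 := Nat.choose_le_choose 2 (by omega)
        have h7 : (4 + 1).choose 2 = 10 := by decide
        omega)
      rw [Fintype.card_fin] at h5
      exact (H905.Md.psl_eq p hC.absIrred hC.perfect hl h4 Φ hC.no_subfield h5).2
  · obtain ⟨K, i1, i2, i3, m, hm, hm2, h3, ⟨Φ⟩⟩ := h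
    refine Or.inl fun g hg => (H905.Md.psp_both p hC.absIrred hC.perfect (by omega) ?_ Φ hg).2
    rw [Nat.card_eq_fintype_card]
    rcases (show m = 2 ∨ 3 ≤ m by omega) with h | h
    · exact Or.inr (Or.inl ⟨h, h3 h⟩)
    · exact Or.inl h
  · obtain ⟨K, i1, i2, i3, N, q, hK, hN, hN5, h32, ⟨Φ⟩⟩ := h
    rcases (show N ≤ 6 ∨ 7 ≤ N by omega) with h | h
    · exact Or.inl (R.psu K i1 i2 i3 N q hK hN h h32 ⟨Φ⟩)
    · exact Or.inr (Or.inr ⟨K, i1, i2, i3, N, q, hK, h, ⟨Φ⟩⟩)
  · obtain ⟨h1, K, i1, i2, m, hm, hK, ⟨Φ⟩⟩ := h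
    subst h1
    exact Or.inl fun g hg => (H905.Md.sz_both hC.absIrred hC.perfect hm hK Φ hg).2
  · obtain ⟨h1, K, i1, i2, m, hm, hK, ⟨Φ⟩⟩ := h
    subst h1
    exact Or.inl fun g hg => (H905.Md.ree_both hC.absIrred hC.perfect hm hK Φ hg).2
  · obtain ⟨K, i1, i2, i3, m, hm, h4, hodd, e⟩ := h
    obtain rfl : m = 3 := by omega
    exact Or.inl (R.odd K i1 i2 i3 hodd e)
  · obtain ⟨K, i1, i2, i3, m, hm, h4, -⟩ := h
    omega
  · obtain ⟨K, i1, i2, i3, m, a, b, hm, h4, hab, e⟩ := h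
    obtain rfl : m = 4 := by omega
    exact Or.inl (R.minus K i1 i2 i3 a b hab e)
  · obtain ⟨-, K, i1, i2, i3, h3, e⟩ := h
    exact Or.inl (R.g2 K i1 i2 i3 h3 e)
  · obtain ⟨-, K, i1, i2, i3, q, hq, hK, e⟩ := h
    exact Or.inl (R.d4 K i1 i2 i3 q hq hK e)
  · omega

/-- **All groups.** -/
theorem seven_main (hC : Core P) (hk : IsKnownSimple' (Soc P)) (R : Rest p P) (hsd : ¬ SD P) :
    U33 p P ∨ P = specialLinear (Fin 7) F ∨ UC p P := by
  rcases seven_known₀ p hC hk with h | h | h | ⟨h2, h⟩ | ⟨r, hr, hrp, h, h'⟩ | h | h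
  · exact absurd h hsd
  · exact Or.inl h
  · rcases seven_dc p hC h R with h | h
    · exact absurd h hsd
    · exact Or.inr h
  · exact absurd (R.s62 h2 h) hsd
  · exact absurd (R.exc r hr hrp h h') hsd
  · exact absurd (R.tits h) hsd
  · exact absurd (R.spor h) hsd

theorem u33_concl (h : IsU 3 3 (Soc P)) : ∃ (K : Type) (_ : Field K) (_ : Fintype K), Fintype.card K = 9 ∧
    Nonempty ((P ⧸ (Cfsg.Geo.scalars (Fin 7) F).subgroupOf P) ≃* Cfsg.PSU 3 K 3) := by
  obtain ⟨K, i1, i2, hK, e⟩ := h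
  exact ⟨K, i1, i2, by rw [hK]; norm_num, e⟩

theorem odd_mod (h3 : p ≠ 3) (h2 : p ≠ 2) : p % 4 = 1 ∨ p % 4 = 3 := by
  have h := hp.out.eq_two_or_odd
  omega

end Cfsg.Agent.H48.Seven

namespace Cfsg.Agent.H48.Seven

open Cfsg Cfsg.Geo Matrix Cfsg.Agent.H915.LD Cfsg.Agent.H912.Bd Cfsg.Agent.H912.Five

variable {F : Type u} [Field F] [Fintype F]

end Cfsg.Agent.H48.Seven
end

-- part: H48/DsO8m
section
/-!
# `PΩ⁻_{2m+2}(q)`, `m` odd, in the defining characteristic: self-duality (helper48)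

* `sgn` : the Dickson sign on `O Q`; `exists_fix` : an isometry of sign `-1` which is diagonal on the frame fixes a
  vector of the anisotropic part; `sq_of_fix` : then its square is one there;
* `tor_comm`, `conj_tor` : the torus is commutative and inverted by `-1`;
* **`minus_sd`** : `SD P` for `P ≃* PΩ⁻_{2m+2}(q)`, `m` odd.
-/

set_option autoImplicit false
set_option linter.unusedSectionVars false

namespace Cfsg.Agent.H48.DsO8m

open QuadraticMap Module
open Cfsg
open Cfsg.Agent.ChevalleyStructure.CoxeterGeom Cfsg.Agent.Tits.Roots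
open Cfsg.Agent.Nodes Cfsg.Agent.Nodes.Comb Cfsg.Agent.Nodes.Reps Cfsg.Agent.Nodes.WittRoot
  Cfsg.Agent.Nodes.WittRGD Cfsg.Agent.Nodes.TypeC Cfsg.Agent.Nodes.BNOf
open Cfsg.Agent.Nodes.RGDLib Cfsg.Agent.Nodes.WittAll Cfsg.Agent.Nodes.WittInst
open Cfsg.Agent.TitsThree Cfsg.Agent.TitsThree.Siegel Cfsg.Agent.TitsThree.SiegelGen
  Cfsg.Agent.TitsThree.WittFrame Cfsg.Agent.TitsThree.WBridge Cfsg.Agent.TitsThree.WittWeyl
  Cfsg.Agent.TitsThree.FrameCN
open Cfsg.Agent.LieClassical Cfsg.Agent.LieClassical.OrthCore Cfsg.Agent.LieClassical.OrthTrans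
open Cfsg.Agent.LieClassical.OrthSimple Cfsg.Agent.LieClassical.OrthFinite
open Cfsg.Agent.LieClassical.OrthForms
open Cfsg.Agent.TitsThree.KSideO Cfsg.Agent.TitsThree.StdData
open Cfsg.Agent.ClassicalGeometry Cfsg.Agent.H48.WittNeg

/-! ### the Dickson sign -/

section Sign

variable {ι : Type} [Fintype ι] [DecidableEq ι] {F : Type*} [Field F] {Q : QuadraticForm F (ι → F)}
  (hQ : (polarBilin Q).Nondegenerate) (h4 : (∃ θ : F, θ ≠ 0 ∧ θ ≠ 1) ∨ Fintype.card ι ≠ 4)

/-- the Dickson sign on the group of linear isometries -/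
noncomputable def sgn : O Q →* ℤˣ := (OrthDickson.dsignHom Q hQ h4).comp (isometryEquiv Q).symm.toMonoidHom

/-- the fixed space -/
def fx (k : (ι → F) ≃ₗ[F] (ι → F)) : Submodule F (ι → F) := LinearMap.eqLocus k.toLinearMap LinearMap.id

theorem mem_fx {k : (ι → F) ≃ₗ[F] (ι → F)} {v : ι → F} : v ∈ fx k ↔ k v = v := Iff.rfl

theorem sgn_eq (k : O Q) : sgn hQ h4 k = (-1) ^ (finrank F (fx k.1) + Fintype.card ι) := by
  obtain ⟨g, rfl⟩ := (isometryEquiv Q).surjective k
  have h1 : sgn hQ h4 (isometryEquiv Q g) = OrthDickson.dsign Q g := by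
    change OrthDickson.dsign Q ((isometryEquiv Q).symm (isometryEquiv Q g)) = _
    rw [MulEquiv.symm_apply_apply]
  rw [h1, OrthDickson.dsign_def]
  rfl

theorem sgn_refl {v : ι → F} (hv : Q v ≠ 0) : sgn hQ h4 ⟨_root_.Cfsg.Agent.LieClassical.OrthCore.refl Q v hv, refl_mem_O hv⟩ = -1 := by
  have h1 : isometryEquiv Q (Reflection.reflIso Q v hv) = ⟨_root_.Cfsg.Agent.LieClassical.OrthCore.refl Q v hv, refl_mem_O hv⟩ := by
    apply Subtype.ext
    ext1 x
    rw [isometryEquiv_apply, Reflection.coe_reflIso, Reflection.reflectionMatrix_mulVec]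
    exact (refl_apply hv x).symm
  rw [← h1]
  change OrthDickson.dsign Q ((isometryEquiv Q).symm (isometryEquiv Q _)) = _
  rw [MulEquiv.symm_apply_apply, OrthDickson.dsign_refl Q hQ]

theorem sgn_E (hG : _root_.Cfsg.Agent.LieClassical.OrthTrans.Good Q) (k : O Q) (hk : k.1 ∈ E Q) : sgn hQ h4 k = 1 := by
  obtain ⟨g, hg⟩ := (omegaEquiv Q).surjective ⟨k.1, by rw [hG.commutator_eq_E]; exact hk⟩
  have h1 : isometryEquiv Q g.1 = k := by
    apply Subtype.ext
    ext1 v
    have h2 : (omegaEquiv Q g : (ι → F) ≃ₗ[F] (ι → F)) v = k.1 v := by rw [hg]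
    exact h2
  rw [← h1]
  change OrthDickson.dsign Q ((isometryEquiv Q).symm (isometryEquiv Q _)) = _
  rw [MulEquiv.symm_apply_apply]
  exact OrthDickson.dsign_eq_one_of_mem_commutator Q hQ h4 _ g.2

end Sign

/-! ### minus type -/

section Minus

variable {F : Type*} [Field F] {m : ℕ} {a b : F}
  (hab : ∀ z₁ z₂ : F, z₁ ^ 2 + a * z₁ * z₂ + b * z₂ ^ 2 = 0 → z₁ = 0 ∧ z₂ = 0)

/-- the coordinate of `b x` -/
def cc (x : Fin m × Bool) : (Fin m ⊕ Fin m) ⊕ Fin 2 := if x.2 then Sum.inl (Sum.inl x.1) else Sum.inl (Sum.inr x.1)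

local notation "QQ" => minusForm m F a b
local notation "Frm" => toFrame (wminus m F a b hab)

theorem b_eq (x : Fin m × Bool) : (Frm).b x = Pi.single (cc x) 1 := by
  obtain ⟨i, s⟩ := x
  cases s <;> rfl

theorem polar_b (v : (Fin m ⊕ Fin m) ⊕ Fin 2 → F) (x : Fin m × Bool) :
    polar QQ v ((Frm).b (ng x)) = v (cc x) := by
  obtain ⟨i, s⟩ := x
  rw [b_eq, polar_minusForm]
  cases s <;> simp only [cc, ng, Pi.single_apply, _root_.Bool.not_false, ↓ _root_.reduceIte, ↓ _root_.dreduceIte, _root_.ne_eq, _root_.Sum.inl.injEq, _root_.reduceCtorEq, _root_.not_false_eq_true, _root_.Pi.single_eq_of_ne, _root_.MulZeroClass.mul_zero, _root_.ite_mul, _root_.one_mul, _root_.MulZeroClass.zero_mul, _root_.zero_add, _root_.Finset.sum_ite_eq', _root_.Finset.mem_univ, _root_.Fin.isValue, _root_.add_zero, _root_.Bool.false_eq_true, _root_.Bool.not_true, _root_.Sum.inr.injEq, _root_.mul_ite, _root_.mul_one]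

theorem mem_V0 {v : (Fin m ⊕ Fin m) ⊕ Fin 2 → F} : v ∈ (Frm).V0 ↔ ∀ x : Fin m × Bool, v (cc x) = 0 := by
  change (∀ j, v (Sum.inl j) = 0) ↔ _
  constructor
  · rintro h ⟨i, s⟩
    cases s <;> exact h _
  · rintro h (j | j)
    · exact h (j, true)
    · exact h (j, false)

theorem diag_apply {k : ((Fin m ⊕ Fin m) ⊕ Fin 2 → F) ≃ₗ[F] ((Fin m ⊕ Fin m) ⊕ Fin 2 → F)} (hk : k ∈ O QQ)
    (hm : Mono (Frm) k id) : ∃ c : Fin m × Bool → F, (∀ x, k ((Frm).b x) = c x • (Frm).b x) ∧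
      (∀ x, c (ng x) * c x = 1) ∧ ∀ v x, k v (cc x) = c x * v (cc x) := by
  choose c hc0 hc using hm
  have hiso : (HO QQ).IsIso k := fun v w => polar_map hk v w
  have h1 : ∀ x, c (ng x) * c x = 1 := fun x => WittNeg.mul_eq_one hiso (hc x) (hc (ng x))
  refine ⟨c, hc, h1, fun v x => ?_⟩
  have h2 : polar QQ (k v) (k ((Frm).b (ng x))) = polar QQ v ((Frm).b (ng x)) := polar_map hk _ _
  rw [hc (ng x)] at h2
  change polar QQ (k v) (c (ng x) • (Frm).b (ng x)) = _ at h2
  rw [polar_smul_right, polar_b, polar_b, smul_eq_mul] at h2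
  have h3 := h1 x
  linear_combination (c x) * h2 - (k v (cc x)) * h3

/-- A diagonal isometry of sign `-1` fixes a vector of the anisotropic part. -/
theorem exists_fix [Finite F] (hQ : (polarBilin QQ).Nondegenerate)
    (h4 : (∃ θ : F, θ ≠ 0 ∧ θ ≠ 1) ∨ Fintype.card ((Fin m ⊕ Fin m) ⊕ Fin 2) ≠ 4)
    {k : ((Fin m ⊕ Fin m) ⊕ Fin 2 → F) ≃ₗ[F] ((Fin m ⊕ Fin m) ⊕ Fin 2 → F)} (hk : k ∈ O QQ)
    (hm : Mono (Frm) k id) (hs : sgn hQ h4 ⟨k, hk⟩ = -1) : ∃ u ∈ (Frm).V0, u ≠ 0 ∧ k u = u := by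
  classical
  by_contra hcon
  push Not at hcon
  obtain ⟨c, hc, hc1, hkc⟩ := diag_apply hab hk hm
  -- the fixed space
  let ev : fx k →ₗ[F] ({x : Fin m × Bool // c x = 1} → F) :=
    { toFun := fun v x => v.1 (cc x.1)
      map_add' := fun v w => rfl
      map_smul' := fun r v => rfl }
  have hinj : Function.Injective ev := by
    rw [← LinearMap.ker_eq_bot, LinearMap.ker_eq_bot']
    rintro ⟨v, hv⟩ h
    have h1 : v ∈ (Frm).V0 := by
      rw [mem_V0]
      intro x
      by_cases hx : c x = 1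
      · exact congrFun h ⟨x, hx⟩
      · have h2 := hkc v x
        rw [mem_fx.1 hv] at h2
        have h3 : (c x - 1) * v (cc x) = 0 := by linear_combination -h2
        exact (mul_eq_zero.1 h3).resolve_left (sub_ne_zero.2 hx)
    apply Subtype.ext
    change v = 0
    by_contra hv0
    exact hcon v h1 hv0 hv
  have hcc : Function.Injective (cc : Fin m × Bool → (Fin m ⊕ Fin m) ⊕ Fin 2) := by
    rintro ⟨i, s⟩ ⟨j, t⟩ h
    cases s <;> cases t <;> simp [cc] at h <;> simp [h]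
  have hsurj : Function.Surjective ev := by
    intro f
    have hv : (∑ x : {x : Fin m × Bool // c x = 1}, f x • (Frm).b x.1) ∈ fx k := by
      rw [mem_fx, map_sum]
      refine Finset.sum_congr rfl fun x _ => ?_
      rw [map_smul, hc, x.2, one_smul]
    refine ⟨⟨_, hv⟩, ?_⟩
    funext y
    change (∑ x : {x : Fin m × Bool // c x = 1}, f x • (Frm).b x.1) (cc y.1) = f y
    rw [Finset.sum_apply, Finset.sum_eq_single y]
    · rw [Pi.smul_apply, b_eq, Pi.single_eq_same, smul_eq_mul, mul_one]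
    · intro x _ hxy
      rw [Pi.smul_apply, b_eq, Pi.single_eq_of_ne (fun h => hxy (Subtype.ext (hcc h.symm))), smul_zero]
    · intro h
      exact absurd (Finset.mem_univ _) h
  have h1 : finrank F (fx k) = Fintype.card {x : Fin m × Bool // c x = 1} := by
    rw [(LinearEquiv.ofBijective ev ⟨hinj, hsurj⟩).finrank_eq, finrank_fintype_fun_eq_card]
  have hng : ∀ x, c x = 1 → c (ng x) = 1 := fun x hx => by have := hc1 x; rwa [hx, mul_one] at this
  have h2 : Fintype.card {x : Fin m × Bool // c x = 1} = Fintype.card ({i : Fin m // c (i, true) = 1} × Bool) := by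
    refine Fintype.card_congr
      { toFun := fun x => (⟨x.1.1, ?_⟩, x.1.2)
        invFun := fun y => ⟨(y.1.1, y.2), ?_⟩
        left_inv := fun x => rfl
        right_inv := fun y => rfl }
    · obtain ⟨⟨i, s⟩, hx⟩ := x
      cases s
      · exact hng _ hx
      · exact hx
    · obtain ⟨⟨i, hi⟩, s⟩ := y
      cases s
      · exact hng _ hi
      · exact hi
  rw [sgn_eq, h1, h2, Fintype.card_prod, Fintype.card_bool, Fintype.card_sum, Fintype.card_sum, Fintype.card_fin,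
    Fintype.card_fin] at hs
  have h3 : Even (Fintype.card {i : Fin m // c (i, true) = 1} * 2 + (m + m + 2)) :=
    ⟨Fintype.card {i : Fin m // c (i, true) = 1} + (m + 1), by ring⟩
  rw [Even.neg_one_pow h3] at hs
  exact absurd hs (by decide)

/-- An isometry of the anisotropic part with a fixed vector has square one. -/
theorem sq_of_fix [Finite F] {k : ((Fin m ⊕ Fin m) ⊕ Fin 2 → F) ≃ₗ[F] ((Fin m ⊕ Fin m) ⊕ Fin 2 → F)}
    (hk : k ∈ O QQ) (hV : ∀ w ∈ (Frm).V0, k w ∈ (Frm).V0) {u : (Fin m ⊕ Fin m) ⊕ Fin 2 → F}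
    (hu : u ∈ (Frm).V0) (hu0 : u ≠ 0) (hku : k u = u) : ∀ w ∈ (Frm).V0, k (k w) = w := by
  intro x hx
  -- the form on `V0`
  have hform : ∀ y ∈ (Frm).V0, ∀ z ∈ (Frm).V0, polar QQ y z = 2 * y (Sum.inr 0) * z (Sum.inr 0) +
      a * (y (Sum.inr 0) * z (Sum.inr 1) + y (Sum.inr 1) * z (Sum.inr 0)) +
        2 * b * y (Sum.inr 1) * z (Sum.inr 1) := by
    intro y hy z hz
    have hy' : ∀ j, y (Sum.inl j) = 0 := hy
    have hz' : ∀ j, z (Sum.inl j) = 0 := hz
    rw [polar_minusForm]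
    simp only [hy', hz', mul_zero, zero_mul, add_zero, Finset.sum_const_zero, zero_add]
  have hext : ∀ y ∈ (Frm).V0, y (Sum.inr 0) = 0 → y (Sum.inr 1) = 0 → y = 0 := by
    intro y hy h0 h1
    have hy' : ∀ j, y (Sum.inl j) = 0 := hy
    funext j
    rcases j with j | j
    · exact hy' j
    · fin_cases j
      · exact h0
      · exact h1
  -- the line orthogonal to `u`
  obtain ⟨A, B, hAB, hline⟩ : ∃ A B : F, (A ≠ 0 ∨ B ≠ 0) ∧ ∀ y ∈ (Frm).V0, polar QQ y u = 0 →
      y (Sum.inr 0) * A + y (Sum.inr 1) * B = 0 := by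
    refine ⟨2 * u (Sum.inr 0) + a * u (Sum.inr 1), a * u (Sum.inr 0) + 2 * b * u (Sum.inr 1), ?_, ?_⟩
    · by_contra hcon
      push Not at hcon
      obtain ⟨h1, h2⟩ := hcon
      obtain ⟨h3, h4⟩ := binary_nondeg F a b hab (z := u (Sum.inr 0)) (w := u (Sum.inr 1)) h1 h2
      exact hu0 (hext u hu h3 h4)
    · intro y hy h
      rw [hform y hy u hu] at h
      linear_combination h
  have hprop : ∀ y ∈ (Frm).V0, ∀ z ∈ (Frm).V0, polar QQ y u = 0 → polar QQ z u = 0 → y ≠ 0 →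
      ∃ c : F, z = c • y := by
    intro y hy z hz hyu hzu hy0
    have h1 := hline y hy hyu
    have h2 := hline z hz hzu
    have hdet : y (Sum.inr 0) * z (Sum.inr 1) = y (Sum.inr 1) * z (Sum.inr 0) := by
      rcases hAB with h | h
      · apply mul_right_cancel₀ h
        linear_combination (z (Sum.inr 1)) * h1 - (y (Sum.inr 1)) * h2
      · apply mul_right_cancel₀ h
        linear_combination (y (Sum.inr 0)) * h2 - (z (Sum.inr 0)) * h1
    by_cases h0 : y (Sum.inr 0) = 0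
    · have h3 : y (Sum.inr 1) ≠ 0 := fun h => hy0 (hext y hy h0 h)
      refine ⟨z (Sum.inr 1) * (y (Sum.inr 1))⁻¹, sub_eq_zero.1 (hext _ ((Frm).V0.sub_mem hz
        ((Frm).V0.smul_mem _ hy)) ?_ ?_)⟩
      · rw [h0, zero_mul] at hdet
        have h4 : z (Sum.inr 0) = 0 := (mul_eq_zero.1 hdet.symm).resolve_left h3
        simp [h0, h4]
      · simp [h3]
    · refine ⟨z (Sum.inr 0) * (y (Sum.inr 0))⁻¹, sub_eq_zero.1 (hext _ ((Frm).V0.sub_mem hz
        ((Frm).V0.smul_mem _ hy)) ?_ ?_)⟩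
      · simp [h0]
      · simp only [Pi.sub_apply, Pi.smul_apply, smul_eq_mul]
        field_simp
        linear_combination hdet
  -- the argument
  have hkx := hV x hx
  have hkkx := hV _ hkx
  have horth : ∀ y, polar QQ (k y - y) u = 0 := by
    intro y
    have h1 := polar_map hk y u
    rw [hku] at h1
    rw [polar_sub_left, h1, sub_self]
  have horth2 : polar QQ (k (k x) - x) u = 0 := by
    have h1 := horth (k x)
    have h2 := horth x
    have h3 : k (k x) - x = (k (k x) - k x) + (k x - x) := by abel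
    rw [h3, polar_add_left, h1, h2, add_zero]
  by_cases hd : k x - x = 0
  · have h1 : k x = x := sub_eq_zero.1 hd
    rw [h1, h1]
  · obtain ⟨c, hc⟩ := hprop _ ((Frm).V0.sub_mem hkx hx) _ ((Frm).V0.sub_mem hkkx hx) (horth x) horth2 hd
    set d := k x - x with hdd
    have hkx' : k x = x + d := by rw [hdd]; abel
    have hkkx' : k (k x) = x + c • d := by rw [← hc]; abel
    have hQd : QQ d ≠ 0 := fun h => hd ((wminus m F a b hab).aniso d ((Frm).V0.sub_mem hkx hx)
      ((sing_iff QQ).2 h))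
    have e1 : QQ (x + d) = QQ x := by rw [← hkx']; exact mem_O.1 hk x
    have e2 : QQ (x + c • d) = QQ x := by rw [← hkkx', mem_O.1 hk, mem_O.1 hk]
    rw [Q_add] at e1 e2
    rw [QuadraticMap.map_smul, polar_smul_right, smul_eq_mul, smul_eq_mul] at e2
    have e3 : c * (c - 1) * QQ d = 0 := by linear_combination e2 - c * e1
    rcases mul_eq_zero.1 ((mul_eq_zero.1 e3).resolve_right hQd) with h | h
    · rw [hkkx', h, zero_smul, add_zero]
    · exfalso
      rw [sub_eq_zero] at h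
      rw [h, one_smul, ← hkx'] at hkkx'
      exact hd (sub_eq_zero.2 (k.injective hkkx'))

/-- A diagonal isometry of sign `-1` has square one on the anisotropic part. -/
theorem sq_of_sgn [Finite F] (hQ : (polarBilin QQ).Nondegenerate)
    (h4 : (∃ θ : F, θ ≠ 0 ∧ θ ≠ 1) ∨ Fintype.card ((Fin m ⊕ Fin m) ⊕ Fin 2) ≠ 4)
    {k : ((Fin m ⊕ Fin m) ⊕ Fin 2 → F) ≃ₗ[F] ((Fin m ⊕ Fin m) ⊕ Fin 2 → F)} (hk : k ∈ O QQ)
    (hm : Mono (Frm) k id) (hs : sgn hQ h4 ⟨k, hk⟩ = -1) : ∀ w ∈ (Frm).V0, k (k w) = w := by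
  obtain ⟨u, hu, hu0, hku⟩ := exists_fix hab hQ h4 hk hm hs
  refine sq_of_fix hab hk (fun w hw => ?_) hu hu0 hku
  obtain ⟨c, -, -, hkc⟩ := diag_apply hab hk hm
  rw [mem_V0] at hw ⊢
  intro x
  rw [hkc, hw x, mul_zero]

/-- products of reflections swapping hyperbolic pairs -/
theorem exists_swap (hQ : (polarBilin QQ).Nondegenerate)
    (h4 : (∃ θ : F, θ ≠ 0 ∧ θ ≠ 1) ∨ Fintype.card ((Fin m ⊕ Fin m) ⊕ Fin 2) ≠ 4) (S : Finset (Fin m)) :
    ∃ R : O QQ, sgn hQ h4 R = (-1) ^ S.card ∧ (∀ x, R.1 ((Frm).b x) = (Frm).b (_root_.Cfsg.Agent.H48.WittNeg.flip S x)) ∧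
      ∀ w ∈ (Frm).V0, R.1 w = w := by
  induction S using Finset.induction_on with
  | empty => exact ⟨1, by rw [map_one]; rfl, fun x => by rw [flip_empty]; rfl, fun w _ => rfl⟩
  | insert i S hi ih =>
    obtain ⟨R, h1, h2, h3⟩ := ih
    set v : (Fin m ⊕ Fin m) ⊕ Fin 2 → F := (Frm).b (i, true) - (Frm).b (i, false) with hv
    have hpol : ∀ x, polar QQ v ((Frm).b x) = if x = (i, false) then 1 else if x = (i, true) then -1 else 0 := by
      intro x
      have e : x = ng (ng x) := (ng_ng x).symm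
      rw [e, polar_b, hv, b_eq, b_eq, ng_ng]
      obtain ⟨j, s⟩ := x
      by_cases h : j = i
      · subst h
        cases s <;> simp [cc, ng]
      · have h' : ¬ i = j := fun h' => h h'.symm
        cases s <;> simp [cc, ng, Pi.single_apply, h, h']
    have hQv : QQ v = -1 := by
      have e1 : ∀ x, QQ ((Frm).b x) = 0 := fun x => (sing_iff QQ).1 (b_sing _ x)
      have e2 : QQ v = QQ ((Frm).b (i, true)) + QQ (-(Frm).b (i, false)) +
          polar QQ ((Frm).b (i, true)) (-(Frm).b (i, false)) := by rw [← Q_add, hv, sub_eq_add_neg]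
      have e3 : polar QQ ((Frm).b (i, true)) ((Frm).b (i, false)) = 1 := by
        have := polar_b (a := a) (b := b) hab ((Frm).b (i, true)) (i, true)
        rw [b_eq] at this ⊢
        rw [show (i, false) = ng (i, true) from rfl, this]
        simp
      rw [e2, e1, QuadraticMap.map_neg, e1, polar_neg_right, e3]
      ring
    have hQv0 : QQ v ≠ 0 := by rw [hQv]; exact neg_ne_zero.2 one_ne_zero
    refine ⟨⟨_root_.Cfsg.Agent.LieClassical.OrthCore.refl QQ v hQv0, refl_mem_O hQv0⟩ * R, ?_, fun x => ?_, fun w hw => ?_⟩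
    · rw [map_mul, sgn_refl, h1, Finset.card_insert_of_notMem hi, pow_succ']
    · change _root_.Cfsg.Agent.LieClassical.OrthCore.refl QQ v hQv0 (R.1 _) = _
      rw [h2, OrthCore.refl_apply, hpol, hQv, ← flip_insert hi]
      by_cases hx1 : _root_.Cfsg.Agent.H48.WittNeg.flip S x = (i, false)
      · rw [if_pos hx1, hx1, hv]
        have e : flip {i} (i, false) = (i, true) := by unfold WittNeg.flip; simp [ng]
        rw [e]
        simp
      · rw [if_neg hx1]
        by_cases hx2 : _root_.Cfsg.Agent.H48.WittNeg.flip S x = (i, true)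
        · rw [if_pos hx2, hx2, hv]
          have e : flip {i} (i, true) = (i, false) := by unfold WittNeg.flip; simp [ng]
          rw [e]
          simp
        · rw [if_neg hx2, mul_zero, zero_smul, sub_zero]
          have e : flip {i} (_root_.Cfsg.Agent.H48.WittNeg.flip S x) = _root_.Cfsg.Agent.H48.WittNeg.flip S x := by
            set y := _root_.Cfsg.Agent.H48.WittNeg.flip S x
            unfold WittNeg.flip
            rw [if_neg]
            rw [Finset.mem_singleton]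
            intro h
            obtain ⟨j, s⟩ := y
            simp only at h
            subst h
            cases s
            · exact hx1 rfl
            · exact hx2 rfl
          rw [e]
    · change _root_.Cfsg.Agent.LieClassical.OrthCore.refl QQ v hQv0 (R.1 _) = _
      have e : polar QQ v w = 0 := by
        rw [hv, polar_sub_left]
        have e1 : ∀ x, polar QQ ((Frm).b x) w = 0 := fun x => (Frm).h0 x w hw
        rw [e1, e1, sub_zero]
      rw [h3 w hw, OrthCore.refl_apply, e, mul_zero, zero_smul, sub_zero]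

include hab in
theorem nondeg' [Finite F] : (polarBilin QQ).Nondegenerate :=
  ⟨fun x hx => nondeg_minusForm m F a b hab x fun y => by
    have := hx y; rwa [polarBilin_apply_apply] at this,
  fun x hx => nondeg_minusForm m F a b hab x fun y => by
    have := hx y
    rw [polarBilin_apply_apply, polar_comm] at this
    exact this⟩

theorem card_ne (hm : 2 ≤ m) : (∃ θ : F, θ ≠ 0 ∧ θ ≠ 1) ∨ Fintype.card ((Fin m ⊕ Fin m) ⊕ Fin 2) ≠ 4 :=
  Or.inr (by rw [Fintype.card_sum, Fintype.card_sum, Fintype.card_fin, Fintype.card_fin]; omega)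

theorem ext_frame {g g' : ((Fin m ⊕ Fin m) ⊕ Fin 2 → F) ≃ₗ[F] ((Fin m ⊕ Fin m) ⊕ Fin 2 → F)}
    (hb : ∀ x, g ((Frm).b x) = g' ((Frm).b x)) (h0 : ∀ w ∈ (Frm).V0, g w = g' w) : g = g' := by
  ext1 v
  obtain ⟨x, y, w, hw, e⟩ := (wminus m F a b hab).span v
  rw [e, map_add, map_add, map_add, map_add, map_sum, map_sum, map_sum, map_sum, h0 w hw]
  congr 2
  · exact Finset.sum_congr rfl fun i _ => by rw [map_smul, map_smul]; congr 1; exact hb (i, true)
  · exact Finset.sum_congr rfl fun i _ => by rw [map_smul, map_smul]; congr 1; exact hb (i, false)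

/-- the reflection in a vector of `V0` inverts the torus on `V0` -/
theorem exists_refl [Finite F] (hm : 2 ≤ m) (hG : _root_.Cfsg.Agent.LieClassical.OrthTrans.Good QQ) :
    ∃ r : ((Fin m ⊕ Fin m) ⊕ Fin 2 → F) ≃ₗ[F] ((Fin m ⊕ Fin m) ⊕ Fin 2 → F), (∀ w, r (r w) = w) ∧
      (∀ w ∈ (Frm).V0, r w ∈ (Frm).V0) ∧ ∀ s ∈ Tor (Frm) (E QQ), ∀ w ∈ (Frm).V0, s (r (s (r w))) = w := by
  have hQ := nondeg' hab (m := m)
  have h4 := card_ne (F := F) hm
  set u : (Fin m ⊕ Fin m) ⊕ Fin 2 → F := Pi.single (Sum.inr 0) 1 with hu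
  have huV : u ∈ (Frm).V0 := by
    intro j
    rw [hu]
    simp
  have hu0 : QQ u ≠ 0 := by
    intro h
    have h1 := (wminus m F a b hab).aniso u huV ((sing_iff QQ).2 h)
    have h2 := congrFun h1 (Sum.inr 0)
    rw [hu] at h2
    simp at h2
  have hrr : ∀ w, _root_.Cfsg.Agent.LieClassical.OrthCore.refl QQ u hu0 (_root_.Cfsg.Agent.LieClassical.OrthCore.refl QQ u hu0 w) = w := fun w => by
    rw [← mul_apply', OrthCore.refl_mul_self]; rfl
  have hrb : ∀ x, _root_.Cfsg.Agent.LieClassical.OrthCore.refl QQ u hu0 ((Frm).b x) = (Frm).b x := by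
    intro x
    rw [OrthCore.refl_apply]
    have e : polar QQ u ((Frm).b x) = 0 := (Frm).h0' x huV
    rw [e, mul_zero, zero_smul, sub_zero]
  refine ⟨_root_.Cfsg.Agent.LieClassical.OrthCore.refl QQ u hu0, hrr, fun w hw => ?_, fun s hs w hw => ?_⟩
  · rw [OrthCore.refl_apply]
    exact (Frm).V0.sub_mem hw ((Frm).V0.smul_mem _ huV)
  · have hsO : s ∈ O QQ := E_le_O hs.1
    have h1 : sgn hQ h4 ⟨s * _root_.Cfsg.Agent.LieClassical.OrthCore.refl QQ u hu0, mul_mem hsO (refl_mem_O hu0)⟩ = -1 := by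
      have h2 : (⟨s * _root_.Cfsg.Agent.LieClassical.OrthCore.refl QQ u hu0, mul_mem hsO (refl_mem_O hu0)⟩ : O QQ) =
        ⟨s, hsO⟩ * ⟨_root_.Cfsg.Agent.LieClassical.OrthCore.refl QQ u hu0, refl_mem_O hu0⟩ := rfl
      rw [h2, map_mul, sgn_refl, sgn_E hQ h4 hG ⟨s, hsO⟩ hs.1, one_mul]
    exact sq_of_sgn hab hQ h4 (mul_mem hsO (refl_mem_O hu0)) (fun x => by
      obtain ⟨l, hl, e⟩ := hs.2 x
      refine ⟨l, hl, ?_⟩
      rw [mul_apply', hrb, e]) h1 w hw

theorem tor_V0 {s : ((Fin m ⊕ Fin m) ⊕ Fin 2 → F) ≃ₗ[F] ((Fin m ⊕ Fin m) ⊕ Fin 2 → F)}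
    (hs : s ∈ Tor (Frm) (E QQ)) {w : (Fin m ⊕ Fin m) ⊕ Fin 2 → F} (hw : w ∈ (Frm).V0) : s w ∈ (Frm).V0 := by
  obtain ⟨c, -, -, hkc⟩ := diag_apply hab (E_le_O hs.1) hs.2
  rw [mem_V0] at hw ⊢
  intro x
  rw [hkc, hw x, mul_zero]

theorem inv_eq {s : ((Fin m ⊕ Fin m) ⊕ Fin 2 → F) ≃ₗ[F] ((Fin m ⊕ Fin m) ⊕ Fin 2 → F)}
    {v w : (Fin m ⊕ Fin m) ⊕ Fin 2 → F} (h : s v = w) : s⁻¹ w = v := by
  rw [← h, ← mul_apply', inv_mul_cancel]; rfl

/-- **The torus is commutative.** -/
theorem tor_comm [Finite F] (hm : 2 ≤ m) (hG : _root_.Cfsg.Agent.LieClassical.OrthTrans.Good QQ)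
    {s t : ((Fin m ⊕ Fin m) ⊕ Fin 2 → F) ≃ₗ[F] ((Fin m ⊕ Fin m) ⊕ Fin 2 → F)}
    (hs : s ∈ Tor (Frm) (E QQ)) (ht : t ∈ Tor (Frm) (E QQ)) : s * t = t * s := by
  obtain ⟨r, hr, hrV, hrs⟩ := exists_refl hab hm hG
  refine ext_frame hab (fun x => ?_) (fun w hw => ?_)
  · obtain ⟨α, -, ha⟩ := hs.2 x
    obtain ⟨β, -, hb⟩ := ht.2 x
    have ha' : s ((Frm).b x) = α • (Frm).b x := ha
    have hb' : t ((Frm).b x) = β • (Frm).b x := hb
    rw [mul_apply', mul_apply', ha', hb', map_smul, map_smul, ha', hb', smul_comm]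
  · rw [mul_apply', mul_apply']
    have key : ∀ w ∈ (Frm).V0, s (t (s⁻¹ (t⁻¹ w))) = w := by
      intro w hw
      have h1 := hrs t ht w hw
      have h2 : r (t (r w)) = t⁻¹ w := (inv_eq h1).symm
      have h3 := hrs s hs (t⁻¹ w) (by rw [← h2]; exact hrV _ (tor_V0 hab ht (hrV w hw)))
      have h4 : r (s (r (t⁻¹ w))) = s⁻¹ (t⁻¹ w) := (inv_eq h3).symm
      have h5 := hrs (s * t) (mul_mem hs ht) w hw
      rw [mul_apply', mul_apply'] at h5
      rw [← h4, ← h2, hr]
      exact h5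
    have h1 := key (t (s w)) (tor_V0 hab ht (tor_V0 hab hs hw))
    rw [inv_eq rfl, inv_eq rfl] at h1
    exact h1

/-- an element over `-1` has square one on `V0` -/
theorem neg_sq [Finite F] (hm : 2 ≤ m) (hodd : Odd m) (hG : _root_.Cfsg.Agent.LieClassical.OrthTrans.Good QQ)
    {g : ((Fin m ⊕ Fin m) ⊕ Fin 2 → F) ≃ₗ[F] ((Fin m ⊕ Fin m) ⊕ Fin 2 → F)} (hg : g ∈ E QQ)
    (hgm : Mono (Frm) g ng) {w : (Fin m ⊕ Fin m) ⊕ Fin 2 → F} (hw : w ∈ (Frm).V0) :
    g w ∈ (Frm).V0 ∧ g (g w) = w := by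
  have hQ := nondeg' hab (m := m)
  have h4 := card_ne (F := F) hm
  obtain ⟨R, h1, h2, h3⟩ := exists_swap hab hQ h4 (Finset.univ : Finset (Fin m))
  have hkO : R.1 * g ∈ O QQ := mul_mem R.2 (E_le_O hg)
  have hkm : Mono (Frm) (R.1 * g) id := by
    intro x
    obtain ⟨l, hl, e⟩ := hgm x
    refine ⟨l, hl, ?_⟩
    rw [mul_apply', e, map_smul, h2, flip_univ, ng_ng]
    rfl
  have hks : sgn hQ h4 ⟨R.1 * g, hkO⟩ = -1 := by
    have e : (⟨R.1 * g, hkO⟩ : O QQ) = R * ⟨g, E_le_O hg⟩ := rfl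
    rw [e, map_mul, sgn_E hQ h4 hG ⟨g, E_le_O hg⟩ hg, mul_one, h1, Finset.card_univ, Fintype.card_fin,
      hodd.neg_one_pow]
  have hkV : ∀ w ∈ (Frm).V0, (R.1 * g) w ∈ (Frm).V0 := by
    intro w hw
    obtain ⟨c, -, -, hkc⟩ := diag_apply hab hkO hkm
    rw [mem_V0] at hw ⊢
    intro x
    rw [hkc, hw x, mul_zero]
  have hgk : ∀ w ∈ (Frm).V0, g w = (R.1 * g) w := by
    intro w hw
    apply R.1.injective
    rw [h3 _ (hkV w hw)]
    rfl
  have hgV := hgk w hw ▸ hkV w hw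
  refine ⟨hgV, ?_⟩
  rw [hgk _ hgV, hgk w hw]
  exact sq_of_sgn hab hQ h4 hkO hkm hks w hw

/-- **`g⁻¹ t⁻¹ g = t`** for `m` odd -/
theorem conj_tor [Finite F] (hm : 2 ≤ m) (hodd : Odd m) (hG : _root_.Cfsg.Agent.LieClassical.OrthTrans.Good QQ)
    {g t : ((Fin m ⊕ Fin m) ⊕ Fin 2 → F) ≃ₗ[F] ((Fin m ⊕ Fin m) ⊕ Fin 2 → F)} (hg : g ∈ E QQ)
    (hgm : Mono (Frm) g ng) (ht : t ∈ Tor (Frm) (E QQ)) : g⁻¹ * t⁻¹ * g = t := by
  refine ext_frame hab (fun x => ?_) (fun w hw => ?_)
  · obtain ⟨α, -, ha⟩ := ht.2 x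
    have ha' : t ((Frm).b x) = α • (Frm).b x := ha
    have hiso : (HO QQ).IsIso t := fun v w => polar_map (E_le_O ht.1) v w
    rw [apply_torus hiso ht.2 hgm ha', ha']
    rfl
  · rw [mul_apply', mul_apply']
    obtain ⟨h1, h2⟩ := neg_sq hab hm hodd hG hg hgm hw
    have htg : Mono (Frm) (t * g) ng := by
      have := Mono.mul ht.2 hgm
      exact this.congr fun x => rfl
    obtain ⟨-, h3⟩ := neg_sq hab hm hodd hG (mul_mem ht.1 hg) htg h1
    rw [mul_apply', mul_apply', h2] at h3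
    -- `t (g (t w)) = g w`
    rw [inv_eq h3, inv_eq rfl]

include hab in
seal _root_.Finset.sum _root_.dotProduct in
/-- The root group datum of `PΩ⁻_{2m+2}(q)`, `m` odd, and its element over `-1`. -/
theorem exists_rgd [Finite F] (hm : 2 ≤ m) (hodd : Odd m) {p : ℕ} [hp : Fact p.Prime] [CharP F p] :
    ∃ (T : Subgroup (POmega F (quadFormMinus m F a b))) (n : Fin m → POmega F (quadFormMinus m F a b))
      (X : (Fin m → ℤ) → Subgroup (POmega F (quadFormMinus m F a b)))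
      (R : RGD (CoxeterMatrix.B m).toCoxeterSystem (isCartan m) p T n X) (w0 : (CoxeterMatrix.B m).Group)
      (w : POmega F (quadFormMinus m F a b)), G1 (CoxeterMatrix.B m).toCoxeterSystem (isCartan m) X = ⊤ ∧
      (∀ s ∈ T, ∀ t ∈ T, s * t = t * s) ∧ (∀ x, rep (CoxeterMatrix.B m).toCoxeterSystem (isCartan m) w0 x = -x) ∧
      Rp (CoxeterMatrix.B m).toCoxeterSystem R.nsys w0 w ∧ ∀ t ∈ T, w⁻¹ * t⁻¹ * w = t := by
  rw [← coe_minusForm]
  have hG : _root_.Cfsg.Agent.LieClassical.OrthTrans.Good (minusForm m F a b) := by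
    apply good_of_finite (nondeg_minusForm m F a b hab)
    rw [Module.finrank_fintype_fun_eq_card, Fintype.card_sum, Fintype.card_sum, Fintype.card_fin,
      Fintype.card_fin]
    omega
  have hp0 : ((embMinus m F a b hab).ngt ⟨(1, 0), -nf a b (1, 0), rfl⟩).c ≠ 0 := by
    change (1 : F)⁻¹ * (-nf a b (1, 0)) ≠ 0
    simp [nf]
  have hA : AmbT (toFrame (wminus m F a b hab)) p (model (wminus m F a b hab) hG ⟨_, hp0⟩).I := by
    change AmbT (toFrame (wminus m F a b hab)) p (E (minusForm m F a b))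
    by_cases h2 : (2 : F) = 0
    · have hp2 : p = 2 := by
        have h3 : CharP F 2 := CharTwo.of_one_ne_zero_of_two_eq_zero one_ne_zero h2
        exact CharP.eq F ‹CharP F p› h3
      subst hp2
      exact ambT_O _ fun g hg hg2 hb => fixp_minus a b hab h2 hm hG hg hg2 hb
    · exact AmbT.of_amb (amb_O_of_two _ h2) p
  obtain ⟨w0, g, hg, h1, h2, h3⟩ := exists_neg hA hp0 (CoxeterMatrix.B m).toCoxeterSystem
  refine ⟨_, _, _, rgdC_model (model (wminus m F a b hab) hG ⟨_, hp0⟩) hA hp0 (CoxeterMatrix.B m).toCoxeterSystem,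
    w0, (model (wminus m F a b hab) hG ⟨_, hp0⟩).φ ⟨g, hg⟩, WittModel.G1_eq_top _ (by omega) _, ?_, h1, h2, ?_⟩
  · rintro _ ⟨s, hs, rfl⟩ _ ⟨t, ht, rfl⟩
    simp only [← map_mul, ← map_mul]
    congr 1
    exact Subtype.ext (tor_comm hab hm hG (Subgroup.mem_subgroupOf.1 hs) (Subgroup.mem_subgroupOf.1 ht))
  · rintro _ ⟨t, ht, rfl⟩
    simp only [← map_inv, ← map_inv, ← map_mul, ← map_mul]
    congr 1
    exact Subtype.ext (conj_tor hab hm hodd hG hg h3 (Subgroup.mem_subgroupOf.1 ht))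

end Minus

/-! ### cores -/

section SD

open Matrix Cfsg.Geo Cfsg.Agent.H905.Md Cfsg.Agent.H915.LD Cfsg.Agent.H48.DsChev

universe u

variable {ι : Type} [Fintype ι] [DecidableEq ι] {F : Type u} [Field F] [Finite F] {P : Subgroup (GL ι F)}
  (p : ℕ) [hp : Fact p.Prime] [CharP F p]

/-- **`P ≃ PΩ⁻_{2m+2}(q)`, `m` odd, own characteristic.** -/
theorem minus_sd (hC : Core P) {K : Type} [Field K] [Finite K] [CharP K p] {m : ℕ} (hm : 2 ≤ m) (hodd : Odd m)
    {a b : K} (hab : ∀ z₁ z₂ : K, z₁ ^ 2 + a * z₁ * z₂ + b * z₂ ^ 2 = 0 → z₁ = 0 ∧ z₂ = 0)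
    (f : POmega K (quadFormMinus m K a b) ≃* P) : SD P := by
  obtain ⟨T, n, X, R, w0, w, hG1, hT, hw0, hw, htor⟩ := exists_rgd (p := p) hab hm hodd
  have : Finite (POmega K (quadFormMinus m K a b)) := Finite.of_equiv P f.symm.toEquiv
  have hW : Finite (CoxeterMatrix.B m).Group := finite_W (CoxeterMatrix.B m).toCoxeterSystem
  exact sd_of_rgd p hC f R hG1 hT hw0 hw htor

theorem gcd_dvd (q : ℕ) : Nat.gcd 4 (q ^ 4 + 1) ∣ 2 := by
  have h1 : (q ^ 4 + 1) % 4 = 1 ∨ (q ^ 4 + 1) % 4 = 2 := by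
    rcases (show q % 4 = 0 ∨ q % 4 = 1 ∨ q % 4 = 2 ∨ q % 4 = 3 by omega) with h | h | h | h <;>
      simp [Nat.add_mod, Nat.pow_mod, h]
  rw [Nat.gcd_rec]
  rcases h1 with h | h <;> rw [h] <;> decide

/-- **`PΩ₈⁻(q)`, own characteristic, odd dimension.** -/
theorem o8m_sd_odd (hC : Core P) (hn : Odd (Fintype.card ι)) {K : Type} [Field K] [Fintype K] [CharP K p] {a b : K}
    (hab : ∀ z₁ z₂ : K, z₁ ^ 2 + a * z₁ * z₂ + b * z₂ ^ 2 = 0 → z₁ = 0 ∧ z₂ = 0)
    (e : Soc P ≃* POmega K (quadFormMinus 3 K a b)) : SD P := by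
  have hA : HasSchurMultiplier (POmega K (quadFormMinus 3 K a b))
    (Multiplicative (ZMod (Nat.gcd 4 (Fintype.card K ^ 4 + 1)))) := S2099.result rfl 4 le_rfl a b hab
  obtain ⟨f, -⟩ := hC.equiv_of_coprime e hA (by
    rw [Nat.card_congr (Multiplicative.toAdd (α := ZMod _)), Nat.card_zmod]
    exact Nat.Coprime.coprime_dvd_left (gcd_dvd _) (Nat.coprime_two_left.2 hn))
  exact minus_sd p hC (by norm_num) (by decide) hab f.symm

end SD

end Cfsg.Agent.H48.DsO8m
end

-- part: H48/SzSeven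
section
/-!
# `Sz(q)` in dimension `q - 1` and characteristic `≠ 2` (helper48)

* `trivial_of_card` : a module of dimension `q - 1` over a group `U.T`, `U` of type `q^{1+1}`;
* **`sz8_false`** : no core with simple group `Sz(8)` in dimension 7, characteristic `≠ 2`.
-/

set_option autoImplicit false
set_option linter.unusedSectionVars false

universe u v w

namespace Cfsg.Agent.H48.SzSeven

open Cfsg

/-! ### the abstract argument -/

section abs

variable {k : Type*} [Field k] {V : Type*} [AddCommGroup V] [Module k V] {G : Type*} [Group G]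
  (ρ : G →* (V →ₗ[k] V)) {K : Type*} [Field K] [Finite K]

theorem ap_mul (g h : G) (v : V) : ρ (g * h) v = ρ g (ρ h v) := by rw [map_mul]; rfl

theorem ap_one (v : V) : ρ 1 v = v := by rw [map_one]; rfl

theorem ap_inj (g : G) {v v' : V} (h : ρ g v = ρ g v') : v = v' := by
  have h1 : ρ g⁻¹ (ρ g v) = ρ g⁻¹ (ρ g v') := by rw [h]
  rwa [← ap_mul, ← ap_mul, inv_mul_cancel, ap_one, ap_one] at h1

/-- a common eigenvector of commuting involutions -/
theorem exists_sign {z : K → G} (hz : ∀ x y, z (x + y) = z x * z y) (h2 : ∀ x : K, x + x = 0)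
    {b₁ : K} (hb₁ : ρ (z b₁) ≠ 1) (S : Finset K) :
    ∃ v : V, v ≠ 0 ∧ ρ (z b₁) v = -v ∧ ∀ b ∈ S, ρ (z b) v = v ∨ ρ (z b) v = -v := by
  classical
  have hz0 : z 0 = 1 := by
    have h := hz 0 0
    rw [add_zero] at h
    exact (mul_eq_left.1 h.symm)
  have hsq : ∀ (x : K) (v : V), ρ (z x) (ρ (z x) v) = v := fun x v => by
    rw [← ap_mul, ← hz, h2, hz0, ap_one]
  have hcomm : ∀ (x y : K) (v : V), ρ (z x) (ρ (z y) v) = ρ (z y) (ρ (z x) v) := fun x y v => by
    rw [← ap_mul, ← ap_mul, ← hz, ← hz, add_comm]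
  induction S using Finset.induction_on with
  | empty =>
    obtain ⟨w, hw⟩ : ∃ w, ρ (z b₁) w ≠ w := by
      by_contra hcon
      push Not at hcon
      exact hb₁ (LinearMap.ext hcon)
    refine ⟨w - ρ (z b₁) w, sub_ne_zero.2 (Ne.symm hw), ?_, fun b hb => absurd hb (Finset.notMem_empty b)⟩
    rw [map_sub, hsq, neg_sub]
  | insert b S hb ih =>
    obtain ⟨v, h0, h1, h3⟩ := ih
    by_cases h : v + ρ (z b) v = 0
    · refine ⟨v, h0, h1, fun c hc => ?_⟩
      rcases Finset.mem_insert.1 hc with rfl | hc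
      · right
        rw [eq_neg_iff_add_eq_zero, add_comm]
        exact h
      · exact h3 c hc
    · refine ⟨v + ρ (z b) v, h, ?_, fun c hc => ?_⟩
      · rw [map_add, hcomm, h1, map_neg, neg_add]
      · rcases Finset.mem_insert.1 hc with rfl | hc
        · left
          rw [map_add, hsq, add_comm]
        · rcases h3 c hc with h4 | h4
          · left
            rw [map_add, hcomm, h4]
          · right
            rw [map_add, hcomm, h4, map_neg, neg_add]

/-- **A module of dimension `q - 1`.** -/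
theorem trivial_of_card [FiniteDimensional k V] (hk : (2 : k) ≠ 0) {z : K → G}
    (hz : ∀ x y, z (x + y) = z x * z y) (h2 : ∀ x : K, x + x = 0) {d : Kˣ → G} {θ : K →+* K}
    (hd : ∀ (c : Kˣ) (b : K), d c * z b = z (θ c * b) * d c) {u : K → G} (hu : ∀ a b, u a * z b = z b * u a)
    {f : K → K → K} (hf : ∀ a a', u a * u a' = z (f a a') * (u a' * u a)) {a₀ a₁ : K} (hf0 : f a₀ a₁ ≠ 0)
    (hn : Module.finrank k V + 1 = Nat.card K) (b : K) : ρ (z b) = 1 := by
  classical
  have := Fintype.ofFinite K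
  by_contra hb₁
  obtain ⟨v, hv0, hv1, hv⟩ := exists_sign ρ hz h2 hb₁ Finset.univ
  have hz0 : z 0 = 1 := by
    have h := hz 0 0
    rw [add_zero] at h
    exact (mul_eq_left.1 h.symm)
  -- the character
  obtain ⟨χ, hχ⟩ : ∃ χ : K → k, ∀ c, ρ (z c) v = χ c • v := by
    have h1 : ∀ c, ∃ x : k, ρ (z c) v = x • v := fun c => by
      rcases hv c (Finset.mem_univ _) with h | h
      · exact ⟨1, by rw [h, one_smul]⟩
      · exact ⟨-1, by rw [h, neg_one_smul]⟩
    choose χ hχ using h1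
    exact ⟨χ, hχ⟩
  have hne : ∀ {x y : k}, x • v = y • v → x = y := fun {x y} h => smul_left_injective k hv0 h
  have hχadd : ∀ x y, χ (x + y) = χ x * χ y := by
    intro x y
    apply hne
    rw [← hχ, hz, ap_mul, hχ y, map_smul, hχ x, smul_smul, mul_comm]
  have hχb : χ b = -1 := hne (by rw [← hχ, hv1, neg_one_smul])
  have hχ0 : χ 0 = 1 := hne (by rw [← hχ, hz0, ap_one, one_smul])
  have hb0 : b ≠ 0 := by
    rintro rfl
    rw [hχ0] at hχb
    apply hk
    linear_combination hχb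
  have hχself : ∀ x, χ x * χ x = 1 := fun x => by rw [← hχadd, h2, hχ0]
  -- the conjugates
  have hθ : Function.Injective θ := θ.injective
  have hθ0 : ∀ c : Kˣ, θ (c : K) ≠ 0 := fun c h => c.ne_zero (hθ (by rw [h, map_zero]))
  have hdz : ∀ (c : Kˣ) (x : K), ρ (z x) (ρ (d c) v) = χ ((θ (c : K))⁻¹ * x) • ρ (d c) v := by
    intro c x
    have h1 : z x * d c = d c * z ((θ (c : K))⁻¹ * x) := by
      rw [hd, mul_inv_cancel_left₀ (hθ0 c)]
    rw [← ap_mul, h1, ap_mul, hχ, map_smul]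
  have hinj : Function.Injective (fun (c : Kˣ) (x : K) => χ ((θ (c : K))⁻¹ * x)) := by
    intro c c' h
    by_contra hcc
    have h1 : (θ (c : K))⁻¹ - (θ (c' : K))⁻¹ ≠ 0 := by
      intro h3
      apply hcc
      apply Units.ext
      exact hθ (inv_injective (sub_eq_zero.1 h3))
    set y := ((θ (c : K))⁻¹ - (θ (c' : K))⁻¹)⁻¹ * b with hy
    have h3 : χ ((θ (c : K))⁻¹ * y) = χ ((θ (c' : K))⁻¹ * y) := congrFun h y
    have h4 : (θ (c : K))⁻¹ * y = b + (θ (c' : K))⁻¹ * y := by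
      have h5 : ((θ (c : K))⁻¹ - (θ (c' : K))⁻¹) * y = b := by rw [hy, mul_inv_cancel_left₀ h1]
      linear_combination h5
    rw [h4, hχadd, hχb] at h3
    have h6 := hχself ((θ (c' : K))⁻¹ * y)
    have h7 : (2 : k) * (χ ((θ (c' : K))⁻¹ * y) * χ ((θ (c' : K))⁻¹ * y)) = 0 := by
      linear_combination -(χ ((θ (c' : K))⁻¹ * y)) * h3
    rw [h6, mul_one] at h7
    exact hk h7
  have hvc0 : ∀ c, ρ (d c) v ≠ 0 := fun c h => hv0 (ap_inj ρ (d c) (by rw [h, map_zero]))
  have hli : LinearIndependent k (fun c : Kˣ => ρ (d c) v) :=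
    H203.LS.linearIndependent_of_weights (fun x : K => ρ (z x)) _ (fun (c : Kˣ) (x : K) => χ ((θ (c : K))⁻¹ * x))
      hvc0 hdz hinj
  have hcard : Fintype.card Kˣ = Module.finrank k V := by
    rw [Fintype.card_units, ← Nat.card_eq_fintype_card, ← hn, Nat.add_sub_cancel]
  let B := basisOfLinearIndependentOfCardEqFinrank hli hcard
  have hB : ∀ c, B c = ρ (d c) v := fun c => by rw [coe_basisOfLinearIndependentOfCardEqFinrank]
  -- weight spaces have dimension one
  have hone : ∀ (c : Kˣ) (w : V), (∀ x, ρ (z x) w = χ ((θ (c : K))⁻¹ * x) • w) → ∃ s : k, w = s • ρ (d c) v := by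
    intro c w hw
    refine ⟨B.repr w c, ?_⟩
    have h1 : ∀ c' ≠ c, B.repr w c' = 0 := by
      intro c' hc'
      obtain ⟨x, hx⟩ : ∃ x, χ ((θ (c' : K))⁻¹ * x) ≠ χ ((θ (c : K))⁻¹ * x) := by
        by_contra hcon
        push Not at hcon
        exact hc' (hinj (funext hcon))
      have h3 : ρ (z x) w = ∑ c'', (B.repr w c'' * χ ((θ (c'' : K))⁻¹ * x)) • B c'' := by
        conv_lhs => rw [← B.sum_repr w]
        rw [map_sum]
        refine Finset.sum_congr rfl fun c'' _ => ?_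
        rw [map_smul, hB, hdz, smul_smul]
      have h4 : B.repr (ρ (z x) w) c' = B.repr w c' * χ ((θ (c' : K))⁻¹ * x) := by
        rw [h3, B.repr_sum_self]
      rw [hw x, map_smul, Finsupp.smul_apply, smul_eq_mul] at h4
      have h5 : B.repr w c' * (χ ((θ (c' : K))⁻¹ * x) - χ ((θ (c : K))⁻¹ * x)) = 0 := by linear_combination -h4
      exact (mul_eq_zero.1 h5).resolve_right (sub_ne_zero.2 hx)
    conv_lhs => rw [← B.sum_repr w]
    rw [Finset.sum_eq_single c (fun c' _ h => by rw [h1 c' h, zero_smul])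
      (fun h => absurd (Finset.mem_univ _) h), hB]
  have hun : ∀ (c : Kˣ) (a : K), ∃ s : k, ρ (u a) (ρ (d c) v) = s • ρ (d c) v := by
    intro c a
    apply hone
    intro x
    rw [← ap_mul, ← hu, ap_mul, hdz, map_smul]
  -- the commutators act trivially
  have htriv : ∀ c : Kˣ, χ ((θ (c : K))⁻¹ * f a₀ a₁) = 1 := by
    intro c
    obtain ⟨s, hs⟩ := hun c a₀
    obtain ⟨t, ht⟩ := hun c a₁
    have h1 : ρ (u a₀ * u a₁) (ρ (d c) v) = ρ (u a₁ * u a₀) (ρ (d c) v) := by
      rw [ap_mul, ap_mul, hs, ht, map_smul, map_smul, hs, ht, smul_comm]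
    rw [hf, ap_mul] at h1
    set w := ρ (u a₁ * u a₀) (ρ (d c) v) with hw
    have hw' : w = (t * s) • ρ (d c) v := by
      rw [hw, ap_mul, hs, map_smul, ht, smul_smul, mul_comm]
    have hw0 : w ≠ 0 := fun h => hvc0 c (ap_inj ρ (u a₁ * u a₀) (by rw [map_zero]; exact h))
    have h3 : ρ (z (f a₀ a₁)) w = χ ((θ (c : K))⁻¹ * f a₀ a₁) • w := by
      rw [hw', map_smul, hdz, smul_comm]
    rw [h1] at h3
    have h4 : (1 : k) • w = χ ((θ (c : K))⁻¹ * f a₀ a₁) • w := by rw [one_smul]; exact h3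
    exact (smul_left_injective k hw0 h4).symm
  -- contradiction
  obtain ⟨c, hc⟩ := (Finite.injective_iff_surjective.1 hθ) (f a₀ a₁ * b⁻¹)
  have hc0 : c ≠ 0 := by
    rintro rfl
    rw [map_zero] at hc
    exact mul_ne_zero hf0 (inv_ne_zero hb0) hc.symm
  have h1 := htriv (Units.mk0 c hc0)
  rw [Units.val_mk0, hc] at h1
  have h3 : (f a₀ a₁ * b⁻¹)⁻¹ * f a₀ a₁ = b := by field_simp
  rw [h3, hχb] at h1
  apply hk
  linear_combination -h1

end abs

/-! ### `Sz(8)` -/

section sz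

open Cfsg.Geo Matrix Cfsg.Agent.H915.LD Cfsg.Agent.LieRecognition.SzMatrix

variable {ι : Type} [Fintype ι] [DecidableEq ι] {F : Type u} [Field F] [Finite F] {P : Subgroup (GL ι F)}

/-- the linear maps -/
def toLin : GL ι F →* ((ι → F) →ₗ[F] (ι → F)) :=
  (Matrix.toLinAlgEquiv' : Matrix ι ι F ≃ₐ[F] _).toAlgHom.toMonoidHom.comp (Units.coeHom (Matrix ι ι F))

theorem toLin_injective : Function.Injective (toLin : GL ι F → _) := by
  intro g h hgh
  exact Units.ext ((Matrix.toLinAlgEquiv' (R := F) (n := ι)).injective hgh)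

/-- **`Sz(8)` has no representation of degree 7 in characteristic `≠ 2`.** -/
theorem sz8_rep {K : Type v} [Field K] [Fintype K] (hK : Fintype.card K = 8) (h2 : (2 : F) ≠ 0)
    (hn : Fintype.card ι = 7) (f : ↥(Cfsg.Lie.Sz K (2 ^ (1 + 1))) →* GL ι F) (hf : Function.Injective f) : False := by
  have hK' : Fintype.card K = 2 ^ (2 * 1 + 1) := hK
  have H := good hK'
  have : CharP K 2 := charP_two hK'
  obtain ⟨a, ha⟩ : ∃ a : K, a * theta hK' 1 + 1 * theta hK' a ≠ 0 := by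
    by_contra hcon
    push Not at hcon
    have h1 : ∀ a : K, theta hK' a = a := by
      intro a
      have h3 := hcon a
      rw [map_one, mul_one, one_mul] at h3
      rw [← sub_eq_zero, CharTwo.sub_eq_add, add_comm]
      exact h3
    have h3 : ∀ a : K, a ^ 2 = a := by
      intro a
      have h4 := H.sq a
      rw [h1, h1] at h4
      exact h4.symm
    have h4 : Fintype.card K ≤ 2 := by
      classical
      have h5 : (Finset.univ : Finset K) ⊆ {0, 1} := by
        intro a _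
        have h6 := h3 a
        have h7 : a * (a - 1) = 0 := by linear_combination h6
        rcases mul_eq_zero.1 h7 with h | h
        · simp only [h, _root_.Finset.mem_insert, _root_.Finset.mem_singleton, _root_.zero_ne_one, _root_.or_false]
        · simp only [sub_eq_zero.1 h, _root_.Finset.mem_insert, _root_.one_ne_zero, _root_.Finset.mem_singleton, _root_.or_true]
      exact (Finset.card_le_card h5).trans (Finset.card_le_two)
    omega
  have key := trivial_of_card (toLin.comp f) h2 (z := fun b => H.u 0 b) (d := fun c => H.d c) (θ := theta hK')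
    (u := fun a => H.u a 0) (f := fun a a' => a * theta hK' a' + a' * theta hK' a)
    (fun x y => by
      change H.u 0 (x + y) = H.u 0 x * H.u 0 y
      rw [H.u_mul]; congr 1 <;> simp)
    (fun x => CharTwo.add_self_eq_zero x)
    (fun c b => by
      change H.d c * H.u 0 b = H.u 0 (theta hK' c * b) * H.d c
      rw [H.d_mul_u]; congr 2 <;> ring)
    (fun a b => by
      change H.u a 0 * H.u 0 b = H.u 0 b * H.u a 0
      rw [H.u_mul, H.u_mul]; congr 1 <;> simp)
    (fun a a' => by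
      change H.u a 0 * H.u a' 0 = H.u 0 (a * theta hK' a' + a' * theta hK' a) * (H.u a' 0 * H.u a 0)
      rw [H.u_mul, H.u_mul, H.u_mul]
      congr 1
      · ring
      · have h := CharTwo.add_self_eq_zero (a' * theta hK' a)
        linear_combination -h)
    (a₀ := a) (a₁ := 1) (by simpa only [_root_.map_one, _root_.mul_one, _root_.one_mul, _root_.ne_eq] using ha)
    (by rw [Module.finrank_fintype_fun_eq_card, hn, Nat.card_eq_fintype_card, hK]) 1
  have h3 : f (H.u 0 1) = 1 := toLin_injective (by rw [map_one]; exact key)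
  have h4 : H.u 0 1 = 1 := hf (by rw [h3, map_one])
  rw [← H.u_zero] at h4
  exact one_ne_zero (H.u_inj h4).2

/-- **No core with simple group `Sz(8)` in dimension 7, characteristic `≠ 2`.** -/
theorem sz8_false (hC : Core P) (h2 : (2 : F) ≠ 0) (hn : Fintype.card ι = 7) (h : H912.Bd.IsSz8 (Soc P)) : False := by
  obtain ⟨K, iK, iKf, hK, ⟨e⟩⟩ := h
  obtain ⟨f, -⟩ := hC.equiv_of_coprime e (S2112.result hK) (by
    rw [hn]
    simp
    decide)
  exact sz8_rep hK h2 hn (P.subtype.comp f.symm.toMonoidHom) (P.subtype_injective.comp f.symm.injective)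

end sz

end Cfsg.Agent.H48.SzSeven
end

-- part: H48/SevenC
section
/-!
# Dimension seven: the inputs of `SevenB`, up to the sporadic groups, `PSU_N` and `Ω₇` in their own characteristic
(helper48)
-/

set_option autoImplicit false
set_option linter.unusedSectionVars false

universe u v

namespace Cfsg.Agent.H48.Seven

open Cfsg Cfsg.Geo Matrix Cfsg.Agent.H915.LD Cfsg.Agent.H912.Bd Cfsg.Agent.H912.Five

variable {F : Type u} [Field F] [Finite F] {P : Subgroup (GL (Fin 7) F)} (p : ℕ) [hp : Fact p.Prime] [CharP F p]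

/-- `Sp₆(2)`, `Ω₈⁺(2)` -/
theorem s62_sd (hC : Core P) (h2 : p ≠ 2) (h : IsS 3 2 (Soc P) ∨ IsOP 4 2 (Soc P)) : SD P := by
  have h2' : (2 : F) ≠ 0 := by exact_mod_cast cast_ne (F := F) p Nat.prime_two (Ne.symm h2)
  have key : ∀ (K : Type) [Field K] [Fintype K], Fintype.card K = 2 → ∀ x : K, x = 0 ∨ x = 1 := by
    intro K _ _ hK x
    by_cases hx : x = 0
    · exact Or.inl hx
    · right
      have h3 := FiniteField.pow_card_sub_one_eq_one x hx
      rwa [hK, pow_one] at h3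
  rcases h with ⟨K, iK, iKf, hK, ⟨e⟩⟩ | ⟨K, iK, iKf, hK, ⟨e⟩⟩
  · exact (H916.SpSix.spSix_seven (key K hK) hC p e h2' (by rw [Fintype.card_fin])).1
  · have h3 := H916.Om.omega_dim (key K hK) hC e h2' (by rw [Fintype.card_fin]; norm_num)
    rw [Fintype.card_fin] at h3
    omega

/-- exceptional groups in cross characteristic -/
theorem exc_false (hC : Core P) {r : ℕ} (hr : r.Prime) (hrp : r ≠ p) (h : ExcL r (Soc P)) (hPR : PR F 7 r (Soc P)) :
    False := by
  have hs : IsSimpleGroup (Soc P) := hC.simple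
  have hrF : (r : F) ≠ 0 := cast_ne p hr hrp
  rcases exc_cross hr hrF P hC.perfect (MulEquiv.refl _) (by norm_num) h with ⟨rfl, -, h1⟩ | ⟨rfl, h1⟩ | ⟨rfl, h1⟩ |
    ⟨rfl, -, h1⟩
  · obtain ⟨K, iK, iKf, hK, ⟨e⟩⟩ := h1
    have hch : CharP K 3 := H936.List12.charP_of_dvd Nat.prime_three (by rw [hK])
    have h2 : Bd F 3 (Nat.card K ^ 2 - 1) (Cfsg.Lie.chevG2.group K) := @bd_g2 K iK _ F _ 3 Nat.prime_three hch hrF
    have := h2.congr e 7 hPR
    rw [Nat.card_eq_fintype_card, hK] at this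
    omega
  · obtain ⟨K, iK, iKf, hK, ⟨e⟩⟩ := h1
    have hch : CharP K 2 := H936.List12.charP_of_dvd Nat.prime_two (by rw [hK]; norm_num)
    have h2 : Bd F 2 (Nat.card K ^ 2 - 1) (Cfsg.Lie.chevG2.group K) := @bd_g2 K iK _ F _ 2 Nat.prime_two hch hrF
    have := h2.congr e 7 hPR
    rw [Nat.card_eq_fintype_card, hK] at this
    omega
  · obtain ⟨K, iK, iKf, hK, e⟩ := h1
    have := H936.List12.le_of_ls' hC hrF (H936.F42.ls_f4_two hK) e
    omega
  · exact SzSeven.sz8_false hC (by exact_mod_cast hrF) (by rw [Fintype.card_fin]) h1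

include p hp in
/-- the Tits group -/
theorem tits_false (hC : Core P) (h : Lie.IsoTits (Soc P)) : False := by
  by_cases hp5 : p = 5
  · subst hp5
    have := H936.List12.le_of_ls' hC (cast_ne 5 Nat.prime_two (by norm_num)) H95.LSx.Tits.ls h
    omega
  · have h5 : Nat.Prime 5 := by norm_num
    have := H936.List12.le_of_orb hC h5 (cast_ne p h5 (fun h => hp5 h.symm)) H921.Spor.Tits.Tits_five
      (NoR.of_one Cfsg.Agent.S2115.result) h
    omega

/-- The open inputs. -/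
structure Rest2 (p : ℕ) (P : Subgroup (GL (Fin 7) F)) : Prop where
  spor : IsSporadicGroup (Soc P) → SD P
  psu : ∀ (K : Type) (_ : Field K) (_ : Fintype K) (_ : CharP K p) (N q : ℕ), Fintype.card K = q ^ 2 → 3 ≤ N → N ≤ 6 →
    ¬ (N = 3 ∧ q = 2) → Nonempty (Soc P ≃* PSU N K q) → SD P
  odd : ∀ (K : Type) (_ : Field K) (_ : Fintype K) (_ : CharP K p), Odd (Fintype.card K) →
    Nonempty (Soc P ≃* POmega K (quadFormOdd 3 K)) → SD P

theorem Rest2.rest (hC : Core P) (R : Rest2 p P) : Rest p P where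
  s62 := s62_sd p hC
  exc r hr hrp h hPR := (exc_false p hC hr hrp h hPR).elim
  tits h := (tits_false p hC h).elim
  spor := R.spor
  psl K _ _ _ l hl e := by
    obtain ⟨e⟩ := e
    exact (H887.DS.sd_of_psl p hC (by omega) (by rw [Fintype.card_fin]; omega)
      (by rw [Fintype.card_fin]; exact Or.inl rfl) e).1
  psu := R.psu
  odd := R.odd
  minus K _ _ _ a b hab e := by
    obtain ⟨e⟩ := e
    exact DsO8m.o8m_sd_odd p hC (by rw [Fintype.card_fin]; decide) hab e
  g2 K _ _ _ h3 e := by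
    obtain ⟨e⟩ := e
    exact DsChev.g2_sd p hC h3 e
  d4 K _ _ _ q hq hK e := by
    obtain ⟨e⟩ := e
    exact DsChev.d4_sd p hC hq hK e

end Cfsg.Agent.H48.Seven
end

-- part: H48/SporSeven
section
/-!
# Sporadic groups in dimension seven (helper48)

`spor_seven` : `SD P` or one of the groups with a small orbit table.
-/

set_option autoImplicit false
set_option linter.unusedSectionVars false

universe u v

namespace Cfsg.Agent.H48.Seven

open Cfsg Cfsg.Geo Matrix Cfsg.Agent.H915.LD Cfsg.Agent.H921.Spor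

variable {F : Type u} [Field F] [Finite F] {P : Subgroup (GL (Fin 7) F)}

/-- two primes different from 7 with orbits of length at least 8 -/
theorem no_pr2 (hC : Core P) {T : Type v} [Group T] (e : Soc P ≃* T) (h : Pr2 8 [7] T) : False := by
  have h1 := core_le hC e h (fun r hr hb hd => by
    rcases (Nat.dvd_prime (by norm_num : Nat.Prime 7)).1 hd with h | h
    · exact hr.one_lt.ne' h
    · exact hb (by simp [h]))
  omega

/-- one prime different from 7 and from the characteristic -/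
theorem no_orb (p : ℕ) [hp : Fact p.Prime] [CharP F p] (hC : Core P) {T : Type v} [Group T] (e : Soc P ≃* T) {r m : ℕ} (h : Orb r m T) (hr : r.Prime)
    (hrp : r ≠ p) (h7 : r ≠ 7) (hm : 8 ≤ m) : False := by
  have hrF : (r : F) ≠ 0 := cast_ne p hr hrp
  have h1 := hC.pr e (core_coprime hC hr (by
    rw [Fintype.card_fin]
    intro hd
    rcases (Nat.dvd_prime (by norm_num : Nat.Prime 7)).1 hd with h | h
    · exact hr.one_lt.ne' h
    · exact h7 h))
  have h2 := h.bd (F := F) hr hrF 7 h1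
  omega

/-- The open sporadic groups. -/
structure SporRest (p : ℕ) (P : Subgroup (GL (Fin 7) F)) : Prop where
  m12 : p = 3 → Spor.IsoM12 (Soc P) → SD P
  fi22 : p = 2 → Spor.IsoFi22 (Soc P) → SD P

/-- a lower bound for all kernels, characteristic `≠ 2` -/
theorem no_ls (p : ℕ) [hp : Fact p.Prime] [CharP F p] (hC : Core P) {T : Type v} [Group T] (e : Soc P ≃* T)
    (hp2 : p ≠ 2) (h : H203.LS.LS.{v, u, u} 2 28 T) : False := by
  have := H936.List12.le_of_ls' hC (cast_ne p Nat.prime_two (Ne.symm hp2)) h ⟨e⟩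
  omega

theorem spor_seven (p : ℕ) [hp : Fact p.Prime] [CharP F p] (hC : Core P) (h : IsSporadicGroup (Soc P))
    (R : SporRest p P) : SD P := by
  have hs := hC.simple
  have hnc := core_nc hC
  have nc : ∀ {T' : Type} [Group T'], (Soc P ≃* T') → ∃ a b : T', a * b ≠ b * a := by
    intro T' _ e
    obtain ⟨a, b, hab⟩ := hnc
    refine ⟨e a, e b, fun h => hab (e.injective ?_)⟩
    rw [map_mul, map_mul, h]
  have sp : ∀ {T' : Type} [Group T'], (Soc P ≃* T') → IsSimpleGroup T' := fun e =>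
    (MulEquiv.isSimpleGroup_congr e).1 hs
  have h3 : Nat.Prime 3 := Nat.prime_three
  rcases h with h | h | h | h | h | h | h | h | h | h | h | h | h | h | h | h | h | h | h | h | h | h | h | h | h | h
  · rcases H6.M11.m11 hC p h (by rw [Fintype.card_fin]; norm_num) with h1 | ⟨h1, -⟩ | ⟨h1, -⟩
    · exact h1
    · rw [Fintype.card_fin] at h1; omega
    · rw [Fintype.card_fin] at h1; omega
  · by_cases hp3 : p = 3
    · exact R.m12 hp3 h
    · obtain ⟨e⟩ := h
      exact (no_orb p hC e (M24.M12_three.orb (by norm_num)) h3 (Ne.symm hp3) (by norm_num) le_rfl).elim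
  · obtain ⟨e⟩ := h
    exact (no_pr2 hC e (Pr2.mk' 3 2 M24.M22_three M24.M22_two (by norm_num) (by norm_num) (by norm_num))).elim
  · obtain ⟨e⟩ := h
    exact (no_pr2 hC e (Pr2.mk' 3 23 M24.M23_three (M24.M23_twentythree.orb (by norm_num)) (by norm_num) (by norm_num)
      (by norm_num))).elim
  · obtain ⟨e⟩ := h
    exact (no_pr2 hC e (Pr2.mk' 3 11 M24.M24_three (M24.M24_eleven.orb (by norm_num)) (by norm_num) (by norm_num)
      (by norm_num))).elim
  · exact H1.TJ1.sd_iso hC h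
  · exact H1.TJ2.sd_iso hC h (by rw [Fintype.card_fin]; norm_num)
  · obtain ⟨K, _, _, ω, hF, hω, ⟨e⟩⟩ := h
    have H := Cfsg.Agent.J3.Core.good_of_card hF hω
    exact (no_pr2 hC e (Pr2.mk' 19 17 ((J3.J3_nineteen hF H).orb (by norm_num)) ((J3.J3_seventeen hF H).orb (by norm_num))
      (by norm_num) (by norm_num) (by norm_num))).elim
  · obtain ⟨e⟩ := h
    exact (no_pr2 hC e (Pr2.mk' 3 11 J4.J4_three (J4.J4_eleven.orb (by norm_num)) (by norm_num) (by norm_num)
      (by norm_num))).elim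
  · obtain ⟨e⟩ := h
    exact (no_pr2 hC e (Pr2.mk' 3 23 Co.Co1_three (Co.Co1_twentythree.orb (by norm_num)) (by norm_num) (by norm_num)
      (by norm_num))).elim
  · obtain ⟨e⟩ := h
    exact (no_pr2 hC e (Pr2.mk' 3 2 Co.Co2_three Co.Co2_two (by norm_num) (by norm_num) (by norm_num))).elim
  · obtain ⟨e⟩ := h
    exact (no_pr2 hC e (Pr2.mk' 3 23 Co.Co3_three (Co.Co3_twentythree.orb (by norm_num)) (by norm_num) (by norm_num)
      (by norm_num))).elim
  · obtain ⟨e⟩ := h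
    exact (no_pr2 hC e (Pr2.mk' 3 2 Co.McL_three Co.McL_two (by norm_num) (by norm_num) (by norm_num))).elim
  · obtain ⟨e⟩ := h
    exact (no_pr2 hC e (Pr2.mk' 3 2 Co.HS_three Co.HS_two (by norm_num) (by norm_num) (by norm_num))).elim
  · obtain ⟨e⟩ := h
    exact (no_pr2 hC e (Pr2.mk' 3 11 Suz.Suz_three (Suz.Suz_eleven.orb (by norm_num)) (by norm_num) (by norm_num)
      (by norm_num))).elim
  · obtain ⟨e⟩ := h
    exact (no_pr2 hC e (Pr2.mk' 3 2 He.He_three He.He_two (by norm_num) (by norm_num) (by norm_num))).elim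
  · obtain ⟨e⟩ := h
    exact (no_pr2 hC e (Pr2.mk' 29 13 (Ru.Ru_twentynine.orb (by norm_num)) (Ru.Ru_thirteen.orb (by norm_num))
      (by norm_num) (by norm_num) (by norm_num))).elim
  · obtain ⟨e⟩ := h
    have := H489.Deg.ON.on_le hp.out hC e
    omega
  · obtain ⟨e⟩ := h
    have := H489.Deg.Ly.ly_le hp.out hC e
    omega
  · by_cases hp2 : p = 2
    · exact R.fi22 hp2 h
    · obtain ⟨e⟩ := h
      have := sp e
      exact (no_ls p hC e hp2 (H806.Ls.fi22_ls_two (nc e))).elim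
  · by_cases hp3 : p = 3
    · obtain ⟨e⟩ := h
      have := sp e
      exact (no_ls p hC e (by omega) (H806.Ls.fi23_ls_two (nc e))).elim
    · obtain ⟨e⟩ := h
      exact (no_orb p hC e (Fi.Fi23_three (nc e)) h3 (Ne.symm hp3) (by norm_num) le_rfl).elim
  · obtain ⟨e⟩ := h
    exact (no_pr2 hC e (Pr2.mk' 5 3 Fi24.Fi24_five (Fi.Fi24_three (nc e)) (by norm_num) (by norm_num)
      (by norm_num))).elim
  · obtain ⟨e⟩ := h
    have := H489.Deg.HN.hn_le hp.out hC e
    omega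
  · obtain ⟨e⟩ := h
    have := H489.Deg.Th.th_le hp.out hC e
    omega
  · by_cases hp3 : p = 3
    · obtain ⟨e⟩ := h
      have := sp e
      exact (no_ls p hC e (by omega) (H806.Ls.b_ls_two (nc e))).elim
    · obtain ⟨e⟩ := h
      exact (no_orb p hC e (Fi.B_three (nc e)) h3 (Ne.symm hp3) (by norm_num) le_rfl).elim
  · by_cases hp3 : p = 3
    · obtain ⟨e⟩ := h
      have := sp e
      exact (no_ls p hC e (by omega) (H806.Ls.m_ls_two (nc e))).elim
    · obtain ⟨e⟩ := h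
      exact (no_orb p hC e (Fi.M_three (nc e)) h3 (Ne.symm hp3) (by norm_num) le_rfl).elim

end Cfsg.Agent.H48.Seven
end

private theorem dce_2556739aa8d9 : _root_.True := by
  try have : _root_.True := by simp only [_root_.Cfsg.Agent.H48.DsO8m.cc.eq_1]
  try have : _root_.True := by simp only [_root_.Cfsg.Agent.TitsThree.KSideO.wminus.congr_simp]
  exact _root_.True.intro
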