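import Cfsg.Agent.H48.SporSeven
import Cfsg.Agent.H218.SdFin
import Cfsg.Agent.H925.U52Form
import Cfsg.Agent.H48.M12Three
import Cfsg.Agent.H806.LsFiLe
import Cfsg.Agent.Prune
set_option linter.all false
prune_inst 0x7f00000000000000000000000000000000000000000000000000000000000000000000000000000000000000000000000000000000000000000000000000000000000000000000000000000000000000003fffffffffffffffffffffffffffbeffbdffffffff
open scoped Cfsg.Agent.FastGrp

-- part: H48/SevenD
section
/-!
# Dimension seven: the final assembly (helper48)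

`Rest3 p P` : the inputs on `PSU_4`, `PSU_5`, `PSU_6` in their own characteristic, `M₁₂` in characteristic 3 and `Fi₂₂` in
characteristic 2.
-/

set_option autoImplicit false
set_option linter.unusedSectionVars false

universe u v

namespace Cfsg.Agent.H48.Seven

open Cfsg Cfsg.Geo Matrix Cfsg.Agent.H915.LD Cfsg.Agent.H912.Bd Cfsg.Agent.H912.Five

variable {F : Type u} [Field F] [Finite F] {P : Subgroup (GL (Fin 7) F)} (p : ℕ) [hp : Fact p.Prime] [CharP F p]

/-- The open inputs. -/
structure Rest3 (p : ℕ) (P : Subgroup (GL (Fin 7) F)) : Prop where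
  spor : SporRest p P
  psu : ∀ (K : Type) (_ : Field K) (_ : Fintype K) (_ : CharP K p) (N q : ℕ), Fintype.card K = q ^ 2 → 4 ≤ N → N ≤ 6 →
    Nonempty (Soc P ≃* PSU N K q) → SD P

theorem two_le_of_sq {K : Type} [Field K] [Fintype K] {q : ℕ} (hK : Fintype.card K = q ^ 2) : 2 ≤ q := by
  have h1 := Fintype.one_lt_card (α := K)
  rw [hK] at h1
  by_contra hcon
  have h2 : q ≤ 1 := by omega
  have h3 : q ^ 2 ≤ 1 := by nlinarith
  omega

theorem Rest3.rest (hC : Core P) (R : Rest3 p P) : Rest p P :=
  Rest2.rest p hC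
    { spor := fun h => spor_seven p hC h R.spor
      psu := fun K _ _ _ N q hK h3 h6 h32 e => by
        rcases (show N = 3 ∨ 4 ≤ N by omega) with rfl | h4
        · obtain ⟨e⟩ := e
          have hq := two_le_of_sq hK
          rcases H929.U3.core_psu3 p hC (by omega) hK e (by rw [Fintype.card_fin]; norm_num) with h | ⟨-, h⟩
          · exact h
          · rw [Fintype.card_fin] at h
            omega
        · exact R.psu K inferInstance inferInstance inferInstance N q hK h4 h6 e
      odd := fun K _ _ _ hodd e => by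
        obtain ⟨e⟩ := e
        refine H218.SdFin.sd_PO_odd (p := p) hC ?_ le_rfl (by rw [Fintype.card_fin]; norm_num)
          (by rw [Fintype.card_fin]; norm_num) e
        intro h2
        have h3 : CharP K 2 := CharTwo.of_one_ne_zero_of_two_eq_zero one_ne_zero h2
        have h4 := FiniteField.cast_card_eq_zero K
        rw [CharP.cast_eq_zero_iff K 2] at h4
        exact (Nat.not_even_iff_odd.2 hodd) (even_iff_two_dvd.2 h4) }

end Cfsg.Agent.H48.Seven
end

-- part: H48/SevenE
section
/-!
# Dimension seven: the linear row (helper48)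

`seven_linear` : the row `S5809`; the groups `PSU_N`, `N ≥ 4`, in their own characteristic fall to the class of the subgroups
preserving a Hermitian form.
-/

set_option autoImplicit false
set_option linter.unusedSectionVars false

universe u v

namespace Cfsg.Agent.H48.Seven

open Cfsg Cfsg.Geo Matrix Cfsg.Agent.H915.LD Cfsg.Agent.H912.Bd Cfsg.Agent.H912.Five

/-- the sporadic groups -/
theorem spor_rest {F : Type u} [Field F] [Finite F] {P : Subgroup (GL (Fin 7) F)} (p : ℕ) [hp : Fact p.Prime] [CharP F p]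
    (hC : Core P) : SporRest p P where
  m12 := fun h3 h => by
    subst h3
    exact (M12T.m12_three_odd hC (CharP.cast_eq_zero F 3) h (Or.inl (Fintype.card_fin 7))).elim
  fi22 := fun _ h => by
    obtain ⟨e⟩ := h
    have := H806.Ls.fi22_le hp.out hC e
    omega

/-- `PSU_N(q)`, `N ≥ 4`, in the defining characteristic -/
def UD {F : Type u} [Field F] (p : ℕ) (P : Subgroup (GL (Fin 7) F)) : Prop :=
  ∃ (K : Type) (_ : Field K) (_ : Fintype K) (_ : CharP K p) (N q : ℕ), Fintype.card K = q ^ 2 ∧ 4 ≤ N ∧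
    Nonempty (Soc P ≃* PSU N K q)

/-- **All groups**, without the unitary groups in their own characteristic. -/
theorem seven_all {F : Type u} [Field F] [Finite F] {P : Subgroup (GL (Fin 7) F)} (p : ℕ) [hp : Fact p.Prime] [CharP F p]
    (hC : Core P) (hk : IsKnownSimple' (Soc P)) (hsd : ¬ SD P) :
    U33 p P ∨ P = specialLinear (Fin 7) F ∨ UD p P := by
  by_cases hU : UD p P
  · exact Or.inr (Or.inr hU)
  · have R : Rest3 p P :=
      { spor := spor_rest p hC
        psu := fun K i1 i2 i3 N q hK h4 _ e => absurd ⟨K, i1, i2, i3, N, q, hK, h4, e⟩ hU }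
    rcases seven_main p hC hk (Rest3.rest p hC R) hsd with h | h | ⟨K, i1, i2, i3, N, q, hK, hN, e⟩
    · exact Or.inl h
    · exact Or.inr (Or.inl h)
    · exact absurd ⟨K, i1, i2, i3, N, q, hK, by omega, e⟩ hU

variable {F : Type u} [Field F] [Fintype F]

/-- **The linear row**, `S5809`. -/
theorem seven_linear (hk : ∀ P : Subgroup (GL (Fin 7) F), Core P → IsKnownSimple' (Soc P))
    (H : Subgroup (Matrix.GeneralLinearGroup (Fin 7) F))
    (hH : Cfsg.Geo.IsMaximalIn (Cfsg.Geo.specialLinear (Fin 7) F) H) (hS : Cfsg.Geo.InLinearResidualClass H) :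
    ∃ (P : Subgroup (Matrix.GeneralLinearGroup (Fin 7) F)) (p : ℕ), Cfsg.Geo.IsResidualCore H P ∧ p.Prime ∧
      Fintype.card F = p ∧ p % 4 = 1 ∧ (∃ (K : Type) (_ : Field K) (_ : Fintype K), Fintype.card K = 9 ∧
        Nonempty ((P ⧸ (Cfsg.Geo.scalars (Fin 7) F).subgroupOf P) ≃* Cfsg.PSU 3 K 3)) := by
  obtain ⟨p, hpF⟩ := CharP.exists F
  have hp : Fact p.Prime := ⟨CharP.char_is_prime F p⟩
  obtain ⟨P, hP, hC, hsd, hcj⟩ := linear_core hS
  rcases seven_all p hC (hk P hC) hsd with ⟨h, h3, h2, hfr, hc⟩ | h | h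
  · rcases odd_mod p h3 h2 with h4 | h4
    · exact ⟨P, p, hP, hp.out, hC.card_eq p (hfr h4), h4, u33_concl h⟩
    · exfalso
      have h5 := hc h4
      refine hcj p hp hpF 1 ?_
      rwa [pow_one]
  · exact (hH.1.not_ge (by rw [← h]; exact hP.le)).elim
  · exfalso
    obtain ⟨K, i1, i2, i3, N, q, hK, hN, ⟨e⟩⟩ := h
    have h5 := NatSU.psu_cj hC p hK (by omega) (by omega) e
    obtain ⟨p', b, hp', hch, hqb, hb⟩ := LieClassical.HermBasic.exists_prime_pow hK
    obtain rfl : p' = p := CharP.eq K hch ‹_›
    rw [hqb] at h5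
    exact hcj p' hp hpF b h5

end Cfsg.Agent.H48.Seven
end
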